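import Cfsg.Agent.Lib.Fusion.SFreeFF.Functors

/-!
Fusion inside a Sylow subgroup of a group without a section `S₄`, one step at a time: conjugation of a subgroup is
realised inside any subgroup containing the relevant elements of the normalisers of `Z(T)` and `J(T)`.
-/

set_option autoImplicit false
set_option linter.unusedSectionVars false
set_option linter.style.haveILetI false

namespace CfsgLib.SFreeW

open CfsgLib.Fusion.SFreeFF CfsgLib.KGroups.Functor

universe u

variable {G : Type u} [Group G] [Finite G]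

/-- An element carrying `A` inside `T` agrees on `A` with an element of `M`. -/
theorem exists_agree (h4 : ¬ Cfsg.Involves (Equiv.Perm (Fin 4)) G) {T M A : Subgroup G} (hT : SylIn T ⊤)
    (hM : ∀ W ∈ zjPair.{u}, ∀ x ∈ Subgroup.normalizer (Cfsg.inducedFunctor W T : Set G), ∀ m ∈ M,
      cj A m ≤ T → cj A (x * m) ≤ T → x ∈ M)
    {g : G} (hA : A ≤ T) (hgA : cj A g ≤ T) : ∃ m ∈ M, ∀ a ∈ A, g * a * g⁻¹ = m * a * m⁻¹ := by
  haveI : Fact (Nat.Prime 2) := ⟨Nat.prime_two⟩
  have hPs : LocalEven.SylowIn.IsSylowIn 2 T ⊤ :=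
    ⟨le_top, hT.pgroup, fun U hU h2 h => hT.max U hU h2 h⟩
  obtain ⟨g', hg', he⟩ := agrees_of_familyControls (p := 2) (by
    rintro _ ⟨W, hW, rfl⟩
    exact isConjugacyFunctor_induced (isCharPFunctor_zjPair W hW))
    (zjPair_controls h4 G (sec_self G)) hPs (x := g) trivial hA hgA
  refine ⟨g', ?_, he⟩
  have key : ∀ {B : Subgroup G} {z : G}, Chain (CtrlStep (ind G zjPair) T ⊤) B z →
      ∀ m ∈ M, cj A m = B → z * m ∈ M := by
    intro B z hz
    induction hz with
    | refl B => intro m hm _; rwa [one_mul]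
    | @step B x y hx _ ih =>
      intro m hm hmB
      obtain ⟨W', hW', hxN, hB, hBx⟩ := hx
      obtain ⟨W, hW, rfl⟩ := hW'
      have hxm : cj A (x * m) = cj B x := by rw [← cj_cj, hmB]
      have hxM := hM W hW x hxN.2 m hm (hmB ▸ hB) (hxm ▸ hBx)
      rw [mul_assoc]
      exact ih (x * m) (M.mul_mem hxM hm) hxm
  simpa using key hg' 1 (one_mem M) (cj_one A)

end CfsgLib.SFreeW
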