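import Cfsg.Agent.Lib.SFreeW.Span
import Cfsg.Agent.Lib.Fusion.SFreeFF.Factorisation

/-!
The Thompson subgroup centralises a normal elementary abelian subgroup spanned by the conjugates of a piece on which
the Sylow subgroup induces no offender, in a group without a section `S₄`.
-/

set_option autoImplicit false
set_option linter.unusedSectionVars false
set_option linter.style.haveILetI false

namespace CfsgLib.SFreeW

open Subgroup
open CfsgLib.Fusion.SFreeFF CfsgLib.Fusion.CentralOffender

universe u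

variable {X : Type u} [Group X] [Finite X]

/-- `T` induces no quadratic offender on the elementary abelian subgroup `W`. -/
def NoOffG {X : Type*} [Group X] (T W : Subgroup X) : Prop :=
  ∀ B ≤ T, (∀ e ∈ B, ∀ f ∈ B, ∀ w ∈ W, e * (f * w * f⁻¹ * w⁻¹) * e⁻¹ = f * w * f⁻¹ * w⁻¹) →
    ¬ B ≤ centralizer (W : Set X) →
    (centralizer (W : Set X)).relIndex B * Nat.card ↥(W ⊓ centralizer (B : Set X)) < Nat.card W

theorem noOffG_of_central {T W : Subgroup X} (h : T ≤ centralizer (W : Set X)) : NoOffG T W :=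
  fun _ hB _ hne => absurd (hB.trans h) hne

/-- A quadratic offender in `T` centralises the span. -/
theorem le_centralizer_of_offender (h4 : ¬ Cfsg.Involves (Equiv.Perm (Fin 4)) X) {V W T : Subgroup X} [V.Normal]
    (hT : SylIn T ⊤) (hV : Cfsg.IsElementaryAbelian 2 V) (hWV : W ≤ V) (hTW : T ≤ normalizer (W : Set X))
    (hgen : V ≤ normalClosure (W : Set X)) (hW : NoOffG T W)
    {B : Subgroup X} (hq : ⁅⁅V, B⁆, B⁆ = ⊥)
    (hw : Nat.card V * Nat.card ↥(B ⊓ centralizer (V : Set X)) ≤
      Nat.card B * Nat.card ↥(V ⊓ centralizer (B : Set X))) :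
    B ≤ centralizer (V : Set X) := by
  haveI := hV.1
  letI : CommGroup V := { (inferInstance : Group V) with mul_comm := hV.1.is_comm.comm }
  let χ : X →* MulAut V := MulAut.conjNormal
  have hχ : ∀ (g : X) (v : V), (χ g v : X) = g * (v : X) * g⁻¹ := fun g v => MulAut.conjNormal_apply g v
  have hker : χ.ker = centralizer (V : Set X) := by
    ext x
    constructor
    · intro hx
      refine mem_centralizer_iff.mpr fun v hv => ?_
      have := congrArg Subtype.val (DFunLike.congr_fun (MonoidHom.mem_ker.mp hx) (⟨v, hv⟩ : V))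
      rw [hχ] at this
      exact (mul_inv_eq_iff_eq_mul.mp this).symm
    · intro hx
      refine MonoidHom.mem_ker.mpr (MulEquiv.ext fun v => Subtype.ext ?_)
      rw [hχ, ← mem_centralizer_iff.mp hx v v.2, mul_inv_cancel_right]
      rfl
  haveI := finite_mulAut V
  have hS3 : NoS3 χ.range := fun hi => by
    refine noS3_quotient h4 (CfsgLib.Fusion.Thompson.isPGroup_isEA hV) ?_
    refine CfsgLib.Fsys.involves_of_surjective
      (e := QuotientGroup.lift (centralizer (V : Set X)) χ.rangeRestrict fun x hx =>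
        MonoidHom.mem_ker.mpr (Subtype.ext (MonoidHom.mem_ker.mp (hker.ge hx)))) (fun y => ?_) hi
    obtain ⟨x, rfl⟩ := χ.rangeRestrict_surjective y
    exact ⟨QuotientGroup.mk x, rfl⟩
  by_contra hnot
  have hne : B.map χ.rangeRestrict ≠ ⊥ := fun h => hnot fun x hx => hker ▸ MonoidHom.mem_ker.mpr
    (congrArg Subtype.val ((Subgroup.eq_bot_iff_forall _).mp h _ ⟨x, hx, rfl⟩))
  have hquad : Quad χ.range.subtype (B.map χ.rangeRestrict) := by
    rintro _ ⟨e, he, rfl⟩ _ ⟨f, hf, rfl⟩ v
    refine Subtype.ext ?_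
    show (χ e (χ f v * v⁻¹) : X) = (χ f v * v⁻¹ : V)
    rw [hχ]
    have hm : ((χ f v * v⁻¹ : V) : X) ∈ ⁅V, B⁆ := by
      rw [Subgroup.coe_mul, hχ, Subgroup.coe_inv]
      have h := inv_mem (Subgroup.commutator_mem_commutator v.2 hf)
      rwa [commutatorElement_inv, commutatorElement_def] at h
    have h := (commutator_eq_bot_iff_le_centralizer.mp hq) hm
    rw [← mem_centralizer_iff.mp h e he |> fun h => h.symm, mul_inv_cancel_right]
  -- the Sylow subgroup of the image
  set T' := T.map χ.rangeRestrict with hT'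
  have hT's : SylIn T' ⊤ := by
    haveI : Fact (Nat.Prime 2) := ⟨Nat.prime_two⟩
    refine ⟨le_top, hT.pgroup.map _, fun Q _ hQ hle => ?_⟩
    obtain ⟨S', hS', -⟩ := exists_sylIn (Subgroup.map_le_iff_le_comap.mp hle) hT.pgroup
    have hcov := hS'.map_eq χ.rangeRestrict (hQ.to_le (Subgroup.map_comap_le _ _))
    rw [Subgroup.map_comap_eq_self_of_surjective χ.rangeRestrict_surjective] at hcov
    obtain ⟨l, -, hl⟩ := hT.exists_conj_le le_top hS'.pgroup
    refine (Subgroup.eq_of_le_of_card_ge hle ?_).symm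
    rw [← hcov, hT']
    refine le_trans (Subgroup.card_le_of_le (Subgroup.map_mono hl)) (le_of_eq ?_)
    rw [cj, Subgroup.map_map, show χ.rangeRestrict.comp (MulAut.conj l).toMonoidHom =
      (MulAut.conj (χ.rangeRestrict l)).toMonoidHom.comp χ.rangeRestrict from
        MonoidHom.ext fun x => by simp, ← Subgroup.map_map]
    exact Subgroup.card_map_of_injective (MulAut.conj (χ.rangeRestrict l)).injective
  have h := Span.no_offender_span _ rfl χ.range.subtype Subtype.val_injective (fun v => Subtype.ext (by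
    rw [Subgroup.coe_mul, ← pow_two]; exact hV.2 v v.2)) hS3 (W.subgroupOf V) T' hT's (by
      rintro _ ⟨t, ht, rfl⟩ w hw
      show ((χ t w : V) : X) ∈ W
      rw [hχ]
      exact (mem_normalizer_iff.mp (hTW ht) _).mp hw) (by
      refine top_le_iff.mp fun z _ => ?_
      set S₁ := {v : V | ∃ g : χ.range, ∃ w ∈ W.subgroupOf V, χ.range.subtype g w = v}
      have hz : normalClosure (W : Set X) ≤ (Subgroup.closure S₁).map V.subtype := by
        refine (Subgroup.closure_le _).mpr fun y hy => ?_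
        obtain ⟨w, hw, hwy⟩ := Group.mem_conjugatesOfSet_iff.mp hy
        obtain ⟨g, rfl⟩ := _root_.isConj_iff.mp hwy
        exact ⟨χ g ⟨w, hWV hw⟩, Subgroup.subset_closure ⟨χ.rangeRestrict g, ⟨w, hWV hw⟩, hw, rfl⟩, hχ g _⟩
      obtain ⟨z', hz', he⟩ := hz (hgen z.2)
      exact Subtype.ext he ▸ hz') (by
      intro B' hB' hq' hne'
      set B₀ := T ⊓ B'.comap χ.rangeRestrict
      have hBmap : B₀.map χ.rangeRestrict = B' := le_antisymm (by rintro _ ⟨x, hx, rfl⟩; exact hx.2)
        fun x hx => by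
          obtain ⟨t, ht, rfl⟩ := hB' hx
          exact ⟨t, ⟨ht, hx⟩, rfl⟩
      have h := hW B₀ inf_le_left (fun e he f hf w hw => by
        have h' : ((χ e (χ f ⟨w, hWV hw⟩ * (⟨w, hWV hw⟩ : V)⁻¹) : V) : X) =
            ((χ f ⟨w, hWV hw⟩ * (⟨w, hWV hw⟩ : V)⁻¹ : V) : X) :=
          congrArg Subtype.val (hq' _ he.2 _ hf.2 ⟨w, hWV hw⟩ hw)
        rw [hχ, Subgroup.coe_mul, hχ, Subgroup.coe_inv] at h'
        exact h') (fun h => hne' (by
        rw [← hBmap]
        rintro _ ⟨x, hx, rfl⟩ w hw
        refine Subtype.ext ((hχ x w).trans ?_)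
        rw [← mem_centralizer_iff.mp (h hx) (w : X) (mem_subgroupOf.mp hw), mul_inv_cancel_right]))
      have e1 : W ⊓ centralizer (B₀ : Set X) = (fix χ.range.subtype B' ⊓ W.subgroupOf V).map V.subtype := by
        ext v
        constructor
        · rintro ⟨hvW, hv⟩
          refine ⟨⟨v, hWV hvW⟩, ⟨?_, hvW⟩, rfl⟩
          rw [← hBmap]
          rintro _ ⟨x, hx, rfl⟩
          refine Subtype.ext ((hχ x _).trans ?_)
          show x * v * x⁻¹ = v
          rw [mem_centralizer_iff.mp hv x hx, mul_inv_cancel_right]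
        · rintro ⟨z, ⟨hz, hzW⟩, rfl⟩
          refine ⟨hzW, mem_centralizer_iff.mpr fun x hx => ?_⟩
          have h3 := (hχ x z).symm.trans (congrArg Subtype.val (hz _ (hBmap.le ⟨x, hx, rfl⟩)))
          exact mul_inv_eq_iff_eq_mul.mp h3
      have e2 : (centralizer (W : Set X)).relIndex B₀ =
          (stab χ.range.subtype (W.subgroupOf V)).relIndex B' := by
        rw [← hBmap, ← Subgroup.relIndex_comap]
        congr 1
        ext x
        refine ⟨fun hx w hw => Subtype.ext ((hχ x w).trans ?_), fun hx => mem_centralizer_iff.mpr fun w hw => ?_⟩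
        · rw [← mem_centralizer_iff.mp hx (w : X) (mem_subgroupOf.mp hw), mul_inv_cancel_right]
        · exact (mul_inv_eq_iff_eq_mul.mp ((hχ x _).symm.trans (congrArg Subtype.val (hx ⟨w, hWV hw⟩ hw)))).symm
      rw [e1, e2, Subgroup.card_map_of_injective V.subtype_injective,
        ← Nat.card_congr (Subgroup.subgroupOfEquivOfLe hWV).toEquiv] at h
      exact h) _ hne hquad
  have hf : fix χ.range.subtype (B.map χ.rangeRestrict) = (V ⊓ centralizer (B : Set X)).subgroupOf V := by
    ext v
    constructor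
    · intro hv
      refine mem_subgroupOf.mpr ⟨v.2, mem_centralizer_iff.mpr fun b hb => ?_⟩
      have := congrArg Subtype.val (hv _ ⟨b, hb, rfl⟩)
      exact mul_inv_eq_iff_eq_mul.mp ((hχ b v).symm.trans this)
    · rintro hv _ ⟨b, hb, rfl⟩
      refine Subtype.ext ((hχ b v).trans ?_)
      rw [mem_centralizer_iff.mp (mem_subgroupOf.mp hv).2 b hb, mul_inv_cancel_right]
  have hc : Nat.card (B.map χ.rangeRestrict) * Nat.card ↥(B ⊓ centralizer (V : Set X)) = Nat.card B := by
    rw [← hker, ← MonoidHom.ker_rangeRestrict χ, ← relIndex_ker, ← inf_relIndex_left, inf_comm]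
    have h1 := relIndex_mul_relIndex (⊥ : Subgroup X) (B ⊓ χ.rangeRestrict.ker) B bot_le inf_le_left
    rw [relIndex_bot_left, relIndex_bot_left] at h1
    rw [← h1]
    simp only [inf_comm]
    rw [mul_comm]
  rw [wt, hf, Nat.card_congr (subgroupOfEquivOfLe inf_le_left).toEquiv] at h
  have h' := Nat.mul_lt_mul_of_pos_right h (Nat.card_pos (α := ↥(B ⊓ centralizer (V : Set X))))
  rw [mul_right_comm, hc] at h'
  exact absurd hw (not_le.mpr h')

/-- The Thompson subgroup centralises the span. -/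
theorem thompson_centralizes (h4 : ¬ Cfsg.Involves (Equiv.Perm (Fin 4)) X) {V W T : Subgroup X} [V.Normal]
    (hT : SylIn T ⊤) (hV : Cfsg.IsElementaryAbelian 2 V) (hVT : V ≤ T) (hWV : W ≤ V)
    (hTW : T ≤ normalizer (W : Set X)) (hgen : V ≤ normalClosure (W : Set X)) (hW : NoOffG T W) :
    Cfsg.thompsonSubgroupOf 2 T ≤ centralizer (V : Set X) := by
  haveI : Fact (Nat.Prime 2) := ⟨Nat.prime_two⟩
  rw [Cfsg.thompsonSubgroupOf, map_le_iff_le_comap]
  refine sSup_le fun A hA => ?_
  set U := V.subgroupOf T with hU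
  haveI : U.Normal := inferInstance
  have hUea : Cfsg.IsElementaryAbelian 2 U := CfsgLib.Fusion.Thompson.isEA_subgroupOf hV T
  obtain ⟨hA', hq, hnt⟩ := CfsgLib.Fusion.ReplacementEA.replacement hUea hA
  set A' := ⁅U, A⁆ ⊔ (A ⊓ centralizer ((⁅U, A⁆ : Subgroup T) : Set T))
  have hUmap : U.map T.subtype = V := map_subgroupOf_eq_of_le hVT
  have hcent : ∀ B : Subgroup T, (U ⊓ centralizer (B : Set T)).map T.subtype =
      V ⊓ centralizer ((B.map T.subtype : Subgroup X) : Set X) := by
    intro B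
    ext x
    constructor
    · rintro ⟨y, ⟨hy, hyB⟩, rfl⟩
      refine ⟨hy, mem_centralizer_iff.mpr ?_⟩
      rintro _ ⟨b, hb, rfl⟩
      exact congrArg Subtype.val (mem_centralizer_iff.mp hyB b hb)
    · rintro ⟨hxV, hxB⟩
      exact ⟨⟨x, hVT hxV⟩, ⟨hxV, mem_centralizer_iff.mpr fun b hb => Subtype.ext
        (mem_centralizer_iff.mp hxB _ ⟨b, hb, rfl⟩)⟩, rfl⟩
  have hcent' : ∀ B : Subgroup T, (B ⊓ centralizer (U : Set T)).map T.subtype =
      B.map T.subtype ⊓ centralizer (V : Set X) := by
    intro B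
    ext x
    constructor
    · rintro ⟨y, ⟨hy, hyV⟩, rfl⟩
      exact ⟨⟨y, hy, rfl⟩, mem_centralizer_iff.mpr fun v hv =>
        congrArg Subtype.val (mem_centralizer_iff.mp hyV ⟨v, hVT hv⟩ hv)⟩
    · rintro ⟨⟨y, hy, rfl⟩, hyV⟩
      exact ⟨y, ⟨hy, mem_centralizer_iff.mpr fun v hv => Subtype.ext (mem_centralizer_iff.mp hyV v hv)⟩, rfl⟩
  have hA'C : A' ≤ centralizer (U : Set T) := by
    have hB : A'.map T.subtype ≤ centralizer (V : Set X) := by
      refine le_centralizer_of_offender h4 hT hV hWV hTW hgen hW ?_ ?_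
      · rw [← hUmap, ← map_commutator, ← map_commutator, hq, Subgroup.map_bot]
      · have h := (Cfsg.Agent.S0606.result U hUea A' hA').1 (A' ⊓ centralizer (U : Set T)) inf_le_left
        have hfull : U ⊓ centralizer ((A' ⊓ centralizer (U : Set T) : Subgroup T) : Set T) = U :=
          inf_eq_left.mpr (le_centralizer_iff.mp inf_le_right)
        rw [hfull] at h
        rw [← hcent, ← hcent', ← hUmap, card_map_of_injective T.subtype_injective,
          card_map_of_injective T.subtype_injective, card_map_of_injective T.subtype_injective,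
          card_map_of_injective T.subtype_injective, mul_comm]
        exact h
    exact fun x hx => mem_centralizer_iff.mpr fun v hv => Subtype.ext
      (mem_centralizer_iff.mp (hB ⟨x, hx, rfl⟩) v hv)
  have hUA : ⁅U, A⁆ = ⊥ := by
    by_contra hne
    exact hnt hne (commutator_eq_bot_iff_le_centralizer.mpr (le_centralizer_iff.mp hA'C))
  intro x hx
  exact mem_centralizer_iff.mpr fun v hv => congrArg Subtype.val
    (mem_centralizer_iff.mp (le_centralizer_iff.mp (commutator_eq_bot_iff_le_centralizer.mp hUA) hx) ⟨v, hVT hv⟩ hv)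

end CfsgLib.SFreeW
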