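import Cfsg.Agent.Lib.SFreeW.Generation
import Cfsg.Agent.Lib.SFreeW.Thompson

/-!
The amalgam of a minimal system without a section `S₄`: a common Sylow subgroup `S` in two groups, the first with
`J(S)` normal and the second with a subgroup `K` between `Z` and `Y` normal.
-/

set_option autoImplicit false
set_option linter.unusedSectionVars false
set_option linter.style.haveILetI false

namespace CfsgLib.SFreeW

open CfsgLib.Fusion.SFreeFF

universe u

/-- The Thompson subgroup. -/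
abbrev jT (S : Type u) [Group S] : Subgroup S := Cfsg.thompsonSubgroup 2 S

/-- The central elements of order dividing two. -/
abbrev zT (S : Type u) [Group S] : Subgroup S := zOm (⊤ : Subgroup S)

/-- The central elements of order dividing two of the Thompson subgroup. -/
abbrev yT (S : Type u) [Group S] : Subgroup S := zOm (jT S)

theorem zOm_map {G H : Type*} [Group G] [Group H] {f : G →* H} (hf : Function.Injective f) (A : Subgroup G) :
    (zOm A).map f = zOm (A.map f) := by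
  ext y
  constructor
  · rintro ⟨z, ⟨⟨hz, hc⟩, h2⟩, rfl⟩
    refine ⟨⟨Subgroup.mem_map_of_mem f hz, Subgroup.mem_centralizer_iff.mpr ?_⟩, by rw [← map_pow, h2, map_one]⟩
    rintro _ ⟨w, hw, rfl⟩
    rw [← map_mul, ← map_mul, Subgroup.mem_centralizer_iff.mp hc w hw]
  · rintro ⟨⟨⟨z, hz, rfl⟩, hc⟩, h2⟩
    refine ⟨z, ⟨⟨hz, Subgroup.mem_centralizer_iff.mpr fun w hw => hf ?_⟩, hf (by rw [map_pow, h2, map_one])⟩, rfl⟩
    rw [map_mul, map_mul, Subgroup.mem_centralizer_iff.mp hc (f w) ⟨w, hw, rfl⟩]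

theorem zOm_le_self {G : Type*} [Group G] (A : Subgroup G) : zOm A ≤ A := fun _ h => h.1.1

theorem zOm_comm {G : Type*} [Group G] {A : Subgroup G} {z a : G} (hz : z ∈ zOm A) (ha : a ∈ A) : a * z = z * a :=
  Subgroup.mem_centralizer_iff.mp hz.1.2 a ha

/-- The normaliser of a subgroup normalises its central involutions. -/
theorem normalizer_le_zOm {G : Type*} [Group G] (A : Subgroup G) :
    Subgroup.normalizer (A : Set G) ≤ Subgroup.normalizer (zOm A : Set G) := by
  intro g hg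
  have hA := Subgroup.mem_normalizer_iff_map_conj_eq.mp hg
  refine Subgroup.mem_normalizer_iff_map_conj_eq.mpr ?_
  exact (zOm_map (f := (MulAut.conj g).toMonoidHom) (MulAut.conj g).injective A).trans (congrArg zOm hA)

theorem zT_le_jT (S : Type u) [Group S] [Finite S] : zT S ≤ jT S := by
  obtain ⟨A, hA⟩ := CfsgLib.Fusion.Thompson.exists_maxEA (p := 2) (G := S)
  exact fun z hz => le_sSup hA (CfsgLib.Fusion.Thompson.mem_of_pow_eq_one_of_centralizes hA
    (Subgroup.mem_centralizer_iff.mpr fun a _ => zOm_comm hz (Subgroup.mem_top a)) hz.2)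

theorem zT_le_yT (S : Type u) [Group S] [Finite S] : zT S ≤ yT S := fun _ hz =>
  ⟨⟨zT_le_jT S hz, Subgroup.mem_centralizer_iff.mpr fun a _ => zOm_comm hz (Subgroup.mem_top a)⟩, hz.2⟩

theorem zT_ne_bot {S : Type u} [Group S] [Finite S] [Nontrivial S] (hS : IsPGroup 2 S) : zT S ≠ ⊥ := by
  haveI : Fact (Nat.Prime 2) := ⟨Nat.prime_two⟩
  haveI := hS.center_nontrivial
  obtain ⟨n, hn, hcard⟩ := (hS.to_subgroup (Subgroup.center S)).nontrivial_iff_card.mp inferInstance
  obtain ⟨x, hx⟩ := exists_prime_orderOf_dvd_card' (G := Subgroup.center S) 2 (by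
    rw [hcard]; exact dvd_pow_self 2 (by omega))
  intro h
  have hmem : (x : S) ∈ zT S := ⟨⟨trivial, Subgroup.mem_centralizer_iff.mpr fun a _ =>
    Subgroup.mem_center_iff.mp x.2 a⟩, by rw [← SubmonoidClass.coe_pow, ← hx, pow_orderOf_eq_one]; rfl⟩
  rw [h, Subgroup.mem_bot] at hmem
  rw [show x = 1 from Subtype.ext hmem, orderOf_one] at hx
  omega

/-- A copy of the Thompson subgroup inside the group is the Thompson subgroup. -/
theorem thompson_range_eq {T : Type u} [Group T] [Finite T] (f : jT T →* T) (hf : Function.Injective f) :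
    f.range = jT T := by
  refine Subgroup.eq_of_le_of_card_ge ?_ (Nat.card_congr (MonoidHom.ofInjective hf).toEquiv).le
  have h : jT T ≤ ((jT T).comap f).map (jT T).subtype := sSup_le fun A hA a ha => by
    have haJ : a ∈ jT T := le_sSup hA ha
    have hm : (A.subgroupOf (jT T)).map f ∈ Cfsg.maxElementaryAbelianSubgroups 2 T := by
      refine ⟨CfsgLib.Fusion.Thompson.isEA_map _ (CfsgLib.Fusion.Thompson.isEA_subgroupOf hA.1 _),
        fun B hB => (hA.2 B hB).trans ?_⟩
      rw [Subgroup.card_map_of_injective hf]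
      exact (Nat.card_congr (Subgroup.subgroupOfEquivOfLe (le_sSup hA : A ≤ jT T)).toEquiv).ge
    exact ⟨⟨a, haJ⟩, le_sSup hm ⟨⟨a, haJ⟩, ha, rfl⟩, rfl⟩
  rintro _ ⟨⟨x, hx⟩, rfl⟩
  obtain ⟨y, hy, e⟩ := h hx
  obtain rfl : y = ⟨x, hx⟩ := Subtype.ext e
  exact hy

/-- The abstract configuration. `θ` identifies the normaliser of `J` in the second group with the normaliser of `K`
in the first. -/
structure Amalgam {S P G : Type u} [Group S] [Group P] [Group G] (ι : S →* P) (κ : S →* G) (K : Subgroup S)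
    (θ : ↥(Subgroup.normalizer ((jT S).map κ : Set G)) →* P) : Prop where
  hp : IsPGroup 2 S
  nontriv : Nontrivial S
  ι_inj : Function.Injective ι
  κ_inj : Function.Injective κ
  ι_syl : SylIn ι.range ⊤
  κ_syl : SylIn κ.range ⊤
  ι_noS4 : ¬ Cfsg.Involves (Equiv.Perm (Fin 4)) P
  κ_noS4 : ¬ Cfsg.Involves (Equiv.Perm (Fin 4)) G
  κ_charP : Subgroup.centralizer (Cfsg.pCore 2 G : Set G) ≤ Cfsg.pCore 2 G
  J_norm : ((jT S).map ι).Normal
  K_norm : (K.map κ).Normal
  Z_le : zT S ≤ K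
  K_le : K ≤ yT S
  θ_inj : Function.Injective θ
  θ_range : θ.range = Subgroup.normalizer (K.map ι : Set P)
  θ_compat : ∀ (x : S) (h : κ x ∈ Subgroup.normalizer ((jT S).map κ : Set G)), θ ⟨κ x, h⟩ = ι x
  cnp : ∀ U : Subgroup S, U.Normal → U ≤ K → U ≠ ⊥ →
    Subgroup.normalizer (U.map ι : Set P) ≤ Subgroup.normalizer (K.map ι : Set P)
  not_normal : Subgroup.normalizer (K.map ι : Set P) ≠ ⊤
  closed : ∀ y ∈ yT S, (∀ g, ∀ x ∈ jT S, κ y * (g * κ x * g⁻¹) = g * κ x * g⁻¹ * κ y) → y ∈ K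
  comm_of_centralizer : ∀ u ∈ yT S, u ≠ 1 →
    SylIn ((Subgroup.centralizer ({u} : Set S)).map ι) (Subgroup.centralizer ({ι u} : Set P)) →
    ∀ h, h * ι u = ι u * h → ∀ z ∈ zT S, ∀ y, ι y = h * ι z * h⁻¹ →
      ∀ g, g * κ u = κ u * g → ∀ x ∈ jT S, κ y * (g * κ x * g⁻¹) = g * κ x * g⁻¹ * κ y

end CfsgLib.SFreeW
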