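import Cfsg.Agent.Lib.Fusion.SFreeFF.Setup
import Cfsg.Agent.S2759

/-!
TI elementary abelian 2-subgroups whose centralisers lie in the normaliser, one-point involutions, and a
criterion for a section `S₃`.
-/

set_option autoImplicit false
set_option linter.unusedSectionVars false
set_option linter.style.haveILetI false

namespace CfsgLib.SFreeW

open CfsgLib.Fusion.SFreeFF CfsgLib.Fusion.CentralOffender

universe u

/-- An elementary abelian 2-subgroup, strongly closed in its normaliser, with the centraliser of each of its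
nontrivial elements in the normaliser. -/
structure TI {X : Type*} [Group X] (A M : Subgroup X) : Prop where
  norm : M = Subgroup.normalizer (A : Set X)
  ne : A ≠ ⊥
  comm : ∀ a ∈ A, ∀ b ∈ A, a * b = b * a
  sq : ∀ a ∈ A, a * a = 1
  cent : ∀ a ∈ A, a ≠ 1 → ∀ x, x * a = a * x → x ∈ M
  mem : ∀ a ∈ A, ∀ g, g * a * g⁻¹ ∈ M → g * a * g⁻¹ ∈ A

namespace TI

variable {X : Type*} [Group X] {A M : Subgroup X}

theorem le (h : TI A M) : A ≤ M := h.norm ▸ Subgroup.le_normalizer

theorem inv_eq (h : TI A M) {a : X} (ha : a ∈ A) : a⁻¹ = a := inv_eq_of_mul_eq_one_right (h.sq a ha)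

theorem conj_mem (h : TI A M) {m a : X} (hm : m ∈ M) (ha : a ∈ A) : m * a * m⁻¹ ∈ A :=
  (Subgroup.mem_normalizer_iff.mp (h.norm ▸ hm) a).mp ha

theorem isPGroup (h : TI A M) : IsPGroup 2 A := fun a =>
  ⟨1, Subtype.ext (by rw [pow_one]; show (a : X) ^ 2 = 1; rw [pow_two]; exact h.sq a a.2)⟩

theorem exists_ne (h : TI A M) : ∃ a ∈ A, a ≠ 1 := by
  by_contra hc
  push Not at hc
  exact h.ne ((Subgroup.eq_bot_iff_forall _).mpr hc)

variable [Finite X]

/-- The TI property. -/
theorem mem_M (h : TI A M) {a g : X} (ha : a ∈ A) (ha1 : a ≠ 1) (hg : g * a * g⁻¹ ∈ M) : g ∈ M := by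
  have hc := h.mem a ha g hg
  have hc1 : g * a * g⁻¹ ≠ 1 := fun e => ha1 (conj_eq_one_iff.mp e)
  rw [h.norm]
  refine mem_normalizer_iff_cj.mpr (Subgroup.eq_of_le_of_card_ge ?_ (card_cj A g).ge)
  rintro _ ⟨b, hb, rfl⟩
  refine h.mem b hb g (h.cent _ hc hc1 _ ?_)
  calc g * b * g⁻¹ * (g * a * g⁻¹) = g * (b * a) * g⁻¹ := by group
    _ = g * (a * b) * g⁻¹ := by rw [h.comm b hb a ha]
    _ = _ := by group

theorem inf_M_eq_of_conj (h : TI A M) {a g : X} (ha : a ∈ A) (ha1 : a ≠ 1) (hg : g ∉ M) : g * a * g⁻¹ ∉ M :=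
  fun hm => hg (h.mem_M ha ha1 hm)

/-- A 2-subgroup meeting `A` lies in `M`. -/
theorem pgroup_le (h : TI A M) {P : Subgroup X} (hP : IsPGroup 2 P) {a : X} (ha : a ∈ A) (ha1 : a ≠ 1)
    (haP : a ∈ P) : P ≤ M := by
  by_contra hn
  have hlt : P ⊓ M < P := lt_of_le_of_ne inf_le_left fun e => hn (e ▸ inf_le_right)
  obtain ⟨x, hx, hxU⟩ := SetLike.exists_of_lt (lt_inf_normalizer hP hlt)
  obtain ⟨hxP, hxN⟩ := Subgroup.mem_inf.mp hx
  have hc := (Subgroup.mem_normalizer_iff.mp hxN a).mp ⟨haP, h.le ha⟩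
  exact hxU ⟨hxP, h.mem_M ha ha1 hc.2⟩

/-- A subgroup of `M` normal in `L` meeting `A` forces `L ≤ M`. -/
theorem normal_le (h : TI A M) {L K : Subgroup X} (hn : L ≤ Subgroup.normalizer (K : Set X)) (hK : K ≤ M)
    {a : X} (ha : a ∈ A) (ha1 : a ≠ 1) (haK : a ∈ K) : L ≤ M := fun l hl =>
  h.mem_M ha ha1 (hK ((Subgroup.mem_normalizer_iff.mp (hn hl) a).mp haK))

/-- The restriction to a subgroup meeting `A`. -/
theorem restrict (h : TI A M) (L : Subgroup X) (hL : A ⊓ L ≠ ⊥) : TI (A.subgroupOf L) (M.subgroupOf L) where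
  norm := by
    obtain ⟨a, ⟨haA, haL⟩, ha1⟩ : ∃ a ∈ A ⊓ L, a ≠ 1 := by
      by_contra hc
      push Not at hc
      exact hL ((Subgroup.eq_bot_iff_forall _).mpr hc)
    ext ⟨g, hgL⟩
    rw [Subgroup.mem_subgroupOf, Subgroup.mem_normalizer_iff]
    constructor
    · rintro hg ⟨b, hb⟩
      exact Subgroup.mem_normalizer_iff.mp (h.norm ▸ hg) b
    · intro hg
      exact h.mem_M haA ha1 (h.le ((hg ⟨a, haL⟩).mp haA))
  ne := fun e => hL (disjoint_iff.mp (Subgroup.subgroupOf_eq_bot.mp e))
  comm a ha b hb := Subtype.ext (h.comm a ha b hb)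
  sq a ha := Subtype.ext (h.sq a ha)
  cent a ha ha1 x hx := h.cent a ha (fun e => ha1 (Subtype.ext e)) x (congrArg Subtype.val hx)
  mem a ha g hg := h.mem a ha g hg

end TI

section Quotient

variable {X : Type*} [Group X] {A M : Subgroup X}

theorem zpowers_normal {y : X} (hcen : ∀ x, x * y = y * x) : (Subgroup.zpowers y).Normal :=
  ⟨fun z hz x => by
    obtain ⟨j, rfl⟩ := hz
    rw [show x * y ^ j = y ^ j * x from (Commute.zpow_right (hcen x) j).eq, mul_inv_cancel_right]
    exact Subgroup.zpow_mem_zpowers y j⟩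

/-- The quotient by a central involution. -/
theorem TI.quotient [Finite X] (h : TI A M) {y : X} [(Subgroup.zpowers y).Normal] (hcen : ∀ x, x * y = y * x)
    (hyM : y ∈ M) (hy2 : y * y = 1) (hy1 : y ≠ 1) (hM : M ≠ ⊤) :
    TI (A.map (QuotientGroup.mk' (Subgroup.zpowers y))) (M.map (QuotientGroup.mk' (Subgroup.zpowers y))) ∧
      M.map (QuotientGroup.mk' (Subgroup.zpowers y)) ≠ ⊤ ∧
      Nat.card (X ⧸ Subgroup.zpowers y) < Nat.card X := by
  obtain ⟨a, ha, ha1⟩ := h.exists_ne
  obtain ⟨g, -, hg⟩ := SetLike.exists_of_lt (lt_top_iff_ne_top.mpr hM)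
  set Z := Subgroup.zpowers y
  have hZM : Z ≤ M := Subgroup.zpowers_le.mpr hyM
  set π := QuotientGroup.mk' Z
  have hback : ∀ {x : X}, π x ∈ M.map π → x ∈ M := by
    rintro x ⟨m, hm, he'⟩
    have := hZM (QuotientGroup.eq.mp he')
    simpa using M.mul_mem hm this
  refine ⟨⟨?_, ?_, ?_, ?_, ?_, ?_⟩, fun ht => hg (hback (ht ▸ Subgroup.mem_top (π g))), ?_⟩
  · ext x
    obtain ⟨x, rfl⟩ := QuotientGroup.mk'_surjective Z x
    constructor
    · rintro ⟨m, hm, he'⟩
      rw [← he']
      exact Subgroup.le_normalizer_map π ⟨m, h.norm ▸ hm, rfl⟩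
    · intro hx
      refine ⟨x, h.mem_M ha ha1 (hback ?_), rfl⟩
      rw [map_mul, map_mul, map_inv]
      exact Subgroup.map_mono h.le ((Subgroup.mem_normalizer_iff.mp hx _).mp ⟨a, ha, rfl⟩)
  · intro hbot
    have : π a = 1 := Subgroup.mem_bot.mp (hbot ▸ ⟨a, ha, rfl⟩)
    obtain ⟨j, hj⟩ := (QuotientGroup.eq_one_iff a).mp this
    refine hg (h.cent a ha ha1 g ?_)
    rw [← hj]
    exact (Commute.zpow_right (hcen g) j).eq
  · rintro _ ⟨c, hc, rfl⟩ _ ⟨d, hd, rfl⟩
    rw [← map_mul, ← map_mul, h.comm c hc d hd]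
  · rintro _ ⟨c, hc, rfl⟩
    rw [← map_mul, h.sq c hc, map_one]
  · rintro _ ⟨c, hc, rfl⟩ hc1 x hx
    obtain ⟨x, rfl⟩ := QuotientGroup.mk'_surjective Z x
    refine ⟨x, h.mem_M hc (fun e' => hc1 (by rw [e', map_one])) (hback ?_), rfl⟩
    rw [map_mul, map_mul, hx, map_inv, mul_inv_cancel_right]
    exact ⟨c, h.le hc, rfl⟩
  · rintro _ ⟨c, hc, rfl⟩ x hx
    obtain ⟨x, rfl⟩ := QuotientGroup.mk'_surjective Z x
    rw [← map_inv, ← map_mul, ← map_mul] at hx ⊢
    exact ⟨_, h.mem c hc x (hback hx), rfl⟩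
  · have h2 : Nat.card X = Nat.card (X ⧸ Z) * Nat.card Z := Subgroup.card_eq_card_quotient_mul_card_subgroup Z
    rw [Nat.card_zpowers, orderOf_eq_prime (by rw [pow_two]; exact hy2) hy1] at h2
    have := Nat.card_pos (α := X ⧸ Z)
    show Nat.card (X ⧸ Z) < Nat.card X
    omega

end Quotient

/-- An involution fixing one point. -/
def OnePoint {X : Type*} [Group X] (M : Subgroup X) (e : X) : Prop := ∀ x, x * e = e * x → x ∈ M

/-- Two involutions: a power of the product inverted by both. -/
theorem dihedral_pow {X : Type*} [Group X] {e b : X} (he : e * e = 1) (hb : b * b = 1) (k : ℕ) :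
    e * (e * b) ^ k * e = ((e * b) ^ k)⁻¹ := by
  have e1 : e⁻¹ = e := inv_eq_of_mul_eq_one_right he
  have b1 : b⁻¹ = b := inv_eq_of_mul_eq_one_right hb
  have h : e * (e * b) * e⁻¹ = (e * b)⁻¹ := by
    rw [mul_inv_rev, b1, ← mul_assoc, he, one_mul]
  have h2 := CfsgLib.Involution.Dihedral.conj_pow h k
  rwa [e1] at h2

/-- If `e * b` has odd order, the two involutions are conjugate. -/
theorem conj_of_odd {X : Type*} [Group X] {e b : X} (he : e * e = 1) (hb : b * b = 1) {k : ℕ}
    (hk : (e * b) ^ (2 * k + 1) = 1) : (e * b) ^ k * e * ((e * b) ^ k)⁻¹ = b := by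
  have e1 : e⁻¹ = e := inv_eq_of_mul_eq_one_right he
  have h1 : (e * b) ^ k * e = e * ((e * b) ^ k)⁻¹ := by
    rw [← dihedral_pow he hb k, ← mul_assoc, ← mul_assoc, he, one_mul]
  have h2 : ((e * b) ^ k)⁻¹ * ((e * b) ^ k)⁻¹ = e * b := by
    rw [← mul_inv_rev, ← pow_add, inv_eq_iff_mul_eq_one, ← pow_succ, ← two_mul, hk]
  rw [h1, mul_assoc, h2, ← mul_assoc, he, one_mul]

/-- `G''`: a one-point coset of involutions centralising `A` lies in `A`. -/
theorem mem_of_onePoint : ∀ {n : ℕ} {X : Type u} [Group X] [Finite X] {A M : Subgroup X}, Nat.card X ≤ n →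
    TI A M → M ≠ ⊤ → ∀ {e : X}, e * e = 1 → (∀ a ∈ A, e * a = a * e) → (∀ a ∈ A, OnePoint M (e * a)) →
    e ∈ A := by
  intro n
  induction n with
  | zero => intro X _ _ A M h; exact absurd h (not_le.mpr Nat.card_pos)
  | succ n ih =>
    intro X _ _ A M hn h hM e he hec h1
    obtain ⟨a, ha, ha1⟩ := h.exists_ne
    obtain ⟨g, -, hg⟩ := SetLike.exists_of_lt (lt_top_iff_ne_top.mpr hM)
    have hop : OnePoint M e := by simpa using h1 1 A.one_mem
    have heM : e ∈ M := h.cent a ha ha1 e (hec a ha)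
    set b := g * a * g⁻¹ with hb
    have hbM : b ∉ M := h.inf_M_eq_of_conj ha ha1 hg
    have hb2 : b * b = 1 := by rw [hb, show g * a * g⁻¹ * (g * a * g⁻¹) = g * (a * a) * g⁻¹ by group,
      h.sq a ha, mul_one, mul_inv_cancel]
    set w := e * b with hw
    rcases Nat.even_or_odd' (orderOf w) with ⟨k, hk | hk⟩
    · -- a central involution of the dihedral group
      have hk0 : 0 < k := by have := orderOf_pos w; omega
      set y := w ^ k with hy
      have hy1 : y ≠ 1 := pow_ne_one_of_lt_orderOf (by omega) (by omega)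
      have hy2 : y * y = 1 := by rw [hy, ← pow_add, ← two_mul, ← hk, pow_orderOf_eq_one]
      have hyi : y⁻¹ = y := inv_eq_of_mul_eq_one_right hy2
      have hey : y * e = e * y := by
        have := dihedral_pow he hb2 k
        rw [← hw, ← hy, hyi] at this
        calc y * e = e * y * e * e := by rw [this]
          _ = e * y := by rw [mul_assoc, he, mul_one]
      have hwy : y * w = w * y := (Commute.pow_self w k).eq
      have hby : y * b = b * y := by
        have hb' : b = e * w := by rw [hw, ← mul_assoc, he, one_mul]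
        rw [hb', ← mul_assoc, hey, mul_assoc, hwy, ← mul_assoc]
      have hyM : y ∈ M := hop y hey
      set Y := Subgroup.centralizer ({y} : Set X) with hY
      have hYmem : ∀ {x : X}, x * y = y * x → x ∈ Y := fun hx => Subgroup.mem_centralizer_singleton_iff.mpr hx
      have heY : e ∈ Y := hYmem hey.symm
      have hbY : b ∈ Y := hYmem hby.symm
      -- `A` meets the centraliser
      have hAY : A ⊓ Y ≠ ⊥ := by
        intro hbot
        have hf : ∀ c ∈ A, c * (y * c * y⁻¹) = 1 := by
          intro c hc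
          have hyc : y * c * y⁻¹ ∈ A := h.conj_mem hyM hc
          have hm : c * (y * c * y⁻¹) ∈ A ⊓ Y := by
            refine ⟨A.mul_mem hc hyc, hYmem ?_⟩
            calc c * (y * c * y⁻¹) * y = c * y * c := by group
              _ = c * (y * c * y⁻¹) * y := by group
              _ = (y * c * y⁻¹) * c * y := by rw [h.comm c hc _ hyc]
              _ = y * c * y * c * y := by rw [hyi]
              _ = y * (c * y * c * y) := by group
              _ = y * (c * (y * c * y⁻¹)) := by rw [hyi]; group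
          rwa [hbot, Subgroup.mem_bot] at hm
        have hfix : ∀ c ∈ A, y * c = c * y := fun c hc => by
          have h3 : y * c * y⁻¹ = c := by
            have := inv_eq_of_mul_eq_one_right (hf c hc)
            rw [← this, h.inv_eq hc]
          calc y * c = y * c * y⁻¹ * y := by group
            _ = c * y := by rw [h3]
        have : a ∈ A ⊓ Y := ⟨ha, hYmem (hfix a ha).symm⟩
        rw [hbot, Subgroup.mem_bot] at this
        exact ha1 this
      by_cases hYtop : Y = ⊤
      · -- pass to the quotient by a central involution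
        have hcen : ∀ x, x * y = y * x := fun x =>
          Subgroup.mem_centralizer_singleton_iff.mp (hY ▸ hYtop.symm ▸ Subgroup.mem_top x)
        haveI := zpowers_normal hcen
        obtain ⟨hTI, hmapne, hcard'⟩ := h.quotient hcen hyM hy2 hy1 hM
        have hcard : Nat.card (X ⧸ Subgroup.zpowers y) ≤ n := by omega
        set Z := Subgroup.zpowers y
        have hZM : Z ≤ M := Subgroup.zpowers_le.mpr hyM
        set π := QuotientGroup.mk' Z
        have hback : ∀ {x : X}, π x ∈ M.map π → x ∈ M := by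
          rintro x ⟨m, hm, he'⟩
          have := hZM (QuotientGroup.eq.mp he')
          simpa using M.mul_mem hm this
        have hmem := ih hcard hTI hmapne (e := π e) (by rw [← map_mul, he, map_one])
          (by rintro _ ⟨c, hc, rfl⟩; rw [← map_mul, ← map_mul, hec c hc])
          (by
            rintro _ ⟨c, hc, rfl⟩ x hx
            obtain ⟨x, rfl⟩ := QuotientGroup.mk'_surjective Z x
            refine ⟨x, ?_, rfl⟩
            -- `x a x⁻¹` commutes with `e * c`
            refine h.mem_M ha ha1 (h1 c hc _ ?_)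
            rw [← map_mul, ← map_mul, ← map_mul] at hx
            obtain ⟨j, hj⟩ := QuotientGroup.eq.mp hx
            have hcomm : Commute a (e * c) := (Commute.mul_right (hec a ha).symm (h.comm a ha c hc))
            have hy' : Commute (x * a * x⁻¹) (y ^ j) := Commute.zpow_right (hcen _) j
            have h3 : x * (e * c) * x⁻¹ * (y ^ j) = e * c := by
              calc x * (e * c) * x⁻¹ * y ^ j = x * (e * c) * (x⁻¹ * y ^ j * x) * x⁻¹ := by group
                _ = x * (e * c) * y ^ j * x⁻¹ := by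
                    rw [show x⁻¹ * y ^ j * x = y ^ j by
                      rw [mul_assoc, ← (Commute.zpow_right (hcen x) j).eq, inv_mul_cancel_left]]
                _ = e * c := by simp only at hj; rw [hj]; group
            have h4 : Commute (x * a * x⁻¹) (x * (e * c) * x⁻¹) := hcomm.map (MulAut.conj x).toMonoidHom
            have h5 := h4.mul_right hy'
            rw [h3] at h5
            exact h5.eq)
        obtain ⟨c, hc, hce⟩ := hmem
        obtain ⟨j, hj⟩ := QuotientGroup.eq.mp hce
        simp only at hj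
        rcases Int.even_or_odd j with ⟨i, rfl⟩ | ⟨i, rfl⟩
        · rw [zpow_add, ← (Commute.refl y).mul_zpow, hy2, one_zpow] at hj
          rwa [inv_mul_eq_one.mp hj.symm] at hc
        · rw [zpow_add, two_mul, zpow_add, ← (Commute.refl y).mul_zpow, hy2, one_zpow, one_mul, zpow_one] at hj
          exfalso
          refine hbM (h1 c hc b ?_)
          have hecy : e * c = y := by rw [hec c hc, hj, h.inv_eq hc]
          rw [hecy]
          exact hcen b
      · have hcard : Nat.card Y ≤ n := by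
          have hlt : Nat.card Y < Nat.card X := by
            refine lt_of_le_of_ne (Subgroup.card_le_card_group Y) fun e' => hYtop ?_
            exact Subgroup.eq_top_of_card_eq _ e'
          omega
        have := ih hcard (h.restrict Y hAY)
          (fun ht => hbM (Subgroup.mem_subgroupOf.mp (ht ▸ Subgroup.mem_top (⟨b, hbY⟩ : Y))))
          (e := ⟨e, heY⟩) (Subtype.ext he) (fun c hc => Subtype.ext (hec c hc))
          (fun c hc x hx => h1 c hc x (congrArg Subtype.val hx))
        exact this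
    · -- odd order
      have hconj := conj_of_odd he hb2 (k := k) (by rw [← hk, pow_orderOf_eq_one])
      set v := (w ^ k)⁻¹ * g
      have hv : v * a * v⁻¹ = e := by
        simp only [v]
        rw [mul_inv_rev, inv_inv, show (w ^ k)⁻¹ * g * a * (g⁻¹ * w ^ k) = (w ^ k)⁻¹ * b * w ^ k by
          rw [hb]; group, ← hconj, ← hw]
        group
      rw [← hv]
      exact h.mem a ha v (hv ▸ heM)

/-- All nontrivial elements of a TI subgroup are conjugate. -/
theorem TI.all_conj : ∀ {n : ℕ} {X : Type u} [Group X] [Finite X] {A M : Subgroup X}, Nat.card X ≤ n →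
    TI A M → M ≠ ⊤ → ∀ {a b : X}, a ∈ A → a ≠ 1 → b ∈ A → b ≠ 1 → ∃ l, l * a * l⁻¹ = b := by
  intro n
  induction n with
  | zero => intro X _ _ A M h; exact absurd h (not_le.mpr Nat.card_pos)
  | succ n ih =>
    intro X _ _ A M hn h hM a b ha ha1 hb hb1
    obtain ⟨g, -, hg⟩ := SetLike.exists_of_lt (lt_top_iff_ne_top.mpr hM)
    set a' := g * a * g⁻¹ with ha'
    have haM : a' ∉ M := h.inf_M_eq_of_conj ha ha1 hg
    have ha2 : a' * a' = 1 := by rw [ha', show g * a * g⁻¹ * (g * a * g⁻¹) = g * (a * a) * g⁻¹ by group,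
      h.sq a ha, mul_one, mul_inv_cancel]
    have hb2 := h.sq b hb
    set w := b * a' with hw
    rcases Nat.even_or_odd' (orderOf w) with ⟨k, hk | hk⟩
    · have hk0 : 0 < k := by have := orderOf_pos w; omega
      set y := w ^ k with hy
      have hy1 : y ≠ 1 := pow_ne_one_of_lt_orderOf (by omega) (by omega)
      have hy2 : y * y = 1 := by rw [hy, ← pow_add, ← two_mul, ← hk, pow_orderOf_eq_one]
      have hey : y * b = b * y := by
        have := dihedral_pow hb2 ha2 k
        rw [← hw, ← hy, inv_eq_of_mul_eq_one_right hy2] at this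
        calc y * b = b * y * b * b := by rw [this]
          _ = b * y := by rw [mul_assoc, hb2, mul_one]
      have hay : y * a' = a' * y := by
        have hwy : y * w = w * y := (Commute.pow_self w k).eq
        have hb' : a' = b * w := by rw [hw, ← mul_assoc, hb2, one_mul]
        rw [hb', ← mul_assoc, hey, mul_assoc, hwy, ← mul_assoc]
      have hyM : y ∈ M := h.cent b hb hb1 y hey
      by_cases hcen : ∀ x, x * y = y * x
      · haveI := zpowers_normal hcen
        set π := QuotientGroup.mk' (Subgroup.zpowers y)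
        obtain ⟨hTI, hMne, hcard⟩ := h.quotient hcen hyM hy2 hy1 hM
        have hne : ∀ {c : X}, c ∈ A → c ≠ 1 → π c ≠ 1 := by
          intro c hc hc1 he
          obtain ⟨j, hj⟩ := (QuotientGroup.eq_one_iff c).mp he
          refine haM (h.cent c hc hc1 a' ?_)
          rw [← hj]
          exact (Commute.zpow_right (hcen a') j).eq
        obtain ⟨l, hl⟩ := ih (by omega) hTI hMne ⟨a, ha, rfl⟩ (hne ha ha1) ⟨b, hb, rfl⟩ (hne hb hb1)
        obtain ⟨l, rfl⟩ := QuotientGroup.mk'_surjective _ l
        rw [← map_inv, ← map_mul, ← map_mul] at hl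
        obtain ⟨j, hj⟩ := QuotientGroup.eq.mp hl
        simp only at hj
        have hlM : l * a * l⁻¹ ∈ M := by
          rw [eq_mul_inv_iff_mul_eq.mpr ((mul_eq_of_eq_inv_mul hj))]
          exact M.mul_mem (h.le hb) (M.inv_mem (M.zpow_mem hyM j))
        refine ⟨l, ?_⟩
        by_contra hne'
        have hyA : y ^ j ∈ A := hj ▸ A.mul_mem (A.inv_mem (h.mem a ha l hlM)) hb
        refine haM (h.cent _ hyA (fun he => hne' (inv_mul_eq_one.mp (hj ▸ he))) a' ?_)
        exact (Commute.zpow_right (hcen a') j).eq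
      · set Y := Subgroup.centralizer ({y} : Set X) with hY
        have hbY : b ∈ Y := Subgroup.mem_centralizer_singleton_iff.mpr hey.symm
        have haY : a' ∈ Y := Subgroup.mem_centralizer_singleton_iff.mpr hay.symm
        have hAY : A ⊓ Y ≠ ⊥ := fun e => hb1 (Subgroup.mem_bot.mp (e ▸ ⟨hb, hbY⟩))
        obtain ⟨P, hP, hbP⟩ := exists_sylIn (Subgroup.zpowers_le.mpr hbY) (isPGroup_zpowers_of_sq hb2)
        obtain ⟨l, hl, hle⟩ := hP.exists_conj_le (Subgroup.zpowers_le.mpr haY) (isPGroup_zpowers_of_sq ha2)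
        have h1 := h.pgroup_le hP.pgroup hb hb1 (hbP (Subgroup.mem_zpowers b))
        have h2 : l⁻¹ * a' * l ∈ M := h1 (mem_cj.mp (hle (Subgroup.mem_zpowers a')))
        rw [show l⁻¹ * a' * l = l⁻¹ * g * a * (l⁻¹ * g)⁻¹ by rw [ha']; group] at h2
        have h3 := h.mem a ha _ h2
        have h4 : l⁻¹ * g * a * (l⁻¹ * g)⁻¹ ∈ Y := by
          rw [show l⁻¹ * g * a * (l⁻¹ * g)⁻¹ = l⁻¹ * a' * l by rw [ha']; group]
          exact Y.mul_mem (Y.mul_mem (Y.inv_mem hl) haY) hl
        have hcard : Nat.card Y ≤ n := by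
          have hlt : Nat.card Y < Nat.card X :=
            lt_of_le_of_ne (Subgroup.card_le_card_group Y) fun e' => hcen fun x =>
              Subgroup.mem_centralizer_singleton_iff.mp ((Subgroup.eq_top_of_card_eq Y e').symm ▸ Subgroup.mem_top x : x ∈ Y)
          omega
        obtain ⟨m, hm⟩ := ih hcard (h.restrict Y hAY)
          (fun ht => haM (Subgroup.mem_subgroupOf.mp (ht ▸ Subgroup.mem_top (⟨a', haY⟩ : Y))))
          (a := ⟨_, h4⟩) h3 (fun e => ha1 (conj_eq_one_iff.mp (congrArg Subtype.val e)))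
          (b := ⟨b, hbY⟩) hb (fun e => hb1 (congrArg Subtype.val e))
        refine ⟨m * (l⁻¹ * g), ?_⟩
        have := congrArg Subtype.val hm
        simp only [Subgroup.coe_mul, InvMemClass.coe_inv] at this
        rw [← this]
        group
    · have hconj := conj_of_odd hb2 ha2 (k := k) (by rw [← hk, pow_orderOf_eq_one])
      refine ⟨(w ^ k)⁻¹ * g, ?_⟩
      rw [show (w ^ k)⁻¹ * g * a * ((w ^ k)⁻¹ * g)⁻¹ = (w ^ k)⁻¹ * a' * w ^ k by rw [ha']; group, ← hconj, ← hw]
      group

/-- Two involutions permuting a fours group of the module cyclically give a section `S₃`. -/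
theorem tri {V G : Type u} [CommGroup V] [Group G] [Finite G] (φ : G →* MulAut V) (h2 : Exp2 V) (hG : NoS3 G)
    {x y : G} (hx : x * x = 1) (hy : y * y = 1) {v : V} (hv : v ≠ 1) (hxv : φ x v = v)
    (hxy : φ x (φ y v) = φ y v * v) : False := by
  obtain ⟨e⟩ := Cfsg.Agent.S2759.perm_three_equiv
  haveI : Fact (Nat.Prime 3) := ⟨Nat.prime_three⟩
  set w := x * y
  have hwv : φ w v = φ y v * v := by rw [show w = x * y from rfl, apply_mul, hxy]
  have hyy : φ y (φ y v) = v := by rw [← apply_mul, hy, apply_one]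
  have hwy : φ w (φ y v) = v := by rw [show w = x * y from rfl, apply_mul, hyy, hxv]
  have hw2 : φ (w ^ 2) v ≠ v := by
    rw [pow_two, apply_mul, hwv, map_mul, hwy, hwv]
    intro h
    have h' : φ y v * v = 1 := mul_left_cancel (h.trans (mul_one v).symm)
    have hyv : φ y v = v := by rw [eq_inv_of_mul_eq_one_left h']; exact inv_eq_of_mul_eq_one_right (h2 v)
    rw [hyv, hxv] at hxy
    rw [h2] at hxy
    exact hv hxy
  have hw3 : φ (w ^ 3) v = v := by
    rw [pow_succ, pow_two, apply_mul, apply_mul, hwv, map_mul (φ w), hwy, hwv, map_mul (φ w), map_mul (φ w),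
      hwy, hwv]
    rw [show φ y v * v * (v * (φ y v * v)) = (φ y v * φ y v) * ((v * v) * v) by ac_rfl, h2, h2, one_mul, one_mul]
  have hdvd : 3 ∣ orderOf w := by
    by_contra h
    have hcop : Nat.Coprime 3 (orderOf w) := (Nat.Prime.coprime_iff_not_dvd Nat.prime_three).mpr h
    obtain ⟨j, hj⟩ := exists_pow_eq_self_of_coprime hcop
    have hfix : ∀ i : ℕ, φ ((w ^ 3) ^ i) v = v := fun i => by
      induction i with
      | zero => rw [pow_zero, apply_one]
      | succ i ihi => rw [pow_succ, apply_mul, hw3, ihi]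
    have hwfix : φ w v = v := by rw [← hj]; exact hfix j
    exact hw2 (by rw [pow_two, apply_mul, hwfix, hwfix])
  set t := w ^ (orderOf w / 3)
  have ht : orderOf t = 3 := orderOf_pow_orderOf_div (orderOf_pos w).ne' hdvd
  refine hG (Cfsg.Agent.S2759.involves_congr e.symm (CfsgLib.LocalEven.InvolvesDihedral.involves_of_inverted
    (p := 3) (by norm_num) (x := x) (y := t) ?_ ⟨1, by rw [ht, pow_one]⟩
    (fun h => by rw [h, orderOf_one] at ht; norm_num at ht) ?_))
  · by_cases hx1 : x = 1
    · exact ⟨0, by rw [hx1, orderOf_one, pow_zero]⟩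
    · exact ⟨1, by rw [pow_one]; exact orderOf_eq_prime (by rw [pow_two]; exact hx) hx1⟩
  · rw [inv_eq_of_mul_eq_one_right hx]
    exact dihedral_pow hx hy _

end CfsgLib.SFreeW
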