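import Cfsg.Agent.Lib.SFreeW.Amalgam
import Cfsg.Agent.Lib.SFreeW.Agree
import Cfsg.Agent.Lib.SFreeW.TI
import Cfsg.Agent.Lib.Solvable.FrattiniFitting

/-!
The representations of subgroups of the first group of the amalgam on subgroups of `Y`, and the minimal subgroups
above `S` outside the normaliser of `K`.
-/

set_option autoImplicit false
set_option linter.unusedSectionVars false
set_option linter.style.haveILetI false

namespace CfsgLib.SFreeW

open CfsgLib.Fusion.SFreeFF CfsgLib.Fusion.CentralOffender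

universe u

section Rep

variable {S P : Type u} [Group S] [Finite S] [Group P] [Finite P] (ι : S →* P) {H : Subgroup P} {U : Subgroup S}

theorem exists_act (hι : Function.Injective ι) (h : H ≤ Subgroup.normalizer (U.map ι : Set P)) :
    ∃ φ : H →* MulAut U, ∀ (x : H) (u : U), ι ((φ x u : U) : S) = (x : P) * ι u * (x : P)⁻¹ := by
  have hN : ∀ (x : H) (u : U), ∃ v : U, ι v = (x : P) * ι u * (x : P)⁻¹ := fun x u => by
    obtain ⟨v, hv, e⟩ := (Subgroup.mem_normalizer_iff.mp (h x.2) (ι u)).mp ⟨u, u.2, rfl⟩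
    exact ⟨⟨v, hv⟩, e⟩
  choose f hf using hN
  have key : ∀ {a b : U}, ι (a : S) = ι b → a = b := fun e => Subtype.ext (hι e)
  have hmul : ∀ (x y : H) (u : U), f (x * y) u = f x (f y u) := fun x y u => key (by
    rw [hf, hf, hf, Subgroup.coe_mul]; group)
  have hone : ∀ u : U, f 1 u = u := fun u => key (by rw [hf, Subgroup.coe_one]; group)
  refine ⟨MonoidHom.mk' (fun x =>
    { toFun := f x
      invFun := f x⁻¹
      left_inv := fun u => by rw [← hmul, inv_mul_cancel, hone]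
      right_inv := fun u => by rw [← hmul, mul_inv_cancel, hone]
      map_mul' := fun u v => key (by rw [Subgroup.coe_mul, map_mul, hf, hf, hf, Subgroup.coe_mul, map_mul]; group) })
    fun x y => MulEquiv.ext fun u => hmul x y u, hf⟩

/-- The action on a subgroup. -/
noncomputable def act (hι : Function.Injective ι) (h : H ≤ Subgroup.normalizer (U.map ι : Set P)) : H →* MulAut U :=
  Classical.choose (exists_act ι hι h)

variable {ι} (hι : Function.Injective ι) (h : H ≤ Subgroup.normalizer (U.map ι : Set P))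

theorem act_spec (x : H) (u : U) : ι ((act ι hι h x u : U) : S) = (x : P) * ι u * (x : P)⁻¹ :=
  Classical.choose_spec (exists_act ι hι h) x u

theorem act_eq_iff (x : H) (u : U) : act ι hι h x u = u ↔ (x : P) * ι u = ι u * (x : P) := by
  rw [← mul_inv_eq_iff_eq_mul, ← act_spec hι h]
  exact ⟨fun e => by rw [e], fun e => Subtype.ext (hι e)⟩

theorem act_ker {x : H} : x ∈ (act ι hι h).ker ↔ (x : P) ∈ Subgroup.centralizer (U.map ι : Set P) := by
  rw [MonoidHom.mem_ker, Subgroup.mem_centralizer_iff]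
  constructor
  · rintro e _ ⟨u, hu, rfl⟩
    exact ((act_eq_iff hι h x ⟨u, hu⟩).mp (by rw [e]; rfl)).symm
  · exact fun e => MulEquiv.ext fun u => (act_eq_iff hι h x u).mpr (e _ ⟨u, u.2, rfl⟩).symm

theorem noS4_range (h4 : ¬ Cfsg.Involves (Equiv.Perm (Fin 4)) P) :
    ¬ Cfsg.Involves (Equiv.Perm (Fin 4)) (act ι hι h).range := fun hi =>
  h4 (CfsgLib.Fsys.involves_of_injective (e := H.subtype) H.subtype_injective
    (CfsgLib.Fsys.involves_of_surjective (MonoidHom.rangeRestrict_surjective _) hi))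

theorem noS3_range (h4 : ¬ Cfsg.Involves (Equiv.Perm (Fin 4)) P) (hU : IsPGroup 2 U) (hUH : U.map ι ≤ H) :
    NoS3 (act ι hι h).range := fun hi => by
  set N := (U.map ι).subgroupOf H with hN
  haveI : ((U.map ι).subgroupOf H).Normal :=
    ⟨fun n hn x => (Subgroup.mem_normalizer_iff.mp (h x.2) n).mp hn⟩
  have h4H : ¬ Cfsg.Involves (Equiv.Perm (Fin 4)) H := fun hi' =>
    h4 (CfsgLib.Fsys.involves_of_injective (e := H.subtype) H.subtype_injective hi')
  have hker : Subgroup.centralizer (N : Set H) ≤ (act ι hι h).rangeRestrict.ker := by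
    intro x hx
    rw [MonoidHom.ker_rangeRestrict]
    refine MonoidHom.mem_ker.mpr (MulEquiv.ext fun u => (act_eq_iff hι h x u).mpr ?_)
    exact (congrArg Subtype.val (Subgroup.mem_centralizer_iff.mp hx (⟨ι u, hUH ⟨u, u.2, rfl⟩⟩ : H)
      ⟨u, u.2, rfl⟩)).symm
  refine noS3_quotient (V := (U.map ι).subgroupOf H) h4H ((hU.map ι).comap_subtype (K := H)) ?_
  refine CfsgLib.Fsys.involves_of_surjective
    (e := QuotientGroup.lift _ (act ι hι h).rangeRestrict hker) (fun y => ?_) hi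
  obtain ⟨x, rfl⟩ := (act ι hι h).rangeRestrict_surjective y
  exact ⟨QuotientGroup.mk x, rfl⟩

end Rep

/-- The image of a Sylow subgroup under a surjection. -/
theorem sylIn_map {G H : Type*} [Group G] [Finite G] [Group H] [Finite H] {f : G →* H} (hf : Function.Surjective f)
    {T : Subgroup G} (hT : SylIn T ⊤) : SylIn (T.map f) ⊤ := by
  refine ⟨le_top, hT.pgroup.map _, fun Q _ hQ hle => ?_⟩
  obtain ⟨S', hS', -⟩ := exists_sylIn (Subgroup.map_le_iff_le_comap.mp hle) hT.pgroup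
  have hcov := hS'.map_eq f (hQ.to_le (Subgroup.map_comap_le _ _))
  rw [Subgroup.map_comap_eq_self_of_surjective hf] at hcov
  obtain ⟨l, -, hl⟩ := hT.exists_conj_le le_top hS'.pgroup
  refine (Subgroup.eq_of_le_of_card_ge hle ?_).symm
  rw [← hcov]
  refine le_trans (Subgroup.card_le_of_le (Subgroup.map_mono hl)) (le_of_eq ?_)
  rw [cj, Subgroup.map_map, show f.comp (MulAut.conj l).toMonoidHom =
    (MulAut.conj (f l)).toMonoidHom.comp f from MonoidHom.ext fun x => by simp, ← Subgroup.map_map]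
  exact Subgroup.card_map_of_injective (MulAut.conj (f l)).injective

/-- Fusion in the Sylow subgroup is controlled by a subgroup containing the normalisers of the nontrivial subgroups
normal in the Sylow subgroup. -/
theorem exists_agree_of_maximal {X : Type u} [Group X] [Finite X] (h4 : ¬ Cfsg.Involves (Equiv.Perm (Fin 4)) X)
    {T M : Subgroup X} (hT : SylIn T ⊤)
    (hmax : ∀ A ≤ T, A ≠ ⊥ → T ≤ Subgroup.normalizer (A : Set X) → Subgroup.normalizer (A : Set X) ≤ M)
    {A : Subgroup X} {g : X} (hA : A ≤ T) (hgA : cj A g ≤ T) :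
    ∃ m ∈ M, ∀ a ∈ A, g * a * g⁻¹ = m * a * m⁻¹ := by
  by_cases hne : A = ⊥
  · exact ⟨1, M.one_mem, fun a ha => by
      obtain rfl : a = 1 := Subgroup.mem_bot.mp (hne ▸ ha)
      group⟩
  refine exists_agree h4 hT (fun W hW x hx _ _ _ _ => ?_) hA hgA
  haveI : Nontrivial T := (Subgroup.nontrivial_iff_ne_bot T).mpr fun h => hne (le_bot_iff.mp (h ▸ hA))
  haveI : Fact (Nat.Prime 2) := ⟨Nat.prime_two⟩
  have hchar := isCharPFunctor_zjPair W hW
  refine hmax (Cfsg.inducedFunctor W T) (Subgroup.map_subtype_le _) (fun h => hchar.1 T hT.pgroup inferInstance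
    ((Subgroup.map_eq_bot_iff_of_injective _ T.subtype_injective).mp h)) (fun t ht => ?_) hx
  refine Subgroup.mem_normalizer_iff_map_conj_eq.mpr ?_
  have e := hchar.2 T T hT.pgroup (MulAut.conj ⟨t, ht⟩)
  show ((W T).map T.subtype).map (MulAut.conj t).toMonoidHom = (W T).map T.subtype
  rw [Subgroup.map_map, show (MulAut.conj t).toMonoidHom.comp T.subtype =
    T.subtype.comp (MulAut.conj (⟨t, ht⟩ : T)).toMonoidHom from MonoidHom.ext fun _ => rfl, ← Subgroup.map_map]
  exact congrArg _ e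

/-- A subgroup of `Y` is commutative. -/
theorem comm_of_le_yT {S : Type u} [Group S] {V : Subgroup S} (hV : V ≤ yT S) (a b : V) : a * b = b * a :=
  Subtype.ext (zOm_comm (hV b.2) (zOm_le_self _ (hV a.2)))

theorem sq_of_le_yT {S : Type u} [Group S] {V : Subgroup S} (hV : V ≤ yT S) (a : V) : a * a = 1 :=
  Subtype.ext (by rw [Subgroup.coe_mul, ← pow_two]; exact zOm_pow (hV a.2))

/-- The commutative group structure of a subgroup of `Y`. -/
abbrev vComm {S : Type u} [Group S] {V : Subgroup S} (hV : V ≤ yT S) : CommGroup V :=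
  { (inferInstance : Group V) with mul_comm := comm_of_le_yT hV }

/-- The Thompson subgroup of a copy of the group. -/
theorem thompsonOf_range {S G : Type u} [Group S] [Group G] {κ : S →* G} (hκ : Function.Injective κ) :
    Cfsg.thompsonSubgroupOf 2 κ.range = (jT S).map κ := by
  have e := CfsgLib.Fusion.Thompson.map_thompson_equiv (p := 2) (MonoidHom.ofInjective hκ)
  rw [Cfsg.thompsonSubgroupOf, ← e, Subgroup.map_map]
  rfl

section Minimal

variable {S P G : Type u} [Group S] [Finite S] [Group P] [Finite P] [Group G] [Finite G] {ι : S →* P} {κ : S →* G}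
  {K : Subgroup S} {θ : ↥(Subgroup.normalizer ((jT S).map κ : Set G)) →* P}

/-- A minimal subgroup above `S` outside the normaliser of `K`, with an irreducible subgroup of `Y`. -/
structure Bad (ι : S →* P) (K : Subgroup S) (H : Subgroup P) (V : Subgroup S) : Prop where
  S_le : ι.range ≤ H
  not_le : ¬ H ≤ Subgroup.normalizer (K.map ι : Set P)
  V_le : V ≤ yT S
  inv : H ≤ Subgroup.normalizer (V.map ι : Set P)
  ne : V ≠ ⊥
  minH : ∀ H' : Subgroup P, ι.range ≤ H' → H' < H → H' ≤ Subgroup.normalizer (K.map ι : Set P)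
  irr : ∀ U ≤ V, U ≠ ⊥ → H ≤ Subgroup.normalizer (U.map ι : Set P) → U = V

theorem exists_bad {P' : Subgroup P} (hS : ι.range ≤ P') (hnot : ¬ P' ≤ Subgroup.normalizer (K.map ι : Set P))
    {U : Subgroup S} (hU : U ≤ yT S) (hne : U ≠ ⊥) (hinv : P' ≤ Subgroup.normalizer (U.map ι : Set P)) :
    ∃ H V, Bad ι K H V ∧ H ≤ P' ∧ V ≤ U := by
  obtain ⟨H, ⟨hSH, hHP, hH⟩, hminH⟩ := Set.exists_min_image
    {H : Subgroup P | ι.range ≤ H ∧ H ≤ P' ∧ ¬ H ≤ Subgroup.normalizer (K.map ι : Set P)} (fun H => Nat.card H)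
    (Set.toFinite _) ⟨P', hS, le_rfl, hnot⟩
  obtain ⟨V, ⟨hVU, hV, hHV⟩, hminV⟩ := Set.exists_min_image
    {V : Subgroup S | V ≤ U ∧ V ≠ ⊥ ∧ H ≤ Subgroup.normalizer (V.map ι : Set P)} (fun V => Nat.card V)
    (Set.toFinite _) ⟨U, le_rfl, hne, hHP.trans hinv⟩
  refine ⟨H, V, ⟨hSH, hH, hVU.trans hU, hHV, hV, fun H' hS' hlt => ?_, fun U' hle hne' hinv' => ?_⟩, hHP, hVU⟩
  · by_contra hnot'
    exact hlt.ne (Subgroup.eq_of_le_of_card_ge hlt.le (hminH H' ⟨hS', hlt.le.trans hHP, hnot'⟩))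
  · exact Subgroup.eq_of_le_of_card_ge hle (hminV U' ⟨hle.trans hVU, hne', hinv'⟩)

theorem normal_of_inv (hι : Function.Injective ι) {U : Subgroup S}
    (h : ι.range ≤ Subgroup.normalizer (U.map ι : Set P)) : U.Normal :=
  ⟨fun u hu s => by
    obtain ⟨v, hv, e⟩ := (Subgroup.mem_normalizer_iff.mp (h ⟨s, rfl⟩) (ι u)).mp ⟨u, hu, rfl⟩
    rw [← map_inv, ← map_mul, ← map_mul] at e
    exact hι e ▸ hv⟩

theorem Amalgam.exists_central (a : Amalgam ι κ K θ) {U : Subgroup S} (hU : U ≤ yT S) (hn : U.Normal)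
    (hne : U ≠ ⊥) : ∃ z ∈ U, z ≠ 1 ∧ z ∈ zT S := by
  haveI : Fact (Nat.Prime 2) := ⟨Nat.prime_two⟩
  haveI := hn
  haveI := a.hp.isNilpotent
  obtain ⟨z, hz, hz1⟩ := (Subgroup.bot_or_exists_ne_one _).resolve_left
    (CfsgLib.Solvable.FrattiniFitting.inf_center_ne_bot U hne)
  exact ⟨z, hz.1, hz1, ⟨trivial, Subgroup.mem_centralizer_iff.mpr fun s _ => Subgroup.mem_center_iff.mp hz.2 s⟩,
    zOm_pow (hU hz.1)⟩

/-- A central element controls its centraliser. -/
theorem Amalgam.centralizer_le (a : Amalgam ι κ K θ) {z : S} (hz : z ∈ zT S) (hz1 : z ≠ 1) {g : P}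
    (hg : g * ι z = ι z * g) : g ∈ Subgroup.normalizer (K.map ι : Set P) := by
  have hn : (Subgroup.zpowers z).Normal := zpowers_normal fun x => zOm_comm hz (Subgroup.mem_top x)
  refine a.cnp _ hn (Subgroup.zpowers_le.mpr (a.Z_le hz)) (by simpa using hz1) ?_
  rw [MonoidHom.map_zpowers]
  refine Subgroup.mem_normalizer_iff_map_conj_eq.mpr ?_
  rw [MonoidHom.map_zpowers]
  congr 1
  show g * ι z * g⁻¹ = ι z
  rw [hg, mul_inv_cancel_right]

theorem Amalgam.K_normal (a : Amalgam ι κ K θ) : K.Normal :=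
  ⟨fun k hk s => by
    obtain ⟨v, hv, e⟩ := a.K_norm.conj_mem _ ⟨k, hk, rfl⟩ (κ s)
    rw [← map_inv, ← map_mul, ← map_mul] at e
    exact a.κ_inj e ▸ hv⟩

/-- The image of `S` normalises `K`. -/
theorem Amalgam.range_le (a : Amalgam ι κ K θ) : ι.range ≤ Subgroup.normalizer (K.map ι : Set P) := by
  rintro _ ⟨s, rfl⟩
  refine mem_normalizer_iff_cj.mpr (Subgroup.eq_of_le_of_card_ge ?_ (card_cj _ _).ge)
  rintro _ ⟨_, ⟨k, hk, rfl⟩, rfl⟩
  exact ⟨s * k * s⁻¹, a.K_normal.conj_mem k hk s, by simp⟩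

/-- A nontrivial subgroup of `Y` normal in `S` has centraliser in the normaliser of `K`. -/
theorem Amalgam.centralizer_le_of_normal (a : Amalgam ι κ K θ) {U : Subgroup S} (hU : U ≤ yT S) (hn : U.Normal)
    (hne : U ≠ ⊥) : Subgroup.centralizer (U.map ι : Set P) ≤ Subgroup.normalizer (K.map ι : Set P) := by
  obtain ⟨z, hzU, hz1, hz⟩ := a.exists_central hU hn hne
  exact fun g hg => a.centralizer_le hz hz1 (Subgroup.mem_centralizer_iff.mp hg _ ⟨z, hzU, rfl⟩).symm

namespace Bad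

variable {H : Subgroup P} {V : Subgroup S} (a : Amalgam ι κ K θ) (b : Bad ι K H V)
include a b

theorem V_normal : V.Normal := normal_of_inv a.ι_inj (b.S_le.trans b.inv)

theorem centralizer_le : Subgroup.centralizer (V.map ι : Set P) ≤ Subgroup.normalizer (K.map ι : Set P) :=
  a.centralizer_le_of_normal b.V_le (b.V_normal a) b.ne

theorem not_le_K : ¬ V ≤ K := fun h => b.not_le (b.inv.trans (a.cnp V (b.V_normal a) h b.ne))

/-- The group induced on the module. -/
noncomputable abbrev img : Subgroup (MulAut V) := (act ι a.ι_inj b.inv).range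

/-- The image of `H`. -/
noncomputable abbrev proj : H →* img a b := (act ι a.ι_inj b.inv).rangeRestrict

/-- The action of `S`. -/
noncomputable abbrev rep : S →* img a b := (proj a b).comp (ι.codRestrict H fun s => b.S_le ⟨s, rfl⟩)

/-- The image of the normaliser of `K`. -/
noncomputable abbrev ctrl : Subgroup (img a b) :=
  ((Subgroup.normalizer (K.map ι : Set P)).subgroupOf H).map (proj a b)

theorem rep_spec (s : S) (v : V) : ((rep a b s : MulAut V) v : S) = s * v * s⁻¹ := a.ι_inj (by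
  rw [map_mul, map_mul, map_inv]
  exact act_spec a.ι_inj b.inv _ v)

theorem proj_mem_ctrl (x : H) : proj a b x ∈ ctrl a b ↔ (x : P) ∈ Subgroup.normalizer (K.map ι : Set P) := by
  refine ⟨?_, fun h => ⟨x, h, rfl⟩⟩
  rintro ⟨y, hy, e⟩
  have hk : y⁻¹ * x ∈ (act ι a.ι_inj b.inv).ker := by
    rw [← MonoidHom.ker_rangeRestrict, MonoidHom.mem_ker, map_mul, map_inv]
    show (proj a b y)⁻¹ * proj a b x = 1
    rw [e, inv_mul_cancel]
  have h := b.centralizer_le a ((act_ker a.ι_inj b.inv).mp hk)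
  rw [Subgroup.coe_mul, Subgroup.coe_inv] at h
  simpa using mul_mem (show (y : P) ∈ Subgroup.normalizer (K.map ι : Set P) from hy) h

theorem noS4_img : ¬ Cfsg.Involves (Equiv.Perm (Fin 4)) (img a b) := noS4_range a.ι_inj b.inv a.ι_noS4

theorem noS3_img : NoS3 (img a b) := noS3_range a.ι_inj b.inv a.ι_noS4 (a.hp.to_subgroup V)
  ((Subgroup.map_le_range ι V).trans b.S_le)

theorem core_img : Cfsg.pCore 2 (img a b) = ⊥ := by
  letI := vComm b.V_le
  refine pCore_range_eq_bot (sq_of_le_yT b.V_le) fun U hU => ?_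
  by_cases hne : U = ⊥
  · exact Or.inl hne
  refine Or.inr ?_
  have h := b.irr (U.map V.subtype) (Subgroup.map_subtype_le _)
    (fun h => hne ((Subgroup.map_eq_bot_iff_of_injective _ V.subtype_injective).mp h)) fun x hx => by
      refine mem_normalizer_iff_cj.mpr (Subgroup.eq_of_le_of_card_ge ?_ (card_cj _ _).ge)
      rintro _ ⟨_, ⟨_, ⟨u, hu, rfl⟩, rfl⟩, rfl⟩
      exact ⟨_, ⟨_, hU ⟨x, hx⟩ u hu, rfl⟩, act_spec a.ι_inj b.inv ⟨x, hx⟩ u⟩
  refine Subgroup.map_injective V.subtype_injective ?_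
  rw [h, ← MonoidHom.range_eq_map, Subgroup.range_subtype]

theorem sylIn_rep : SylIn (rep a b).range ⊤ := by
  rw [MonoidHom.range_comp]
  refine sylIn_map (MonoidHom.rangeRestrict_surjective _) ⟨le_top, ?_, fun Q _ hQ hle => ?_⟩
  · exact a.hp.of_surjective _ (MonoidHom.rangeRestrict_surjective _)
  · refine (le_antisymm hle ?_).symm
    have hι : ι.range ≤ Q.map H.subtype := by
      rintro _ ⟨s, rfl⟩
      exact ⟨_, hle ⟨s, rfl⟩, rfl⟩
    have h := a.ι_syl.max _ le_top (hQ.map _) hι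
    intro q hq
    obtain ⟨s, hs⟩ := h.le ⟨q, hq, rfl⟩
    exact ⟨s, Subtype.ext hs⟩

theorem rep_mem_ctrl (s : S) : rep a b s ∈ ctrl a b := by
  refine (proj_mem_ctrl a b _).mpr ?_
  exact a.range_le ⟨s, rfl⟩

theorem ctrl_ne_top : ctrl a b ≠ ⊤ := fun h => b.not_le fun x hx =>
  (proj_mem_ctrl a b ⟨x, hx⟩).mp (h.ge (Subgroup.mem_top _))

theorem normalizer_le_ctrl {A : Subgroup (img a b)} (hA : A ≤ (rep a b).range) (hne : A ≠ ⊥)
    (hn : (rep a b).range ≤ Subgroup.normalizer (A : Set (img a b))) :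
    Subgroup.normalizer (A : Set (img a b)) ≤ ctrl a b := by
  set L := ((Subgroup.normalizer (A : Set (img a b))).comap (proj a b)).map H.subtype
  have hSL : ι.range ≤ L := by
    rintro _ ⟨s, rfl⟩
    exact ⟨⟨ι s, b.S_le ⟨s, rfl⟩⟩, hn ⟨s, rfl⟩, rfl⟩
  by_cases hL : L = H
  · refine absurd ?_ hne
    have htop : Subgroup.normalizer (A : Set (img a b)) = ⊤ := top_le_iff.mp fun y _ => by
      obtain ⟨x, rfl⟩ := MonoidHom.rangeRestrict_surjective (act ι a.ι_inj b.inv) y
      obtain ⟨x', hx', e⟩ := hL.ge x.2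
      exact Subtype.ext e ▸ hx'
    haveI : A.Normal := Subgroup.normalizer_eq_top_iff.mp htop
    exact le_bot_iff.mp (core_img a b ▸ CfsgLib.Solvable.Cores.le_pCore (p := 2) ((sylIn_rep a b).pgroup.to_le hA))
  intro y hy
  obtain ⟨x, rfl⟩ := MonoidHom.rangeRestrict_surjective (act ι a.ι_inj b.inv) y
  exact (proj_mem_ctrl a b x).mpr
    (b.minH L hSL (lt_of_le_of_ne (Subgroup.map_subtype_le _) hL) ⟨x, hy, rfl⟩)

theorem exists_agree_img {A : Subgroup (img a b)} (hA : A ≤ (rep a b).range) {g : img a b}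
    (hg : cj A g ≤ (rep a b).range) : ∃ m ∈ ctrl a b, ∀ x ∈ A, g * x * g⁻¹ = m * x * m⁻¹ :=
  exists_agree_of_maximal (noS4_img a b) (sylIn_rep a b) (fun _ => normalizer_le_ctrl a b) hA hg

/-- `S` induces no quadratic offender on the module. -/
theorem noOff (hκ : Function.Injective κ) : NoOffG κ.range (V.map κ) := by
  letI := vComm b.V_le
  intro B hB hq hne
  set A := (B.comap κ).map (rep a b) with hA
  have key : ∀ (s : S) (v : V), κ ((rep a b s : MulAut V) v : S) = κ s * κ v * (κ s)⁻¹ := fun s v => by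
    rw [rep_spec, map_mul, map_mul, map_inv]
  have e0 : ∀ (s : S) (v : V), (rep a b s : MulAut V) v = v ↔ κ s * κ v = κ v * κ s := fun s v => by
    rw [← mul_inv_eq_iff_eq_mul, ← key]
    exact ⟨fun e => by rw [e], fun e => Subtype.ext (hκ e)⟩
  have hker : ∀ s : S, s ∈ (rep a b).ker ↔ κ s ∈ Subgroup.centralizer (V.map κ : Set G) := fun s => by
    rw [MonoidHom.mem_ker, Subgroup.mem_centralizer_iff]
    constructor
    · rintro e _ ⟨v, hv, rfl⟩
      exact ((e0 s ⟨v, hv⟩).mp (by rw [e]; rfl)).symm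
    · exact fun e => Subtype.ext (MulEquiv.ext fun v => (e0 s v).mpr (e _ ⟨v, v.2, rfl⟩).symm)
  have hAne : A ≠ ⊥ := fun h => hne fun x hx => by
    obtain ⟨s, rfl⟩ := hB hx
    exact (hker s).mp (MonoidHom.mem_ker.mpr ((Subgroup.eq_bot_iff_forall _).mp h _ ⟨s, hx, rfl⟩))
  have hquad : Quad (img a b).subtype A := by
    rintro _ ⟨e, he, rfl⟩ _ ⟨f, hf, rfl⟩ v
    refine Subtype.ext (hκ ?_)
    show κ ((rep a b e : MulAut V) ((rep a b f : MulAut V) v * v⁻¹) : S) =
      κ (((rep a b f : MulAut V) v * v⁻¹ : V) : S)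
    rw [key, Subgroup.coe_mul, Subgroup.coe_inv, map_mul, map_inv, key]
    exact hq _ he _ hf _ ⟨v, v.2, rfl⟩
  have h := no_offender (img a b).subtype Subtype.val_injective (sq_of_le_yT b.V_le) (core_img a b) (noS3_img a b)
    hAne hquad
  have hfix : Nat.card (fix (img a b).subtype A) =
      Nat.card ↥(V.map κ ⊓ Subgroup.centralizer (B : Set G)) := by
    have : (fix (img a b).subtype A).map (κ.comp V.subtype) = V.map κ ⊓ Subgroup.centralizer (B : Set G) := by
      ext x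
      constructor
      · rintro ⟨v, hv, rfl⟩
        refine ⟨⟨v, v.2, rfl⟩, Subgroup.mem_centralizer_iff.mpr fun y hy => ?_⟩
        obtain ⟨s, rfl⟩ := hB hy
        exact (e0 s v).mp (hv _ ⟨s, hy, rfl⟩)
      · rintro ⟨⟨v, hv, rfl⟩, hc⟩
        refine ⟨⟨v, hv⟩, ?_, rfl⟩
        rintro _ ⟨s, hs, rfl⟩
        exact (e0 s ⟨v, hv⟩).mpr (Subgroup.mem_centralizer_iff.mp hc _ hs)
    rw [← this, Subgroup.card_map_of_injective (f := κ.comp V.subtype) (hκ.comp V.subtype_injective)]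
  have hcard : Nat.card A = (Subgroup.centralizer (V.map κ : Set G)).relIndex B := by
    rw [hA, ← Subgroup.relIndex_ker]
    conv_rhs => rw [← Subgroup.map_comap_eq_self hB, ← Subgroup.relIndex_comap]
    congr 1
    ext s
    exact hker s
  rwa [wt, hfix, hcard, ← Subgroup.card_map_of_injective (f := κ) (K := V) hκ] at h

/-- A bad subgroup of `Y` is not contained in the core of the second group. -/
theorem not_le_core : ¬ V.map κ ≤ Cfsg.pCore 2 G := fun hle => by
  haveI : Fact (Nat.Prime 2) := ⟨Nat.prime_two⟩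
  haveI hQn : (Cfsg.pCore 2 G).Normal := CfsgLib.Solvable.Cores.pCore_normal 2
  set Q := Cfsg.pCore 2 G
  set W := V.map κ
  haveI := b.V_normal a
  have hQS : Q ≤ κ.range := by
    obtain ⟨l, -, hl⟩ := a.κ_syl.exists_conj_le (le_top : Q ≤ ⊤) (CfsgLib.Solvable.Cores.isPGroup_pCore 2)
    have := cj_mono hl l⁻¹
    rwa [cj_cj, inv_mul_cancel, cj_one, mem_normalizer_iff_cj.mp (Subgroup.normalizer_eq_top (H := Q) ▸
      Subgroup.mem_top l⁻¹)] at this
  have hSW : κ.range ≤ Subgroup.normalizer (W : Set G) := by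
    rintro _ ⟨s, rfl⟩
    refine mem_normalizer_iff_cj.mpr (Subgroup.eq_of_le_of_card_ge ?_ (card_cj _ _).ge)
    rintro _ ⟨_, ⟨v, hv, rfl⟩, rfl⟩
    exact ⟨s * v * s⁻¹, (b.V_normal a).conj_mem v hv s, by simp⟩
  have hWQ : ∀ g, cj W g ≤ Q := fun g => by
    rintro _ ⟨w, hw, rfl⟩
    exact hQn.conj_mem w (hle hw) g
  have hQW : ∀ g, Q ≤ Subgroup.normalizer (cj W g : Set G) := fun g x hx => by
    refine mem_normalizer_iff_cj.mpr ?_
    rw [cj_cj, show x * g = g * (g⁻¹ * x * g) by group, ← cj_cj,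
      mem_normalizer_iff_cj.mp (hSW (hQS (by simpa using hQn.conj_mem x hx g⁻¹)))]
  have hcomm : ∀ w ∈ W, ∀ w' ∈ W, w * w' = w' * w := by
    rintro _ ⟨v, hv, rfl⟩ _ ⟨v', hv', rfl⟩
    rw [← map_mul, ← map_mul]
    exact congrArg κ (congrArg Subtype.val (comm_of_le_yT b.V_le ⟨v, hv⟩ ⟨v', hv'⟩))
  -- the inequality for a conjugate acting nontrivially
  have hlt : ∀ g, ¬ cj W g ≤ Subgroup.centralizer (W : Set G) →
      Nat.card ↥(W ⊓ Subgroup.centralizer (cj W g : Set G)) <
        Nat.card ↥(cj W g ⊓ Subgroup.centralizer (W : Set G)) := by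
    intro g hg
    have h := b.noOff a a.κ_inj (cj W g) ((hWQ g).trans hQS) (by
      intro e he f hf w hw
      have h1 : f * w * f⁻¹ * w⁻¹ ∈ cj W g := by
        rw [mul_assoc, mul_assoc, ← mul_assoc w]
        exact mul_mem hf ((Subgroup.mem_normalizer_iff.mp (hQW g (hle hw)) _).mp (inv_mem hf))
      obtain ⟨e', he', rfl⟩ := he
      obtain ⟨c, hc, hce⟩ := h1
      rw [← hce]
      show g * e' * g⁻¹ * (g * c * g⁻¹) * (g * e' * g⁻¹)⁻¹ = g * c * g⁻¹
      rw [show g * e' * g⁻¹ * (g * c * g⁻¹) * (g * e' * g⁻¹)⁻¹ = g * (e' * c * e'⁻¹) * g⁻¹ by group,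
        hcomm e' he' c hc, mul_inv_cancel_right]) hg
    have hmul : (Subgroup.centralizer (W : Set G)).relIndex (cj W g) *
        Nat.card ↥(cj W g ⊓ Subgroup.centralizer (W : Set G)) = Nat.card W := by
      rw [← card_cj W g, ← Subgroup.inf_relIndex_left, mul_comm]
      have := Subgroup.relIndex_mul_relIndex (⊥ : Subgroup G) (cj W g ⊓ Subgroup.centralizer (W : Set G)) (cj W g)
        bot_le inf_le_left
      rwa [Subgroup.relIndex_bot_left, Subgroup.relIndex_bot_left] at this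
    rw [← hmul] at h
    exact Nat.lt_of_mul_lt_mul_left h
  have hall : ∀ g, cj W g ≤ Subgroup.centralizer (W : Set G) := by
    intro g
    by_contra hg
    have hg' : ¬ cj W g⁻¹ ≤ Subgroup.centralizer (W : Set G) := fun h => hg fun x hx =>
      Subgroup.mem_centralizer_iff.mpr fun w hw => by
        obtain ⟨w', hw', rfl⟩ := hx
        have := Subgroup.mem_centralizer_iff.mp (h ⟨w, hw, rfl⟩) w' hw'
        show w * (g * w' * g⁻¹) = g * w' * g⁻¹ * w
        change w' * (g⁻¹ * w * g⁻¹⁻¹) = g⁻¹ * w * g⁻¹⁻¹ * w' at this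
        calc w * (g * w' * g⁻¹) = g * (g⁻¹ * w * g⁻¹⁻¹ * w') * g⁻¹ := by group
          _ = g * (w' * (g⁻¹ * w * g⁻¹⁻¹)) * g⁻¹ := by rw [this]
          _ = g * w' * g⁻¹ * w := by group
    have h1 := hlt g hg
    have h2 := hlt g⁻¹ hg'
    have e : ∀ x : G, cj (W ⊓ Subgroup.centralizer (cj W x⁻¹ : Set G)) x =
        cj W x ⊓ Subgroup.centralizer (W : Set G) := fun x => by
      rw [cj_inf]
      congr 1
      ext y
      rw [mem_cj, Subgroup.mem_centralizer_iff, Subgroup.mem_centralizer_iff]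
      constructor
      · intro hy w hw
        have h := hy (x⁻¹ * w * x⁻¹⁻¹) ⟨w, hw, rfl⟩
        calc w * y = x * ((x⁻¹ * w * x⁻¹⁻¹) * (x⁻¹ * y * x)) * x⁻¹ := by group
          _ = x * ((x⁻¹ * y * x) * (x⁻¹ * w * x⁻¹⁻¹)) * x⁻¹ := by rw [h]
          _ = y * w := by group
      · rintro hy _ ⟨w, hw, rfl⟩
        show x⁻¹ * w * x⁻¹⁻¹ * (x⁻¹ * y * x) = x⁻¹ * y * x * (x⁻¹ * w * x⁻¹⁻¹)
        calc _ = x⁻¹ * (w * y) * x := by group
          _ = x⁻¹ * (y * w) * x := by rw [hy w hw]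
          _ = _ := by group
    rw [← card_cj _ g, e] at h2
    have e' := e g⁻¹
    rw [inv_inv] at e'
    rw [← card_cj _ g⁻¹, e'] at h1
    omega
  set U := Subgroup.normalClosure (W : Set G)
  haveI : U.Normal := Subgroup.normalClosure_normal
  have hUQ : U ≤ Q := Subgroup.normalClosure_le_normal hle
  have hUW : U ≤ Subgroup.centralizer (W : Set G) := (Subgroup.closure_le _).mpr fun y hy => by
    obtain ⟨w, hw, hwy⟩ := Group.mem_conjugatesOfSet_iff.mp hy
    obtain ⟨g, rfl⟩ := _root_.isConj_iff.mp hwy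
    exact hall g ⟨w, hw, rfl⟩
  have hUc : U ≤ Subgroup.centralizer (U : Set G) :=
    Subgroup.normalClosure_le_normal (Subgroup.le_centralizer_iff.mp hUW)
  have hUea : Cfsg.IsElementaryAbelian 2 U := by
    refine ⟨⟨⟨fun x y => Subtype.ext (Subgroup.mem_centralizer_iff.mp (hUc y.2) x x.2)⟩⟩, fun u hu => ?_⟩
    have hu' : u ∈ U := hu
    induction hu using Subgroup.closure_induction with
    | mem y hy =>
      obtain ⟨w, ⟨v, hv, rfl⟩, hwy⟩ := Group.mem_conjugatesOfSet_iff.mp hy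
      obtain ⟨g, rfl⟩ := _root_.isConj_iff.mp hwy
      rw [conj_pow, ← map_pow, zOm_pow (b.V_le hv), map_one, mul_one, mul_inv_cancel]
    | one => exact one_pow 2
    | mul x y hx hy ihx ihy =>
      rw [Commute.mul_pow (Subgroup.mem_centralizer_iff.mp (hUc hy) x hx), ihx hx, ihy hy, one_mul]
    | inv x hx ih => rw [inv_pow, ih hx, inv_one]
  have hJ := thompson_centralizes a.κ_noS4 a.κ_syl hUea (hUQ.trans hQS) Subgroup.le_normalClosure hSW le_rfl
    (b.noOff a a.κ_inj)
  rw [thompsonOf_range a.κ_inj] at hJ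
  refine b.not_le_K a fun v hv => a.closed v (b.V_le hv) fun g x hx => ?_
  have hin : g⁻¹ * κ v * g ∈ U := by
    simpa using ‹U.Normal›.conj_mem (κ v) (Subgroup.le_normalClosure ⟨v, hv, rfl⟩) g⁻¹
  have h := Subgroup.mem_centralizer_iff.mp (hJ ⟨x, hx, rfl⟩) _ hin
  calc κ v * (g * κ x * g⁻¹) = g * (g⁻¹ * κ v * g * κ x) * g⁻¹ := by group
    _ = g * (κ x * (g⁻¹ * κ v * g)) * g⁻¹ := by rw [h]
    _ = g * κ x * g⁻¹ * κ v := by group

end Bad

end Minimal

end CfsgLib.SFreeW
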