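import Cfsg.Agent.Lib.SFreeW.BadH

/-!
Fusion in the first group of the amalgam: an invariant subgroup centralising no bad module is moved only by the
normaliser of `K`, and consequently centralisers of suitable elements of `Y` are controlled.
-/

set_option autoImplicit false
set_option linter.unusedSectionVars false
set_option linter.style.haveILetI false

namespace CfsgLib.SFreeW

open CfsgLib.Fusion.SFreeFF CfsgLib.Fusion.CentralOffender

universe u

variable {S P G : Type u} [Group S] [Finite S] [Group P] [Finite P] [Group G] [Finite G] {ι : S →* P} {κ : S →* G}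
  {K : Subgroup S} {θ : ↥(Subgroup.normalizer ((jT S).map κ : Set G)) →* P}

theorem map_le_normalizer_map {S' P' : Type*} [Group S'] [Group P'] [Finite P'] (f : S' →* P') {A : Subgroup S'}
    (hA : A.Normal) : f.range ≤ Subgroup.normalizer (A.map f : Set P') := by
  rintro _ ⟨s, rfl⟩
  refine mem_normalizer_iff_cj.mpr (Subgroup.eq_of_le_of_card_ge ?_ (card_cj _ _).ge)
  rintro _ ⟨_, ⟨k, hk, rfl⟩, rfl⟩
  exact ⟨s * k * s⁻¹, hA.conj_mem k hk s, by simp⟩

theorem jT_normal (S : Type u) [Group S] : (jT S).Normal :=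
  ⟨fun x hx g => by
    have h := CfsgLib.Fusion.Thompson.map_thompson_equiv (p := 2) (MulAut.conj g)
    exact h.le (Subgroup.mem_map_of_mem (MulAut.conj g).toMonoidHom hx)⟩

namespace Amalgam

variable (a : Amalgam ι κ K θ)
include a

theorem range_le_J : κ.range ≤ Subgroup.normalizer ((jT S).map κ : Set G) := map_le_normalizer_map κ (jT_normal S)

theorem normalizer_le_Y :
    Subgroup.normalizer ((jT S).map κ : Set G) ≤ Subgroup.normalizer ((yT S).map κ : Set G) := by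
  rw [zOm_map a.κ_inj]
  exact normalizer_le_zOm _

theorem Y_normal : ((yT S).map ι).Normal := by
  refine Subgroup.normalizer_eq_top_iff.mp (top_le_iff.mp ?_)
  haveI := a.J_norm
  rw [zOm_map a.ι_inj]
  exact (Subgroup.normalizer_eq_top (H := (jT S).map ι)).ge.trans (normalizer_le_zOm _)

/-- Corresponding elements of the two normalisers act in the same way. -/
theorem θ_conj (m : ↥(Subgroup.normalizer ((jT S).map κ : Set G))) {x x' : S}
    (h : κ x' = (m : G) * κ x * (m : G)⁻¹) : ι x' = θ m * ι x * (θ m)⁻¹ := by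
  rw [← a.θ_compat x' (a.range_le_J ⟨x', rfl⟩), ← a.θ_compat x (a.range_le_J ⟨x, rfl⟩), ← map_inv, ← map_mul,
    ← map_mul]
  exact congrArg θ (Subtype.ext h)

/-- A subgroup normalised in the second group by the normaliser of `J` is normalised in the first by that of `K`. -/
theorem transfer {A : Subgroup S}
    (h : Subgroup.normalizer ((jT S).map κ : Set G) ≤ Subgroup.normalizer (A.map κ : Set G)) :
    Subgroup.normalizer (K.map ι : Set P) ≤ Subgroup.normalizer (A.map ι : Set P) := by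
  rw [← a.θ_range]
  rintro _ ⟨m, rfl⟩
  refine mem_normalizer_iff_cj.mpr (Subgroup.eq_of_le_of_card_ge ?_ (card_cj _ _).ge)
  rintro _ ⟨_, ⟨x, hx, rfl⟩, rfl⟩
  obtain ⟨x', hx', e⟩ := (Subgroup.mem_normalizer_iff.mp (h m.2) (κ x)).mp ⟨x, hx, rfl⟩
  exact ⟨x', hx', a.θ_conj m e⟩

/-- An invariant subgroup centralising no bad module is moved only by the normaliser of `K`. -/
theorem mem_of_cj_le {B : Subgroup S}
    (hB : Subgroup.normalizer (K.map ι : Set P) ≤ Subgroup.normalizer (B.map ι : Set P))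
    (hbad : ∀ H V, Bad ι K H V → ¬ B.map ι ≤ Subgroup.centralizer (V.map ι : Set P))
    {g : P} (hg : cj (B.map ι) g ≤ ι.range) : g ∈ Subgroup.normalizer (K.map ι : Set P) := by
  suffices ∀ (n : ℕ) (P' : Subgroup P), Nat.card P' = n → ι.range ≤ P' →
      ∀ g ∈ P', cj (B.map ι) g ≤ ι.range → g ∈ Subgroup.normalizer (K.map ι : Set P) from
    this _ ⊤ rfl le_top g trivial hg
  intro n
  induction n using Nat.strong_induction_on with
  | _ n ih => ?_
  intro P' hn hSP g hgP hg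
  by_cases hle : P' ≤ Subgroup.normalizer (K.map ι : Set P)
  · exact hle hgP
  haveI : Fact (Nat.Prime 2) := ⟨Nat.prime_two⟩
  haveI := a.Y_normal
  -- the smallest invariant subgroup containing `Z`
  obtain ⟨U, ⟨hUY, hZU, hUinv⟩, hUmin⟩ := Set.exists_min_image
    {U : Subgroup S | U ≤ yT S ∧ zT S ≤ U ∧ P' ≤ Subgroup.normalizer (U.map ι : Set P)} (fun U => Nat.card U)
    (Set.toFinite _) ⟨yT S, le_rfl, zT_le_yT S, (Subgroup.normalizer_eq_top (H := (yT S).map ι)).ge.trans' le_top⟩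
  haveI := a.nontriv
  have hUne : U ≠ ⊥ := fun h => zT_ne_bot a.hp (le_bot_iff.mp (h ▸ hZU))
  have hUn : U.Normal := normal_of_inv a.ι_inj (hSP.trans hUinv)
  have hcent : Subgroup.centralizer (U.map ι : Set P) ≤ Subgroup.normalizer (K.map ι : Set P) :=
    a.centralizer_le_of_normal hUY hUn hUne
  set X := (act ι a.ι_inj hUinv).range with hX
  set pr : P' →* X := (act ι a.ι_inj hUinv).rangeRestrict with hpr
  have hprs : Function.Surjective pr := MonoidHom.rangeRestrict_surjective _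
  have hker : ∀ {x : P'}, pr x = 1 ↔ (x : P) ∈ Subgroup.centralizer (U.map ι : Set P) := fun {x} => by
    rw [← act_ker a.ι_inj hUinv, ← MonoidHom.ker_rangeRestrict, MonoidHom.mem_ker]
  set T₀ := ι.range.subgroupOf P'
  have hT₀ : SylIn T₀ ⊤ := by
    have h : SylIn ι.range P' := ⟨hSP, a.ι_syl.pgroup, fun Q _ hQ h => a.ι_syl.max Q le_top hQ h⟩
    exact h.subgroupOf
  set T := T₀.map pr with hTdef
  have hT : SylIn T ⊤ := sylIn_map hprs hT₀
  -- no 2-core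
  have hcore : Cfsg.pCore 2 X = ⊥ := by
    haveI : (Cfsg.pCore 2 X).Normal := CfsgLib.Solvable.Cores.pCore_normal 2
    set O := (Cfsg.pCore 2 X).comap pr with hO
    let U' : Subgroup S :=
      { carrier := {w | w ∈ U ∧ ∀ o : P', o ∈ O → (o : P) * ι w = ι w * (o : P)}
        one_mem' := ⟨U.one_mem, fun o _ => by rw [map_one, mul_one, one_mul]⟩
        mul_mem' := fun {x y} hx hy => ⟨U.mul_mem hx.1 hy.1, fun o ho => by
          rw [map_mul, ← mul_assoc, hx.2 o ho, mul_assoc, hy.2 o ho, mul_assoc]⟩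
        inv_mem' := fun {x} hx => ⟨U.inv_mem hx.1, fun o ho => by
          rw [map_inv]
          exact ((show Commute (o : P) (ι x) from hx.2 o ho).inv_right).eq⟩ }
    have hU'U : U' ≤ U := fun w hw => hw.1
    have hZU' : zT S ≤ U' := fun z hz => ⟨hZU hz, fun o ho => by
      have hsyl : SylIn (T₀ ⊓ O) O := hT₀.inf le_top (Subgroup.normalizer_eq_top (H := O)).ge
      obtain ⟨t, ht, e⟩ := (hsyl.map_eq pr ((CfsgLib.Solvable.Cores.isPGroup_pCore 2).to_le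
        (Subgroup.map_comap_le _ _))).ge ⟨o, ho, rfl⟩
      have hk : pr (t⁻¹ * o) = 1 := by rw [map_mul, map_inv, e, inv_mul_cancel]
      have h1 := Subgroup.mem_centralizer_iff.mp (hker.mp hk) _ ⟨z, hZU hz, rfl⟩
      obtain ⟨s, hs⟩ := ht.1
      rw [Subgroup.coe_mul, Subgroup.coe_inv] at h1
      change ι s = (t : P) at hs
      have h2 : ι z * (t : P) = (t : P) * ι z := by
        rw [← hs, ← map_mul, ← map_mul, zOm_comm hz (Subgroup.mem_top s)]
      calc (o : P) * ι z = (t : P) * (((t : P)⁻¹ * o) * ι z) := by group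
        _ = (t : P) * (ι z * ((t : P)⁻¹ * o)) := by rw [h1]
        _ = ((t : P) * ι z) * ((t : P)⁻¹ * o) := by group
        _ = (ι z * (t : P)) * ((t : P)⁻¹ * o) := by rw [h2]
        _ = ι z * o := by group⟩
    have hU'inv : P' ≤ Subgroup.normalizer (U'.map ι : Set P) := fun x hx => by
      refine mem_normalizer_iff_cj.mpr (Subgroup.eq_of_le_of_card_ge ?_ (card_cj _ _).ge)
      rintro _ ⟨_, ⟨w, hw, rfl⟩, rfl⟩
      obtain ⟨w', hw', e⟩ := (Subgroup.mem_normalizer_iff.mp (hUinv hx) (ι w)).mp ⟨w, hw.1, rfl⟩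
      refine ⟨w', ⟨hw', fun o ho => ?_⟩, e⟩
      have h := hw.2 _ ((inferInstance : O.Normal).conj_mem o ho ⟨x, hx⟩⁻¹)
      rw [e]
      change (x⁻¹ * (o : P) * x⁻¹⁻¹) * ι w = ι w * (x⁻¹ * (o : P) * x⁻¹⁻¹) at h
      calc (o : P) * (x * ι w * x⁻¹) = x * ((x⁻¹ * (o : P) * x⁻¹⁻¹) * ι w) * x⁻¹ := by group
        _ = x * (ι w * (x⁻¹ * (o : P) * x⁻¹⁻¹)) * x⁻¹ := by rw [h]
        _ = x * ι w * x⁻¹ * (o : P) := by group
    have heq := Subgroup.eq_of_le_of_card_ge hU'U (hUmin U' ⟨hU'U.trans hUY, hZU', hU'inv⟩)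
    refine (Subgroup.eq_bot_iff_forall _).mpr fun y hy => ?_
    obtain ⟨o, rfl⟩ := hprs y
    refine hker.mpr (Subgroup.mem_centralizer_iff.mpr ?_)
    rintro _ ⟨w, hw, rfl⟩
    exact ((heq.ge hw).2 o hy).symm
  have hTne : T ≠ ⊥ := fun h => hle <| by
    have hUz : U ≤ zT S := fun w hw => by
      refine ⟨⟨trivial, Subgroup.mem_centralizer_iff.mpr fun s _ => a.ι_inj ?_⟩, zOm_pow (hUY hw)⟩
      have hk : pr ⟨ι s, hSP ⟨s, rfl⟩⟩ = 1 := (Subgroup.eq_bot_iff_forall _).mp h _ ⟨_, ⟨s, rfl⟩, rfl⟩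
      rw [map_mul, map_mul]
      exact (Subgroup.mem_centralizer_iff.mp (hker.mp hk) _ ⟨w, hw, rfl⟩).symm
    have hzn : (zT S).Normal := le_antisymm hUz hZU ▸ hUn
    exact hUinv.trans (le_antisymm hUz hZU ▸ a.cnp (zT S) hzn a.Z_le (zT_ne_bot a.hp))
  -- the image of `B`
  set B₀ := (B.map ι).subgroupOf P'
  have hBP : B.map ι ≤ P' := (Subgroup.map_le_range ι B).trans hSP
  set A := B₀.map pr with hAdef
  have hAT : A ≤ T := Subgroup.map_mono (Subgroup.comap_mono (Subgroup.map_le_range ι B))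
  have hAne : A ≠ ⊥ := fun h => by
    obtain ⟨H, V, hb, -, hVU⟩ := exists_bad (K := K) hSP hle hUY hUne hUinv
    exact hbad H V hb fun x hx => Subgroup.centralizer_le (Subgroup.map_mono hVU)
      (hker.mp ((Subgroup.eq_bot_iff_forall _).mp h _ ⟨⟨x, hBP hx⟩, hx, rfl⟩))
  set M := ((Subgroup.normalizer (K.map ι : Set P)).subgroupOf P').map pr with hM
  have hMmem : ∀ {x : P'}, pr x ∈ M ↔ (x : P) ∈ Subgroup.normalizer (K.map ι : Set P) := fun {x} => by
    refine ⟨?_, fun h => ⟨x, h, rfl⟩⟩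
    rintro ⟨y, hy, e⟩
    have hk : pr (y⁻¹ * x) = 1 := by rw [map_mul, map_inv, e, inv_mul_cancel]
    have h := hcent (hker.mp hk)
    rw [Subgroup.coe_mul, Subgroup.coe_inv] at h
    simpa using mul_mem (show (y : P) ∈ Subgroup.normalizer (K.map ι : Set P) from hy) h
  -- descent to a proper subgroup
  have step : ∀ (R : Subgroup X), T ≤ R → R ≠ ⊤ → ∀ x : P', pr x ∈ R → cj A (pr x) ≤ T → pr x ∈ M := by
    intro R hTR hR x hx hxA
    set L := (R.comap pr).map P'.subtype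
    have hSL : ι.range ≤ L := fun y hy => ⟨⟨y, hSP hy⟩, hTR ⟨⟨y, hSP hy⟩, hy, rfl⟩, rfl⟩
    have hlt : Nat.card L < n := by
      rw [← hn]
      refine lt_of_le_of_ne (Subgroup.card_le_of_le (Subgroup.map_subtype_le _)) fun he => hR ?_
      have htop := Subgroup.eq_top_of_card_eq (R.comap pr)
        ((Subgroup.card_map_of_injective P'.subtype_injective).symm.trans he)
      rw [← Subgroup.map_comap_eq_self_of_surjective hprs R, htop, Subgroup.map_top_of_surjective _ hprs]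
    set E := T.comap pr
    have hcjE : cj B₀ x ≤ E := by
      rintro _ ⟨y, hy, rfl⟩
      show pr (x * y * x⁻¹) ∈ T
      rw [map_mul, map_mul, map_inv]
      exact hxA ⟨pr y, ⟨y, hy, rfl⟩, rfl⟩
    have hT₀E : SylIn T₀ E := ⟨Subgroup.le_comap_map _ _, hT₀.pgroup, fun Q _ hQ h => hT₀.max Q le_top hQ h⟩
    obtain ⟨l, hl, hle'⟩ := hT₀E.exists_conj_le hcjE (cj_isPGroup (by
      exact (a.hp.to_subgroup B).map ι |>.comap_subtype) x)
    obtain ⟨t, ht, e⟩ := hl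
    set c := l * t⁻¹ with hc
    have hck : pr c = 1 := by rw [hc, map_mul, map_inv, e, mul_inv_cancel]
    have hcx : cj B₀ (c⁻¹ * x) ≤ T₀ := by
      have h := cj_mono hle' c⁻¹
      rwa [cj_cj, cj_cj, show c⁻¹ * l = t by rw [hc]; group, cj_eq_self_of_mem ht] at h
    have hmem := ih _ hlt L rfl hSL ((c⁻¹ * x : P') : P) ⟨c⁻¹ * x, by
      show pr (c⁻¹ * x) ∈ R
      rwa [map_mul, map_inv, hck, inv_one, one_mul], rfl⟩ (by
      rintro _ ⟨y, hy, rfl⟩
      exact (hcx ⟨⟨y, hBP hy⟩, hy, rfl⟩ : _ ∈ T₀))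
    have h := (hMmem (x := c⁻¹ * x)).mpr hmem
    rwa [map_mul, map_inv, hck, inv_one, one_mul] at h
  have hnormal : ∀ {A' : Subgroup X}, A' ≤ T → A' ≠ ⊥ → Subgroup.normalizer (A' : Set X) ≠ ⊤ := fun hA' hne h => by
    haveI := Subgroup.normalizer_eq_top_iff.mp h
    exact hne (le_bot_iff.mp (hcore ▸ CfsgLib.Solvable.Cores.le_pCore (p := 2) (hT.pgroup.to_le hA')))
  have hMA : M ≤ Subgroup.normalizer (A : Set X) := by
    rintro _ ⟨m, hm, rfl⟩
    refine mem_normalizer_iff_cj.mpr (Subgroup.eq_of_le_of_card_ge ?_ (card_cj _ _).ge)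
    rintro _ ⟨_, ⟨y, hy, rfl⟩, rfl⟩
    exact ⟨m * y * m⁻¹, (Subgroup.mem_normalizer_iff.mp (hB hm) _).mp hy, by simp⟩
  have hTM : T ≤ M := by
    rintro _ ⟨y, hy, rfl⟩
    exact hMmem.mpr (a.range_le hy)
  have hgA : cj A (pr ⟨g, hgP⟩) ≤ T := by
    rintro _ ⟨_, ⟨y, hy, rfl⟩, rfl⟩
    exact ⟨⟨g, hgP⟩ * y * ⟨g, hgP⟩⁻¹, hg ⟨y, hy, rfl⟩, by simp⟩
  obtain ⟨m, hm, he⟩ := exists_agree (noS4_range a.ι_inj hUinv a.ι_noS4) hT (M := M) (by
    intro W hW x hx m hm _ hxm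
    haveI : Nontrivial T := (Subgroup.nontrivial_iff_ne_bot T).mpr hTne
    have hchar := isCharPFunctor_zjPair W hW
    have hTW : T ≤ Subgroup.normalizer (Cfsg.inducedFunctor W T : Set X) := fun t ht => by
      refine Subgroup.mem_normalizer_iff_map_conj_eq.mpr ?_
      have e := hchar.2 T T hT.pgroup (MulAut.conj ⟨t, ht⟩)
      show ((W T).map T.subtype).map (MulAut.conj t).toMonoidHom = (W T).map T.subtype
      rw [Subgroup.map_map, show (MulAut.conj t).toMonoidHom.comp T.subtype =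
        T.subtype.comp (MulAut.conj (⟨t, ht⟩ : T)).toMonoidHom from MonoidHom.ext fun _ => rfl, ← Subgroup.map_map]
      exact congrArg _ e
    obtain ⟨x, rfl⟩ := hprs x
    refine step _ hTW (hnormal (Subgroup.map_subtype_le _) fun h => hchar.1 T hT.pgroup inferInstance
      ((Subgroup.map_eq_bot_iff_of_injective _ T.subtype_injective).mp h)) x hx ?_
    rwa [← cj_cj, mem_normalizer_iff_cj.mp (hMA hm)] at hxm) hAT hgA
  have hn' : m⁻¹ * pr ⟨g, hgP⟩ ∈ Subgroup.normalizer (A : Set X) := by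
    refine mem_normalizer_iff_cj.mpr (Subgroup.eq_of_le_of_card_ge ?_ (card_cj _ _).ge)
    rintro _ ⟨y, hy, rfl⟩
    show m⁻¹ * pr ⟨g, hgP⟩ * y * (m⁻¹ * pr ⟨g, hgP⟩)⁻¹ ∈ A
    rw [show m⁻¹ * pr ⟨g, hgP⟩ * y * (m⁻¹ * pr ⟨g, hgP⟩)⁻¹ = m⁻¹ * (pr ⟨g, hgP⟩ * y * (pr ⟨g, hgP⟩)⁻¹) * m by group,
      he y hy, show m⁻¹ * (m * y * m⁻¹) * m = y by group]
    exact hy
  obtain ⟨x, hx⟩ := hprs (m⁻¹ * pr ⟨g, hgP⟩)
  have h1 := step _ (hTM.trans hMA) (hnormal hAT hAne) x (hx ▸ hn') (by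
    rw [hx, mem_normalizer_iff_cj.mp hn']; exact hAT)
  rw [hx] at h1
  have h2 := mul_mem hm h1
  rw [mul_inv_cancel_left] at h2
  exact hMmem.mp h2

/-- The centraliser of a suitable element of `Y` carries the invariant subgroup into the normaliser of `K`. -/
theorem cj_centralizer_le {B Φ : Subgroup S}
    (hwc : ∀ g, cj (B.map ι) g ≤ ι.range → g ∈ Subgroup.normalizer (K.map ι : Set P))
    (hΦ : Subgroup.normalizer (K.map ι : Set P) ≤ Subgroup.normalizer (Φ.map ι : Set P))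
    {u : S} (hu : u ∈ yT S) (hu1 : u ≠ 1) (hBu : ∀ b ∈ B, b * u = u * b)
    (key : ∀ m ∈ Subgroup.normalizer ((jT S).map κ : Set G), ∀ u', κ u' = m * κ u * m⁻¹ →
      (∀ x ∈ Φ, x * u' = u' * x) ∧ ∀ y ∈ yT S, (∀ g, g * κ u' = κ u' * g → ∀ x ∈ jT S,
        κ y * (g * κ x * g⁻¹) = g * κ x * g⁻¹ * κ y) → ∀ x ∈ Φ, x * y = y * x)
    {h : P} (hh : h * ι u = ι u * h) : cj (Φ.map ι) h ≤ Subgroup.normalizer (K.map ι : Set P) := by
  haveI : Fact (Nat.Prime 2) := ⟨Nat.prime_two⟩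
  haveI := a.nontriv
  set C := Subgroup.centralizer ({ι u} : Set P)
  have hC : ∀ {x : P}, x ∈ C ↔ x * ι u = ι u * x := Subgroup.mem_centralizer_singleton_iff
  obtain ⟨T, hT, hle⟩ := exists_sylIn (L := C) (Q := (Subgroup.centralizer ({u} : Set S)).map ι) (by
    rintro _ ⟨s, hs, rfl⟩
    exact hC.mpr (by rw [← map_mul, ← map_mul, Subgroup.mem_centralizer_singleton_iff.mp hs]))
    ((a.hp.to_subgroup _).map ι)
  obtain ⟨g, -, hg⟩ := a.ι_syl.exists_conj_le (le_top : T ≤ ⊤) hT.pgroup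
  have hg' : cj T g⁻¹ ≤ ι.range := by
    have := cj_mono hg g⁻¹
    rwa [cj_cj, inv_mul_cancel, cj_one] at this
  have hgM : g⁻¹ ∈ Subgroup.normalizer (K.map ι : Set P) := hwc _ ((cj_mono (fun x hx => by
    obtain ⟨y, hy, rfl⟩ := hx
    exact hle ⟨y, Subgroup.mem_centralizer_singleton_iff.mpr (hBu y hy), rfl⟩) _).trans hg')
  rw [← a.θ_range] at hgM
  obtain ⟨m, hm⟩ := hgM
  obtain ⟨u', hu'Y, hu'⟩ := (Subgroup.mem_normalizer_iff.mp (a.normalizer_le_Y m.2) (κ u)).mp ⟨u, hu, rfl⟩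
  have hιu' := a.θ_conj m hu'
  rw [hm, inv_inv] at hιu'
  have hu'1 : u' ≠ 1 := fun h' => hu1 (a.κ_inj (by
    rw [h', map_one] at hu'
    rw [map_one]
    calc κ u = (m : G)⁻¹ * ((m : G) * κ u * (m : G)⁻¹) * m := by group
      _ = 1 := by rw [← hu', mul_one, inv_mul_cancel]))
  obtain ⟨hΦu', hkey⟩ := key m m.2 u' hu'
  set C' := Subgroup.centralizer ({ι u'} : Set P)
  have hC' : ∀ {x : P}, x ∈ C' ↔ x * ι u' = ι u' * x := Subgroup.mem_centralizer_singleton_iff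
  have hCC : cj C g⁻¹ = C' := by
    ext x
    rw [mem_cj, hC, hC', hιu', inv_inv]
    constructor
    · intro e
      calc x * (g⁻¹ * ι u * g) = g⁻¹ * ((g * x * g⁻¹) * ι u) * g := by group
        _ = g⁻¹ * (ι u * (g * x * g⁻¹)) * g := by rw [e]
        _ = g⁻¹ * ι u * g * x := by group
    · intro e
      calc g * x * g⁻¹ * ι u = g * (x * (g⁻¹ * ι u * g)) * g⁻¹ := by group
        _ = g * (g⁻¹ * ι u * g * x) * g⁻¹ := by rw [e]
        _ = ι u * (g * x * g⁻¹) := by group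
  have hT' := hT.cj g⁻¹
  rw [hCC] at hT'
  set T' := (Subgroup.centralizer ({u'} : Set S)).map ι with hT'def
  have hT'C : T' ≤ C' := by
    rintro _ ⟨s, hs, rfl⟩
    exact hC'.mpr (by rw [← map_mul, ← map_mul, Subgroup.mem_centralizer_singleton_iff.mp hs])
  have hsyl : SylIn T' C' := by
    have hle' : cj T g⁻¹ ≤ T' := fun x hx => by
      obtain ⟨s, rfl⟩ := hg' hx
      refine ⟨s, Subgroup.mem_centralizer_singleton_iff.mpr (a.ι_inj ?_), rfl⟩
      rw [map_mul, map_mul]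
      exact hC'.mp (hT'.le hx)
    rw [hT'.max T' hT'C ((a.hp.to_subgroup _).map ι) hle']
    exact hT'
  have hcomm : ∀ h' ∈ C', ∀ x ∈ Φ, ∀ z ∈ zT S,
      h'⁻¹ * ι x * h' * ι z = ι z * (h'⁻¹ * ι x * h') := by
    intro h' hh' x hx z hz
    obtain ⟨y, hy, e⟩ := a.Y_normal.conj_mem _ ⟨z, zT_le_yT S hz, rfl⟩ h'
    have hxy : ι x * (h' * ι z * h'⁻¹) = h' * ι z * h'⁻¹ * ι x := by
      rw [← e, ← map_mul, ← map_mul,
        hkey y hy (a.comm_of_centralizer u' hu'Y hu'1 hsyl h' (hC'.mp hh') z hz y e) x hx]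
    calc h'⁻¹ * ι x * h' * ι z = h'⁻¹ * (ι x * (h' * ι z * h'⁻¹)) * h' := by group
      _ = h'⁻¹ * (h' * ι z * h'⁻¹ * ι x) * h' := by rw [hxy]
      _ = ι z * (h'⁻¹ * ι x * h') := by group
  -- the closure of `Φ` in the centraliser is a normal 2-subgroup
  set Φ' := (Φ.map ι).subgroupOf C'
  have hΦC : Φ.map ι ≤ C' := by
    rintro _ ⟨x, hx, rfl⟩
    exact hC'.mpr (by rw [← map_mul, ← map_mul, hΦu' x hx])
  set N₀ := Subgroup.normalClosure (Φ' : Set C')
  haveI : N₀.Normal := Subgroup.normalClosure_normal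
  have hN₀ : ∀ x ∈ N₀, (x : P) ∈ Subgroup.normalizer (K.map ι : Set P) := by
    obtain ⟨z, hz, hz1⟩ := (Subgroup.bot_or_exists_ne_one _).resolve_left (zT_ne_bot a.hp)
    intro x hx
    refine a.centralizer_le hz hz1 ?_
    induction hx using Subgroup.closure_induction with
    | mem y hy =>
      obtain ⟨w, ⟨x, hx, hxe⟩, hwy⟩ := Group.mem_conjugatesOfSet_iff.mp hy
      obtain ⟨c, rfl⟩ := _root_.isConj_iff.mp hwy
      have h1 := hcomm _ (C'.inv_mem c.2) x hx z hz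
      rw [inv_inv, hxe] at h1
      exact h1
    | one => simp
    | mul y y' _ _ hy hy' => exact (Commute.mul_left hy hy').eq
    | inv y _ hy => exact (Commute.inv_left hy).eq
  haveI : (Φ'.subgroupOf N₀).Normal := ⟨fun y hy n =>
    (Subgroup.mem_normalizer_iff.mp (hΦ (hN₀ n n.2)) _).mp hy⟩
  have h2 : IsPGroup 2 (Φ'.subgroupOf N₀) := ((a.hp.to_subgroup Φ).map ι).comap_subtype.comap_subtype
  have hΦ'core : Φ' ≤ Cfsg.pCore 2 C' := fun x hx =>
    CfsgLib.Solvable.Cores.map_pCore_le 2 N₀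
      ⟨⟨x, Subgroup.le_normalClosure hx⟩, CfsgLib.Solvable.Cores.le_pCore h2 hx, rfl⟩
  haveI : (Cfsg.pCore 2 C').Normal := CfsgLib.Solvable.Cores.pCore_normal 2
  have hcoreT : (Cfsg.pCore 2 C').map C'.subtype ≤ T' := by
    obtain ⟨l, hl, hl'⟩ := hsyl.exists_conj_le (Subgroup.map_subtype_le _)
      ((CfsgLib.Solvable.Cores.isPGroup_pCore 2).map _)
    intro y hy
    obtain ⟨y, hy, rfl⟩ := hy
    have h1 := mem_cj.mp (hl' ⟨⟨l, hl⟩ * y * ⟨l, hl⟩⁻¹,
      (inferInstance : (Cfsg.pCore 2 C').Normal).conj_mem y hy _, rfl⟩)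
    simpa [mul_assoc] using h1
  rintro _ ⟨_, ⟨x, hx, rfl⟩, rfl⟩
  have hh' : g⁻¹ * h * g ∈ C' := hCC ▸ ⟨h, hC.mpr hh, by simp⟩
  obtain ⟨x', hx', e⟩ := (Subgroup.mem_normalizer_iff.mp
    (hΦ (hm ▸ (a.θ_range ▸ ⟨m, rfl⟩ : θ m ∈ Subgroup.normalizer (K.map ι : Set P)))) (ι x)).mp ⟨x, hx, rfl⟩
  have h3 := hcoreT ⟨⟨g⁻¹ * h * g, hh'⟩ * ⟨ι x', hΦC ⟨x', hx', rfl⟩⟩ * ⟨g⁻¹ * h * g, hh'⟩⁻¹,
    (inferInstance : (Cfsg.pCore 2 C').Normal).conj_mem _ (hΦ'core (show _ ∈ Φ' from ⟨x', hx', rfl⟩)) _, rfl⟩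
  obtain ⟨s, -, hs⟩ := h3
  have e1 : ι s = g⁻¹ * h * g * ι x' * (g⁻¹ * h * g)⁻¹ := hs
  have hgM : g⁻¹ ∈ Subgroup.normalizer (K.map ι : Set P) := hm ▸ (a.θ_range ▸ ⟨m, rfl⟩)
  have h4 := mul_mem (mul_mem (inv_mem hgM) (a.range_le ⟨s, rfl⟩)) hgM
  rw [e1, e, inv_inv] at h4
  show h * ι x * h⁻¹ ∈ _
  convert h4 using 1
  group

end Amalgam

namespace Bad

variable {H : Subgroup P} {V : Subgroup S} (a : Amalgam ι κ K θ) (b : Bad ι K H V)
include a b

/-- An invariant subgroup acting nontrivially on the module is carried into the normaliser of `K` only by it. -/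
theorem mem_of_cj {A : Subgroup S}
    (hA : Subgroup.normalizer (K.map ι : Set P) ≤ Subgroup.normalizer (A.map ι : Set P))
    (hne : A.map (rep a b) ≠ ⊥) {h : P} (hH : h ∈ H)
    (hle : cj (A.map ι) h ≤ Subgroup.normalizer (K.map ι : Set P)) :
    h ∈ Subgroup.normalizer (K.map ι : Set P) := by
  set A' := A.map (rep a b)
  have hT : SylIn (rep a b).range (ctrl a b) :=
    ⟨by rintro _ ⟨s, rfl⟩; exact rep_mem_ctrl a b s, (sylIn_rep a b).pgroup,
      fun U _ hU h => (sylIn_rep a b).max U le_top hU h⟩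
  have hinv : ctrl a b ≤ Subgroup.normalizer (A' : Set (img a b)) := by
    rintro _ ⟨m, hm, rfl⟩
    refine mem_normalizer_iff_cj.mpr (Subgroup.eq_of_le_of_card_ge ?_ (card_cj _ _).ge)
    rintro _ ⟨_, ⟨x, hx, rfl⟩, rfl⟩
    obtain ⟨x', hx', e⟩ := (Subgroup.mem_normalizer_iff.mp (hA hm) (ι x)).mp ⟨x, hx, rfl⟩
    refine ⟨x', hx', ?_⟩
    show proj a b ⟨ι x', _⟩ = proj a b m * proj a b ⟨ι x, _⟩ * (proj a b m)⁻¹
    rw [← map_inv, ← map_mul, ← map_mul]
    exact congrArg _ (Subtype.ext e)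
  set g := proj a b ⟨h, hH⟩ with hg
  have hcj : cj A' g ≤ ctrl a b := by
    rintro _ ⟨_, ⟨x, hx, rfl⟩, rfl⟩
    refine ⟨⟨h, hH⟩ * ⟨ι x, b.S_le ⟨x, rfl⟩⟩ * ⟨h, hH⟩⁻¹, hle ⟨ι x, ⟨x, hx, rfl⟩, rfl⟩, ?_⟩
    simp only [map_mul, map_inv]
    rfl
  obtain ⟨c, hc, hcle⟩ := hT.exists_conj_le hcj (cj_isPGroup ((a.hp.to_subgroup A).map _) g)
  have h1 : cj A' (c⁻¹ * g) ≤ (rep a b).range := by
    have := cj_mono hcle c⁻¹
    rwa [cj_cj, cj_cj, inv_mul_cancel, cj_one] at this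
  have hA' : A' ≤ (rep a b).range := Subgroup.map_le_range _ A
  obtain ⟨m, hm, he⟩ := exists_agree_img a b hA' h1
  have h2 : c⁻¹ * g ∈ ctrl a b := by
    have h3 : m⁻¹ * (c⁻¹ * g) ∈ Subgroup.normalizer (A' : Set (img a b)) := by
      refine mem_normalizer_iff_cj.mpr (Subgroup.eq_of_le_of_card_ge ?_ (card_cj _ _).ge)
      rintro _ ⟨y, hy, rfl⟩
      show m⁻¹ * (c⁻¹ * g) * y * (m⁻¹ * (c⁻¹ * g))⁻¹ ∈ A'
      rw [show m⁻¹ * (c⁻¹ * g) * y * (m⁻¹ * (c⁻¹ * g))⁻¹ = m⁻¹ * (c⁻¹ * g * y * (c⁻¹ * g)⁻¹) * m by group,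
        he y hy, show m⁻¹ * (m * y * m⁻¹) * m = y by group]
      exact hy
    have h4 := mul_mem hm (normalizer_le_ctrl a b hA' hne (hT.le.trans hinv) h3)
    rwa [mul_inv_cancel_left] at h4
  have h5 := mul_mem hc h2
  rw [mul_inv_cancel_left] at h5
  exact (proj_mem_ctrl a b _).mp h5

end Bad

end CfsgLib.SFreeW
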