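import Cfsg.Agent.Lib.SFreeW.Slice
import Cfsg.Agent.Lib.SFreeW.Control
import Cfsg.Agent.Lib.SFreeW.Endgame.Main

/-!
No amalgam without a section `S₄` exists: a bad module of largest fixed point space in the core produces the final
configuration.
-/

set_option autoImplicit false
set_option linter.unusedSectionVars false
set_option linter.style.haveILetI false

open scoped commutatorElement

namespace CfsgLib.SFreeW

open Subgroup
open CfsgLib.Fusion.SFreeFF CfsgLib.Fusion.CentralOffender CfsgLib.Solvable.Cores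

universe u

variable {S P G : Type u} [Group S] [Finite S] [Group P] [Finite P] [Group G] [Finite G] {ι : S →* P} {κ : S →* G}
  {K : Subgroup S} {θ : ↥(Subgroup.normalizer ((jT S).map κ : Set G)) →* P}

open CfsgLib.SFreeW.Bad

/-- The span of a subgroup under a group of operators. -/
def spanBy {G : Type u} [Group G] (M W : Subgroup G) : Subgroup G := ⨆ m : M, cj W m

theorem le_normalizer_spanBy {G : Type u} [Group G] [Finite G] (M W : Subgroup G) :
    M ≤ normalizer (spanBy M W : Set G) := fun g hg => by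
  refine mem_normalizer_iff_cj.mpr (Subgroup.eq_of_le_of_card_ge ?_ (card_cj _ _).ge)
  rw [spanBy, cj, Subgroup.map_iSup]
  refine iSup_le fun m => ?_
  refine le_trans (le_of_eq ?_) (le_iSup (fun m : M => cj W m) (⟨g, hg⟩ * m))
  exact cj_cj W m g

theorem le_spanBy {G : Type u} [Group G] (M W : Subgroup G) : W ≤ spanBy M W :=
  le_trans (le_of_eq (cj_one W).symm) (le_iSup (fun m : M => cj W m) 1)

theorem spanBy_le {G : Type u} [Group G] [Finite G] {M W U : Subgroup G} (hM : M ≤ normalizer (U : Set G))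
    (h : W ≤ U) : spanBy M W ≤ U :=
  iSup_le fun m => (cj_mono h _).trans (mem_normalizer_iff_cj.mp (hM m.2)).le

theorem le_normalizer_inf {G : Type u} [Group G] [Finite G] {M A B : Subgroup G}
    (hA : M ≤ normalizer (A : Set G)) (hB : M ≤ normalizer (B : Set G)) : M ≤ normalizer ((A ⊓ B : Subgroup G) : Set G) :=
  fun g hg => mem_normalizer_iff_cj.mpr
    (by rw [cj_inf, mem_normalizer_iff_cj.mp (hA hg), mem_normalizer_iff_cj.mp (hB hg)])

theorem le_normalizer_centralizer {G : Type u} [Group G] [Finite G] {M A : Subgroup G}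
    (hA : M ≤ normalizer (A : Set G)) : M ≤ normalizer (centralizer (A : Set G) : Set G) := fun g hg => by
  refine mem_normalizer_iff_cj.mpr (Subgroup.eq_of_le_of_card_ge ?_ (card_cj _ _).ge)
  rintro _ ⟨c, hc, rfl⟩
  refine mem_centralizer_iff.mpr fun x hx => ?_
  have h := mem_centralizer_iff.mp hc (g⁻¹ * x * g⁻¹⁻¹) ((mem_normalizer_iff.mp (inv_mem (hA hg)) x).mp hx)
  show x * (g * c * g⁻¹) = g * c * g⁻¹ * x
  calc x * (g * c * g⁻¹) = g * ((g⁻¹ * x * g⁻¹⁻¹) * c) * g⁻¹ := by group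
    _ = g * (c * (g⁻¹ * x * g⁻¹⁻¹)) * g⁻¹ := by rw [h]
    _ = g * c * g⁻¹ * x := by group

/-- No amalgam exists. -/
theorem Amalgam.false (a : Amalgam ι κ K θ) : False := by
  haveI : Fact (Nat.Prime 2) := ⟨Nat.prime_two⟩
  haveI := a.nontriv
  set MG := Subgroup.normalizer ((jT S).map κ : Set G) with hMG
  set YG := (yT S).map κ with hYG
  haveI := a.Y_normal
  set Qb := Cfsg.pCore 2 G with hQbdef
  haveI hQbn : Qb.Normal := pCore_normal 2
  -- a bad module with largest centraliser of its span in the core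
  obtain ⟨H₀, V₀, hb₀, -, -⟩ := exists_bad (K := K) (le_top : ι.range ≤ ⊤)
    (fun h => a.not_normal (top_le_iff.mp h)) (le_refl (yT S))
    (fun h => zT_ne_bot a.hp (le_bot_iff.mp (h ▸ zT_le_yT S)))
    (Subgroup.normalizer_eq_top (H := (yT S).map ι)).ge
  obtain ⟨⟨H, V⟩, b, hmax⟩ := Set.exists_max_image {p : Subgroup P × Subgroup S | Bad ι K p.1 p.2}
    (fun p => Nat.card ↥(Qb ⊓ centralizer (spanBy MG (p.2.map κ) : Set G))) (Set.toFinite _) ⟨(H₀, V₀), hb₀⟩
  change Bad ι K H V at b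
  set W := spanBy MG (V.map κ) with hW
  have hMY : MG ≤ normalizer (YG : Set G) := a.normalizer_le_Y
  have hWY : W ≤ YG := spanBy_le hMY (Subgroup.map_mono b.V_le)
  have hMW : MG ≤ normalizer (W : Set G) := le_normalizer_spanBy MG _
  -- a minimal group in which the span leaves the core
  obtain ⟨Γ, ⟨hMΓ, hWΓ⟩, hΓmin⟩ := Set.exists_min_image
    {L : Subgroup G | MG ≤ L ∧ ¬ W ≤ (Cfsg.pCore 2 L).map L.subtype} (fun L => Nat.card L) (Set.toFinite _)
    ⟨⊤, le_top, fun h => b.not_le_core a ((le_spanBy MG _).trans (h.trans (map_pCore_le 2 ⊤)))⟩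
  have hSΓ : κ.range ≤ Γ := a.range_le_J.trans hMΓ
  set κΓ := κ.codRestrict Γ fun s => hSΓ ⟨s, rfl⟩ with hκΓ
  have hκΓi : Function.Injective κΓ := fun x y e => a.κ_inj (congrArg Subtype.val e)
  set T := κΓ.range with hTdef
  set M := MG.subgroupOf Γ with hMdef
  set W' := W.subgroupOf Γ with hW'def
  set Y' := YG.subgroupOf Γ with hY'def
  set R := Qb.subgroupOf Γ with hRdef
  have hYS : YG ≤ κ.range := Subgroup.map_le_range κ _
  have hQS : Qb ≤ κ.range := by
    obtain ⟨l, -, hl⟩ := a.κ_syl.exists_conj_le (le_top : Qb ≤ ⊤) (isPGroup_pCore 2)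
    have := cj_mono hl l⁻¹
    rwa [cj_cj, inv_mul_cancel, cj_one, mem_normalizer_iff_cj.mp (Subgroup.normalizer_eq_top (H := Qb) ▸
      Subgroup.mem_top l⁻¹)] at this
  have hTeq : T = κ.range.subgroupOf Γ := by
    ext x
    exact ⟨fun ⟨s, e⟩ => ⟨s, congrArg Subtype.val e⟩, fun ⟨s, e⟩ => ⟨s, Subtype.ext e⟩⟩
  have hT : SylIn T ⊤ := by
    have h : SylIn κ.range Γ := ⟨hSΓ, a.κ_syl.pgroup, fun Q _ hQ h => a.κ_syl.max Q le_top hQ h⟩
    rw [hTeq]
    exact h.subgroupOf
  have hnorm : ∀ {A : Subgroup G}, MG ≤ normalizer (A : Set G) →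
      M ≤ normalizer (A.subgroupOf Γ : Set Γ) := fun hA m hm =>
    mem_normalizer_iff.mpr fun x => mem_normalizer_iff.mp (hA hm) x
  obtain ⟨L, Φ, sl⟩ := exists_slice (X := Γ) (W := W') (Y := Y') (R := R) hT
    (hTeq.le.trans (comap_mono a.range_le_J)) (comap_mono hWY) (hTeq ▸ comap_mono hYS) (hnorm hMW)
    (hnorm hMY) ((isPGroup_pCore 2).comap_subtype) (fun x hx => by
      refine a.κ_charP (mem_centralizer_iff.mpr fun y hy => ?_)
      exact congrArg Subtype.val (mem_centralizer_iff.mp hx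
        ⟨y, hSΓ (hQS hy)⟩ hy)) (fun h => hWΓ fun w hw => by
      exact ⟨⟨w, hSΓ (hYS (hWY hw))⟩, h hw, rfl⟩) (fun L' hL' hne => by
      intro w hw
      set L'' := L'.map Γ.subtype
      have hlt : Nat.card L'' < Nat.card Γ := by
        rw [card_map_of_injective Γ.subtype_injective]
        exact lt_of_le_of_ne L'.card_le_card_group fun he => hne (L'.eq_top_of_card_eq he)
      have hML : MG ≤ L'' := fun m hm => ⟨⟨m, hMΓ hm⟩, hL' hm, rfl⟩
      have hWL : W ≤ (Cfsg.pCore 2 L'').map L''.subtype := by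
        by_contra h
        exact absurd (hΓmin L'' ⟨hML, h⟩) (not_le.mpr hlt)
      obtain ⟨x, hx, e⟩ := hWL hw
      rw [← map_pCore (L'.equivMapOfInjective Γ.subtype Γ.subtype_injective) 2] at hx
      obtain ⟨y, hy, rfl⟩ := hx
      exact ⟨y, hy, Subtype.ext e⟩)
  haveI hΦn : Φ.Normal := sl.Φ_norm
  haveI hLn : L.Normal := sl.L_norm
  set Q := Cfsg.pCore 2 Γ with hQ
  haveI hQn : Q.Normal := pCore_normal 2
  haveI : (centralizer (L : Set Γ)).Normal := inferInstance
  have hQT : Q ≤ T := by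
    obtain ⟨l, -, hl⟩ := hT.exists_conj_le (le_top : Q ≤ ⊤) (isPGroup_pCore 2)
    have := cj_mono hl l⁻¹
    rwa [cj_cj, inv_mul_cancel, cj_one, mem_normalizer_iff_cj.mp (Subgroup.normalizer_eq_top (H := Q) ▸
      Subgroup.mem_top l⁻¹)] at this
  have hRQ : R ≤ Q := le_pCore (p := 2) ((isPGroup_pCore 2).comap_subtype)
  have hΦQ : Φ ≤ Q := sl.Φ_le.trans hRQ
  have hΦT : Φ ≤ T := hΦQ.trans hQT
  set ΦS := Φ.comap κΓ with hΦS
  -- invariance of `Φ`
  have hMnorm : ∀ {A : Subgroup Γ}, A.Normal → MG ≤ normalizer ((A.map Γ.subtype : Subgroup G) : Set G) :=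
    fun {A} hA g hg => by
      refine mem_normalizer_iff_cj.mpr (Subgroup.eq_of_le_of_card_ge ?_ (card_cj _ _).ge)
      rintro _ ⟨_, ⟨x, hx, rfl⟩, rfl⟩
      exact ⟨⟨g, hMΓ hg⟩ * x * ⟨g, hMΓ hg⟩⁻¹, hA.conj_mem x hx _, rfl⟩
  have hΦmap : ΦS.map κ = Φ.map Γ.subtype := by
    have h : ΦS.map κΓ = Φ := Subgroup.map_comap_eq_self hΦT
    rw [← h, Subgroup.map_map]
    rfl
  have hΦG : MG ≤ normalizer ((ΦS.map κ : Subgroup G) : Set G) := hΦmap ▸ hMnorm hΦn
  have hΦP : normalizer (K.map ι : Set P) ≤ normalizer (ΦS.map ι : Set P) := a.transfer hΦG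
  -- the centraliser in the core of the part of the span centralised by `L`
  set WL := W ⊓ (centralizer (L : Set Γ)).map Γ.subtype with hWLdef
  set Bk := Qb ⊓ centralizer (WL : Set G) with hBk
  have hBkM : MG ≤ normalizer (Bk : Set G) := le_normalizer_inf
    ((Subgroup.normalizer_eq_top (H := Qb)).ge.trans' le_top)
    (le_normalizer_centralizer (le_normalizer_inf hMW (hMnorm inferInstance)))
  set B := Bk.comap κ with hBdef
  have hBmap : B.map κ = Bk := Subgroup.map_comap_eq_self (inf_le_left.trans hQS)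
  have hfixed : ∀ {y : Γ}, y ∈ Y' → y ∈ centralizer (L : Set Γ) → ∀ x ∈ Φ, x * y = y * x := fun {y} hy hL x hx =>
    sl.centralised y (sl.gen y (fun l hl => (mem_centralizer_iff.mp hL l hl).symm) hy) hL x hx
  have hΦB : Φ.map Γ.subtype ≤ Bk := by
    rintro _ ⟨x, hx, rfl⟩
    refine ⟨sl.Φ_le hx, mem_centralizer_iff.mpr ?_⟩
    rintro _ ⟨hw, y, hy, rfl⟩
    exact congrArg Subtype.val (hfixed (y := y) (hWY hw) hy x hx).symm
  have hΦW : ¬ Φ.map Γ.subtype ≤ centralizer (W : Set G) := fun h => sl.closure_W fun w hw =>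
    mem_centralizer_iff.mpr fun x hx => Subtype.ext
      (mem_centralizer_iff.mp (h ⟨x, hx, rfl⟩) (w : G) hw).symm
  -- centralising a module means centralising its span
  have hspan : ∀ {A : Subgroup S} {V' : Subgroup S}, MG ≤ normalizer (A.map κ : Set G) →
      A.map ι ≤ centralizer (V'.map ι : Set P) → A.map κ ≤ centralizer (spanBy MG (V'.map κ) : Set G) := by
    intro A V' hA h
    refine le_centralizer_iff.mp (spanBy_le (le_normalizer_centralizer hA) (le_centralizer_iff.mp ?_))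
    rintro _ ⟨x, hx, rfl⟩
    refine mem_centralizer_iff.mpr ?_
    rintro _ ⟨v, hv, rfl⟩
    rw [← map_mul, ← map_mul]
    refine congrArg κ (a.ι_inj ?_)
    rw [map_mul, map_mul]
    exact mem_centralizer_iff.mp (h ⟨x, hx, rfl⟩) _ ⟨v, hv, rfl⟩
  have hbad : ∀ H' V', Bad ι K H' V' → ¬ B.map ι ≤ centralizer (V'.map ι : Set P) := by
    intro H' V' hb' hc
    have h1 := hspan (A := B) (by rw [hBmap]; exact hBkM) hc
    rw [hBmap] at h1
    have hle : Qb ⊓ centralizer (W : Set G) ≤ Bk :=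
      inf_le_inf le_rfl (Subgroup.centralizer_le (inf_le_left : WL ≤ W))
    have h2 := (Subgroup.card_le_of_le (le_inf (inf_le_left : Bk ≤ Qb) h1)).trans (hmax (H', V') hb')
    exact hΦW (hΦB.trans ((Subgroup.eq_of_le_of_card_ge hle h2).ge.trans inf_le_right))
  have hwc : ∀ g, cj (B.map ι) g ≤ ι.range → g ∈ normalizer (K.map ι : Set P) := fun g hg =>
    a.mem_of_cj_le (a.transfer (hBmap.symm ▸ hBkM)) hbad hg
  -- the module
  have hVW : ∀ v ∈ V, κΓ v ∈ W' := fun v hv => (le_spanBy MG _ ⟨v, hv, rfl⟩ : κ v ∈ W)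
  letI : CommGroup V := vComm b.V_le
  set F := Φ ⊓ centralizer (L : Set Γ) with hF
  haveI hFn : F.Normal := sl.fix_norm
  haveI : (F.subgroupOf Φ).Normal := inferInstance
  have hsqN : ∀ x : Φ ⧸ F.subgroupOf Φ, x * x = 1 := fun x => by
    induction x using QuotientGroup.induction_on with
    | H g => exact (QuotientGroup.eq_one_iff _).mpr (sl.sq g g.2)
  letI : CommGroup (Φ ⧸ F.subgroupOf Φ) :=
    { (inferInstance : Group (Φ ⧸ F.subgroupOf Φ)) with
      mul_comm := fun x y => by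
        have hinv : ∀ z : Φ ⧸ F.subgroupOf Φ, z⁻¹ = z := fun z => inv_eq_of_mul_eq_one_right (hsqN z)
        rw [← hinv (x * y), mul_inv_rev, hinv, hinv] }
  have hFc : ∀ z ∈ F, ∀ x ∈ Φ, x * z = z * x := fun z hz => sl.centralised z (hΦQ hz.1) hz.2
  letI : CommGroup F :=
    { (inferInstance : Group F) with mul_comm := fun x y => Subtype.ext (hFc y y.2 x x.2.1) }
  haveI : Finite (MulAut V) := finite_mulAut V
  have hFmap : ∀ g : Γ, (F.subgroupOf Φ).map (MulAut.conjNormal g : MulAut Φ).toMonoidHom = F.subgroupOf Φ := by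
    intro g
    refine Subgroup.eq_of_le_of_card_ge ?_ (card_map_of_injective (MulAut.conjNormal g : MulAut Φ).injective).ge
    rintro _ ⟨x, hx, rfl⟩
    exact mem_subgroupOf.mpr ((MulAut.conjNormal_apply g x).symm ▸ hFn.conj_mem _ hx g)
  let σ : Γ →* MulAut (Φ ⧸ F.subgroupOf Φ) := MonoidHom.mk'
    (fun g => QuotientGroup.congr _ _ (MulAut.conjNormal g : MulAut Φ) (hFmap g))
    fun g h => MulEquiv.ext fun x => by
      induction x using QuotientGroup.induction_on with
      | H x =>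
        show ((MulAut.conjNormal (g * h) : MulAut Φ) x : Φ ⧸ F.subgroupOf Φ) =
          (((MulAut.conjNormal g : MulAut Φ) ((MulAut.conjNormal h : MulAut Φ) x) : Φ) : Φ ⧸ F.subgroupOf Φ)
        rw [map_mul]
        rfl
  have hσ : ∀ (g : Γ) (x : Φ), σ g (x : Φ ⧸ F.subgroupOf Φ) =
      (((MulAut.conjNormal g : MulAut Φ) x : Φ) : Φ ⧸ F.subgroupOf Φ) := fun _ _ => rfl
  have hσker : ∀ {g : Γ}, σ g = 1 ↔ ∀ x ∈ Φ, ⁅g, x⁆ ∈ F := fun {g} => by
    constructor
    · intro h x hx
      have h1 := hσ g ⟨x, hx⟩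
      rw [h] at h1
      have h2 := QuotientGroup.eq.mp h1
      have h3 := hFn.conj_mem _ (mem_subgroupOf.mp h2) x
      rw [Subgroup.coe_mul, Subgroup.coe_inv, MulAut.conjNormal_apply] at h3
      convert h3 using 1
      simp only [commutatorElement_def]
      group
    · intro h
      refine MulEquiv.ext fun x => ?_
      induction x using QuotientGroup.induction_on with
      | H x =>
        refine ((hσ g x).trans (QuotientGroup.eq.mpr ?_))
        refine mem_subgroupOf.mpr ?_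
        rw [Subgroup.coe_mul, Subgroup.coe_inv, MulAut.conjNormal_apply]
        have h1 := hFn.conj_mem _ (inv_mem (h x x.2)) ((g * (x : Γ) * g⁻¹)⁻¹)
        convert h1 using 1
        simp only [commutatorElement_def]
        group
  set j : V →* Γ := κΓ.comp V.subtype with hj
  set ρ : T →* img a b := (rep a b).comp (MonoidHom.ofInjective hκΓi).symm.toMonoidHom with hρ
  have hρκ : ∀ s : S, ρ ⟨κΓ s, ⟨s, rfl⟩⟩ = rep a b s := fun s => by
    show rep a b ((MonoidHom.ofInjective hκΓi).symm ⟨κΓ s, ⟨s, rfl⟩⟩) = _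
    congr 1
    exact (MonoidHom.ofInjective hκΓi).injective ((MulEquiv.apply_symm_apply _ _).trans (Subtype.ext rfl))
  have hρimg : ∀ {A : Subgroup Γ}, A ≤ T → (A.subgroupOf T).map ρ = (A.comap κΓ).map (rep a b) := by
    intro A hA
    ext y
    constructor
    · rintro ⟨⟨_, s, rfl⟩, hx, rfl⟩
      exact ⟨s, hx, (hρκ s).symm⟩
    · rintro ⟨s, hs, rfl⟩
      exact ⟨⟨κΓ s, ⟨s, rfl⟩⟩, hs, hρκ s⟩
  have hctrl : ∀ {A : Subgroup Γ}, A.Normal → A ≤ T →
      ctrl a b ≤ normalizer (((A.subgroupOf T).map ρ : Subgroup (img a b)) : Set (img a b)) := by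
    intro A hA hAT
    have hAm : (A.comap κΓ).map κ = A.map Γ.subtype := by
      conv_rhs => rw [← Subgroup.map_comap_eq_self (f := κΓ) hAT, Subgroup.map_map]
      rfl
    have hP := a.transfer (A := A.comap κΓ) (hAm ▸ hMnorm hA)
    rw [hρimg hAT]
    rintro _ ⟨m, hm, rfl⟩
    refine mem_normalizer_iff_cj.mpr (Subgroup.eq_of_le_of_card_ge ?_ (card_cj _ _).ge)
    rintro _ ⟨_, ⟨x, hx, rfl⟩, rfl⟩
    obtain ⟨x', hx', e⟩ := (mem_normalizer_iff.mp (hP hm) (ι x)).mp ⟨x, hx, rfl⟩
    refine ⟨x', hx', ?_⟩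
    show proj a b ⟨ι x', _⟩ = proj a b m * proj a b ⟨ι x, _⟩ * (proj a b m)⁻¹
    rw [← map_inv, ← map_mul, ← map_mul]
    exact congrArg _ (Subtype.ext e)
  have hrange : ρ.range = (rep a b).range := by
    rw [hρ, MonoidHom.range_comp, MonoidHom.range_eq_top.mpr (MonoidHom.ofInjective hκΓi).symm.surjective,
      ← MonoidHom.range_eq_map]
  have hmoves : ΦS.map (rep a b) ≠ ⊥ := fun h => hΦW <| by
    have h1 : ΦS.map ι ≤ centralizer (V.map ι : Set P) := by
      rintro _ ⟨x, hx, rfl⟩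
      have h2 := congrArg Subtype.val ((Subgroup.eq_bot_iff_forall _).mp h _ ⟨x, hx, rfl⟩)
      exact (act_ker a.ι_inj b.inv).mp (MonoidHom.mem_ker.mpr h2)
    exact hΦmap ▸ hspan hΦG h1
  have houtside : ∃ v : V, j v ∉ Q := by
    by_contra hall
    push Not at hall
    refine hWΓ ((spanBy_le ?_ ?_).trans le_rfl)
    · exact hMnorm hQn
    · rintro _ ⟨v, hv, rfl⟩
      exact ⟨κΓ v, hall ⟨v, hv⟩, rfl⟩
  have hkerV : ∀ v : V, σ (j v) = 1 → j v ∈ Q := fun v h => sl.kernel _ (hVW v v.2) (hσker.mp h)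
  have hirred : ∀ U : Subgroup (Φ ⧸ F.subgroupOf Φ), (∀ g, ∀ u ∈ U, σ g u ∈ U) → U = ⊥ ∨ U = ⊤ := by
    intro U hU
    set U' := (U.comap (QuotientGroup.mk' (F.subgroupOf Φ))).map Φ.subtype
    have hU'n : U'.Normal := ⟨by
      rintro _ ⟨x, hx, rfl⟩ g
      exact ⟨(MulAut.conjNormal g : MulAut Φ) x, hU g _ hx, MulAut.conjNormal_apply g x⟩⟩
    rcases sl.irred U' hU'n (map_subtype_le _) with h | h
    · refine Or.inr (top_le_iff.mp fun x _ => ?_)
      induction x using QuotientGroup.induction_on with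
      | H x =>
        obtain ⟨y, hy, e⟩ := h.ge x.2
        obtain rfl : y = x := Subtype.ext e
        exact hy
    · refine Or.inl (le_bot_iff.mp fun x hx => ?_)
      induction x using QuotientGroup.induction_on with
      | H x => exact (QuotientGroup.eq_one_iff _).mpr (h ⟨x, hx, rfl⟩)
  have heff : dl (⊤ : Subgroup V) + dl (fix σ j.range) <
      dl (Q.comap j) + dl (⊤ : Subgroup (Φ ⧸ F.subgroupOf Φ)) := by
    haveI := finite_mulAut (Φ ⧸ F.subgroupOf Φ)
    have hG3 : NoS3 σ.range := by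
      set ψ : Γ →* Γ ⧸ F := QuotientGroup.mk' F
      have hψ : Function.Surjective ψ := QuotientGroup.mk'_surjective F
      haveI : (Φ.map ψ).Normal := hΦn.map ψ hψ
      have h4 : ¬ Cfsg.Involves (Equiv.Perm (Fin 4)) (Γ ⧸ F) := fun hi =>
        a.κ_noS4 (CfsgLib.Fsys.involves_of_injective (e := Γ.subtype) Γ.subtype_injective
          (CfsgLib.Fsys.involves_of_surjective hψ hi))
      have h3 := noS3_quotient (V := Φ.map ψ) h4 (((isPGroup_pCore 2).to_le hΦQ).map ψ)
      intro hi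
      refine h3 ?_
      let pr : Γ →* (Γ ⧸ F) ⧸ centralizer ((Φ.map ψ : Subgroup (Γ ⧸ F)) : Set (Γ ⧸ F)) :=
        (QuotientGroup.mk' _).comp ψ
      have hk : pr.ker ≤ σ.rangeRestrict.ker := by
        intro g hg
        rw [MonoidHom.ker_rangeRestrict]
        refine MonoidHom.mem_ker.mpr (hσker.mpr fun x hx => ?_)
        have h1 := mem_centralizer_iff.mp ((QuotientGroup.eq_one_iff _).mp hg) (ψ x) ⟨x, hx, rfl⟩
        refine (QuotientGroup.eq_one_iff _).mp ?_
        show ψ ⁅g, x⁆ = 1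
        rw [map_commutatorElement, commutatorElement_eq_one_iff_mul_comm]
        exact h1.symm
      refine CfsgLib.Fsys.involves_of_surjective
        (e := (QuotientGroup.lift pr.ker σ.rangeRestrict hk).comp (QuotientGroup.quotientKerEquivOfSurjective pr
          ((QuotientGroup.mk'_surjective _).comp hψ)).symm.toMonoidHom) ?_ hi
      intro y
      obtain ⟨g, rfl⟩ := σ.rangeRestrict_surjective y
      refine ⟨QuotientGroup.quotientKerEquivOfSurjective pr ((QuotientGroup.mk'_surjective _).comp hψ) g, ?_⟩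
      simp only [MonoidHom.coe_comp, Function.comp_apply, MulEquiv.coe_toMonoidHom, MulEquiv.symm_apply_apply]
      rfl
    set A := j.range.map σ.rangeRestrict with hA
    have hAk : ¬ A ≤ σ.range.subtype.ker := fun h => by
      obtain ⟨v, hv⟩ := houtside
      exact hv (hkerV v (MonoidHom.mem_ker.mp (h ⟨j v, ⟨v, rfl⟩, rfl⟩)))
    have hquad : Quad σ.range.subtype A := by
      rintro _ ⟨_, ⟨e, rfl⟩, rfl⟩ _ ⟨_, ⟨f, rfl⟩, rfl⟩ x
      induction x using QuotientGroup.induction_on with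
      | H x =>
        show σ (j e) (σ (j f) (x : Φ ⧸ F.subgroupOf Φ) * (x : Φ ⧸ F.subgroupOf Φ)⁻¹) =
          σ (j f) (x : Φ ⧸ F.subgroupOf Φ) * (x : Φ ⧸ F.subgroupOf Φ)⁻¹
        rw [hσ, ← QuotientGroup.mk_inv, ← QuotientGroup.mk_mul, hσ]
        congr 1
        refine Subtype.ext ?_
        rw [MulAut.conjNormal_apply]
        obtain ⟨s, hs⟩ := hΦT x.2
        have hc : ((MulAut.conjNormal (j f) : MulAut Φ) x * x⁻¹ : Φ) =
            (κΓ ((f : S) * (s * (f : S)⁻¹ * s⁻¹)) : Γ) := by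
          rw [Subgroup.coe_mul, Subgroup.coe_inv, MulAut.conjNormal_apply, map_mul, map_mul, map_mul, map_inv, map_inv]
          change κΓ f * (x : Γ) * (κΓ f)⁻¹ * (x : Γ)⁻¹ = _
          rw [hs]
          group
        rw [hc]
        have hfe : (f : S) * (s * (f : S)⁻¹ * s⁻¹) ∈ V :=
          mul_mem f.2 ((b.V_normal a).conj_mem _ (inv_mem f.2) s)
        have hcomm := congrArg Subtype.val (comm_of_le_yT b.V_le e ⟨_, hfe⟩)
        change κΓ e * κΓ _ * (κΓ e)⁻¹ = κΓ _
        rw [mul_inv_eq_iff_eq_mul, ← map_mul, ← map_mul]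
        exact congrArg κΓ hcomm
    have h := (nf_all (Nat.card σ.range.subtype.range + 1)).irr hG3 hsqN (ψ := σ.range.subtype) (fun U hU =>
      hirred U fun g u hu => hU (σ.rangeRestrict g) u hu) (Nat.lt_succ_self _) hquad hAk
    have hk : σ.range.subtype.ker = ⊥ := (MonoidHom.ker_eq_bot_iff _).mpr Subtype.val_injective
    rw [hk, relIndex_bot_left] at h
    have hfix : fix σ.range.subtype A = fix σ j.range := by
      ext v
      exact ⟨fun h e he => h _ ⟨e, he, rfl⟩, by rintro h _ ⟨e, he, rfl⟩; exact h e he⟩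
    rw [hfix] at h
    -- the order of the image
    set ψ := σ.rangeRestrict.comp j
    have hcardA : Nat.card A * Nat.card ψ.ker = Nat.card (⊤ : Subgroup V) := by
      rw [hA, show j.range.map σ.rangeRestrict = ψ.range from MonoidHom.map_range σ.rangeRestrict j, Subgroup.card_top,
        ← Subgroup.index_ker, Subgroup.index_mul_card]
    have hker : ψ.ker ≤ Q.comap j := fun v hv =>
      hkerV v (congrArg Subtype.val (MonoidHom.mem_ker.mp hv))
    have hV2 : Exp2 V := sq_of_le_yT b.V_le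
    have h1 : Nat.card (⊤ : Subgroup V) * Nat.card (fix σ j.range) <
        Nat.card (Q.comap j) * Nat.card (⊤ : Subgroup (Φ ⧸ F.subgroupOf Φ)) := by
      rw [← hcardA, Subgroup.card_top, ← (fix σ j.range).index_mul_card, mul_comm (Nat.card A), mul_assoc]
      calc Nat.card ψ.ker * (Nat.card A * Nat.card (fix σ j.range))
          ≤ Nat.card (Q.comap j) * (Nat.card A * Nat.card (fix σ j.range)) :=
            Nat.mul_le_mul_right _ (card_le_of_le hker)
        _ < _ := Nat.mul_lt_mul_of_pos_left (Nat.mul_lt_mul_of_pos_right h Nat.card_pos) Nat.card_pos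
    rw [card_eq_pow hV2, card_eq_pow hV2, card_eq_pow hsqN, card_eq_pow hsqN, ← pow_add, ← pow_add] at h1
    exact (Nat.pow_lt_pow_iff_right one_lt_two).mp h1
  have hlem : ∀ v ∈ (centralizer (L : Set Γ)).comap j, v ≠ 1 → ∀ x : img a b, (x : MulAut V) v = v →
      x ∈ ctrl a b := by
    intro v hv hv1 x hx
    obtain ⟨h, rfl⟩ := MonoidHom.rangeRestrict_surjective (act ι a.ι_inj b.inv) x
    refine (proj_mem_ctrl a b h).mpr (Bad.mem_of_cj a b hΦP hmoves h.2 ?_)
    refine a.cj_centralizer_le hwc hΦP (b.V_le v.2) (fun e => hv1 (Subtype.ext e)) (fun x hx => ?_) ?_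
      ((act_eq_iff a.ι_inj b.inv h v).mp hx)
    · refine a.κ_inj ?_
      rw [map_mul, map_mul]
      exact (mem_centralizer_iff.mp (show κ x ∈ Bk from hx).2 (κ v)
        ⟨hVW v v.2, j v, hv, rfl⟩).symm
    · intro m hm u' hu'
      have hu'W : κ u' ∈ W := by
        rw [hu']
        exact (mem_normalizer_iff.mp (hMW hm) _).mp (hVW v v.2)
      have hu'L : κΓ u' ∈ centralizer (L : Set Γ) := by
        have := (inferInstance : (centralizer (L : Set Γ)).Normal).conj_mem _ hv ⟨m, hMΓ hm⟩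
        convert this using 1
        exact Subtype.ext hu'
      have hcom : ∀ {y : S}, κ y ∈ YG → κΓ y ∈ centralizer (L : Set Γ) → ∀ x ∈ ΦS, x * y = y * x :=
        fun {y} hy hL x hx => hκΓi (by
          rw [map_mul, map_mul]
          exact hfixed (y := κΓ y) hy hL _ hx)
      refine ⟨hcom (hWY hu'W) hu'L, fun y hy hyc => hcom ⟨y, hy, rfl⟩ (mem_centralizer_iff.mpr fun l hl =>
        (sl.comm_gen (κΓ y) (fun l' hl' w hw => Subtype.ext ?_) l hl).symm)⟩
      obtain ⟨w', hw', e⟩ := hWY hw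
      show κ y * ((l' : G) * (w : G) * (l' : G)⁻¹) = (l' : G) * (w : G) * (l' : G)⁻¹ * κ y
      rw [show (w : G) = κ w' from e.symm]
      exact hyc (l' : G) (congrArg Subtype.val (mem_centralizer_iff.mp hu'L l' hl')) w' (zOm_le_self _ hw')
  refine Endgame.Data.false (φ := (img a b).subtype) (σ := σ) (j := j) (k := F.subtype) (S := T) (Q := Q) (Φ := Φ)
    (π := QuotientGroup.mk' (F.subgroupOf Φ)) (ρ := ρ) (M := ctrl a b) (D := (centralizer (L : Set Γ)).comap j)
    { inj := Subtype.val_injective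
      expV := sq_of_le_yT b.V_le
      expN := hsqN
      noS3 := noS3_img a b
      core := core_img a b
      j_inj := hκΓi.comp V.subtype_injective
      k_inj := F.subtype_injective
      act := ?act
      V_le := fun v => ⟨v, rfl⟩
      Q_norm := hQn
      Q_le := hQT
      Φ_norm := hΦn
      Φ_le := hΦQ
      k_norm := by rw [Subgroup.range_subtype]; exact hFn
      k_le := fun z => z.2.1
      k_comm := fun z => hFc z z.2
      π_surj := QuotientGroup.mk'_surjective _
      π_ker := fun x => by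
        rw [QuotientGroup.mk'_apply, QuotientGroup.eq_one_iff, Subgroup.range_subtype]; exact Iff.rfl
      π_equiv := fun g x h => congrArg QuotientGroup.mk (Subtype.ext (MulAut.conjNormal_apply g x).symm)
      irred := hirred
      Q_triv := fun q hq => hσker.mpr fun x hx => by
        rw [← commutatorElement_inv]
        exact inv_mem (sl.comm_core (commutator_mem_commutator hx hq))
      V_moves := hkerV
      outside := houtside
      effective := heff
      D_le := fun v hv => sl.gen _ (fun l hl => (mem_centralizer_iff.mp hv l hl).symm) (hWY (hVW v v.2))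
      D_fix := fun v hv => hfixed (y := j v) (hWY (hVW v v.2)) hv
      D_ge := fun v hv => by rw [Subgroup.range_subtype] at hv; exact hv.2
      lem := hlem
      S_syl := by rw [hrange]; exact sylIn_rep a b
      S_le := by rw [hrange]; rintro _ ⟨s, rfl⟩; exact rep_mem_ctrl a b s
      M_ne := ctrl_ne_top a b
      agree := fun A hA g hg => exists_agree_img a b (hrange ▸ hA) (hrange ▸ hg)
      maximal := ?maximal
      M_Φ := hctrl hΦn hΦT
      M_k := by
        rw [Subgroup.range_subtype]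
        exact hctrl hFn (inf_le_left.trans hΦT)
      moves := ?moves }
  case act =>
    rintro ⟨_, s, rfl⟩ v
    rw [hρκ]
    show κΓ ((rep a b s : MulAut V) v : S) = κΓ s * κΓ v * (κΓ s)⁻¹
    rw [Bad.rep_spec, map_mul, map_mul, map_inv]
  case maximal =>
    intro A hA hne hM
    exact le_antisymm (normalizer_le_ctrl a b (hrange ▸ hA) hne
      (le_trans (by rintro _ ⟨s, rfl⟩; exact rep_mem_ctrl a b s) hM)) hM
  case moves =>
    obtain ⟨y, ⟨s, hs, rfl⟩, hne⟩ := (Subgroup.bot_or_exists_ne_one _).resolve_left hmoves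
    exact ⟨⟨κΓ s, ⟨s, rfl⟩⟩, hs, by rwa [hρκ]⟩

end CfsgLib.SFreeW
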