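import Cfsg.Agent.Lib.SFreeW.Locals
import Cfsg.Agent.Lib.SFreeW.Amalgam

/-!
A system of characteristic 2-type without a section `S₄` and with trivial core yields the amalgam.
-/

set_option autoImplicit false
set_option linter.unusedSectionVars false
set_option linter.style.haveILetI false

namespace CfsgLib.SFreeW

open Cfsg
open CfsgLib.Fsys
open CfsgLib.Fusion.SFreeFF (SylIn mem_normalizer_iff_cj cj card_cj mem_cj conj_mem_cj)
open Cfsg.FusionSystem (centralizerIn normalizerIn imageAlong preimageAlong)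

universe u

/-- The group lemma: the Thompson subgroup centralises the closure of the central involutions. -/
theorem thompson_le_centralizer_zOm {G : Type u} [Group G] [Finite G]
    (h4 : ¬ Cfsg.Involves (Equiv.Perm (Fin 4)) G) (hc : Subgroup.centralizer (pCore 2 G : Set G) ≤ pCore 2 G)
    {T : Subgroup G} (hT : SylIn T ⊤) :
    Cfsg.thompsonSubgroupOf 2 T ≤ Subgroup.centralizer (Subgroup.normalClosure (zOm T : Set G) : Set G) := by
  haveI : Fact (Nat.Prime 2) := ⟨Nat.prime_two⟩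
  haveI := CfsgLib.Solvable.Cores.pCore_normal (G := G) 2
  set Q := pCore 2 G
  have hQT : Q ≤ T := by
    obtain ⟨l, -, hl⟩ := hT.exists_conj_le (le_top : Q ≤ ⊤) (CfsgLib.Solvable.Cores.isPGroup_pCore 2)
    intro x hx
    have := mem_cj.mp (hl (Subgroup.Normal.conj_mem inferInstance x hx l))
    rwa [show l⁻¹ * (l * x * l⁻¹) * l = x by group] at this
  haveI : (Subgroup.centralizer (Q : Set G)).Normal := Subgroup.normal_centralizer
  have hWc : Subgroup.normalClosure (zOm T : Set G) ≤ Subgroup.centralizer (Q : Set G) :=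
    Subgroup.normalClosure_le_normal fun z hz =>
      Subgroup.centralizer_le (SetLike.coe_subset_coe.mpr hQT) (zOm_le T hz).2
  have hWQ : Subgroup.normalClosure (zOm T : Set G) ≤ Q := hWc.trans hc
  set V := Subgroup.normalClosure (zOm T : Set G) with hV
  have hcomm : ∀ a ∈ V, ∀ b ∈ V, a * b = b * a := fun a ha b hb =>
    Subgroup.mem_centralizer_iff.mp (hWc hb) a (hWQ ha)
  have hEA : Cfsg.IsElementaryAbelian 2 V := by
    refine ⟨IsMulCommutative.of_comm fun a b => Subtype.ext (hcomm a a.2 b b.2), fun v hv => ?_⟩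
    suffices h : v ∈ V ∧ v ^ 2 = 1 from h.2
    have hv' : v ∈ Subgroup.closure (Group.conjugatesOfSet (zOm T : Set G)) := hv
    induction hv' using Subgroup.closure_induction with
    | mem z hz =>
      refine ⟨Subgroup.subset_closure hz, ?_⟩
      obtain ⟨w, hw, hwz⟩ := Group.mem_conjugatesOfSet_iff.mp hz
      obtain ⟨g, rfl⟩ := _root_.isConj_iff.mp hwz
      rw [conj_pow, zOm_pow hw]; group
    | one => exact ⟨one_mem _, one_pow 2⟩
    | mul a b ha' hb' iha ihb =>
      obtain ⟨ha, ha2⟩ := iha ha'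
      obtain ⟨hb, hb2⟩ := ihb hb'
      exact ⟨mul_mem ha hb, by rw [(show Commute a b from hcomm a ha b hb).mul_pow, ha2, hb2, one_mul]⟩
    | inv a ha' iha =>
      obtain ⟨ha, ha2⟩ := iha ha'
      exact ⟨inv_mem ha, by rw [inv_pow, ha2, inv_one]⟩
  have hTW : T ≤ Subgroup.centralizer (zOm T : Set G) := fun t ht =>
    Subgroup.mem_centralizer_iff.mpr fun z hz => (zOm_comm hz ht).symm
  exact thompson_centralizes h4 hT hEA (hWQ.trans hQT) Subgroup.subset_normalClosure
    (hTW.trans (Subgroup.centralizer_le_normalizer _)) le_rfl (noOffG_of_central hTW)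

variable {Ω : Type u} [Group Ω] {S : Subgroup Ω} {F : FusionSystem S} [Finite S]

theorem range_th_image {A T : Subgroup Ω} {G : Type u} [Group G] {ι : T →* G} (a : Loc F A T ι) :
    imageAlong ι T = ι.range := by
  rw [show imageAlong ι T = (T.subgroupOf T).map ι from rfl, Subgroup.subgroupOf_self, MonoidHom.range_eq_map]

theorem image_zOm {A T : Subgroup Ω} {G : Type u} [Group G] {ι : T →* G} (a : Loc F A T ι) {B : Subgroup Ω}
    (hB : B ≤ T) : imageAlong ι (zOm B) = zOm (imageAlong ι B) := by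
  show ((zOm B).subgroupOf T).map ι = zOm ((B.subgroupOf T).map ι)
  rw [← zOm_map a.inj]
  congr 1
  refine Subgroup.map_injective T.subtype_injective ?_
  rw [zOm_map T.subtype_injective, Subgroup.map_subgroupOf_eq_of_le ((zOm_le_self B).trans hB),
    Subgroup.map_subgroupOf_eq_of_le hB]

theorem image_thompson {T : Subgroup Ω} {G : Type u} [Group G] (ι : T →* G) (hι : Function.Injective ι) :
    imageAlong ι (Cfsg.thompsonSubgroupOf 2 T) = Cfsg.thompsonSubgroupOf 2 ι.range := by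
  show ((Cfsg.thompsonSubgroup 2 T).map T.subtype |>.subgroupOf T).map ι = (Cfsg.thompsonSubgroup 2 ι.range).map _
  rw [Subgroup.subgroupOf, Subgroup.comap_map_eq_self_of_injective T.subtype_injective,
    ← CfsgLib.Fusion.Thompson.map_thompson_equiv (MonoidHom.ofInjective hι), Subgroup.map_map]
  rfl

/-- A map of the system on the Thompson subgroup with values in the base fixes it. -/
theorem img_thompson {f : Ω → Ω} {D T : Subgroup Ω} (hT : T ≤ S) (hf : Fn F D f)
    (hJ : Cfsg.thompsonSubgroupOf 2 T ≤ D) (hfT : ∀ x ∈ Cfsg.thompsonSubgroupOf 2 T, f x ∈ T) :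
    img f (Cfsg.thompsonSubgroupOf 2 T) = Cfsg.thompsonSubgroupOf 2 T := by
  have hm : ∀ x : jT T, (x : Ω) ∈ Cfsg.thompsonSubgroupOf 2 T := fun x => ⟨(x : T), x.2, rfl⟩
  let φ : jT T →* T := MonoidHom.mk' (fun x => ⟨f x, hfT _ (hm x)⟩) fun a b =>
    Subtype.ext (hf.map_mul (hJ (hm a)) (hJ (hm b)))
  haveI := finite_of_le_base hT
  have hφ : Function.Injective φ := fun a b h =>
    Subtype.ext (Subtype.ext (hf.inj (hJ (hm a)) (hJ (hm b)) (congrArg Subtype.val h)))
  refine (hf.mono hJ).img_eq_self ?_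
  rintro _ ⟨x, hx, rfl⟩
  exact ⟨φ ⟨x, hx⟩, (thompson_range_eq φ hφ).le ⟨_, rfl⟩, rfl⟩

theorem fullyNormalized_of_normal {U : Subgroup Ω} (hU : U ≤ S) (hn : S ≤ Subgroup.normalizer (U : Set Ω)) :
    F.IsFullyNormalized U := ⟨hU, fun R _ => by
  rw [show normalizerIn S U = S from inf_eq_left.mpr hn]
  exact Subgroup.card_le_of_le normalizerIn_le⟩

/-- An element of a model normalising `U` realises its maps on a larger source fixing `U`. -/
theorem Loc.exists_fix {A : Subgroup Ω} {G : Type u} [Group G] [Finite G] {ι : S →* G} (a : Loc F A S ι)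
    {U : Subgroup Ω} (hU : U ≤ S) {g : G} (hg : g ∈ Subgroup.normalizer (imageAlong ι U : Set G))
    {D : Subgroup Ω} (hD : D ≤ S) {f : Ω → Ω} (hf : ∀ x ∈ D, f x ∈ S ∧ th ι (f x) = g * th ι x * g⁻¹) :
    ∃ f', Fn F (D ⊔ U) f' ∧ (∀ x ∈ D, f' x = f x) ∧ img f' U = U := by
  have hgU := (a.mem_norm_image hU).mp hg
  have hle : D ⊔ U ≤ preimageAlong ι (ι.range.comap (MulAut.conj g).toMonoidHom) := by
    refine sup_le (fun x hx => mem_preimageAlong.mpr ⟨hD hx, ?_⟩) fun x hx => mem_preimageAlong.mpr ⟨hU hx, ?_⟩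
    · show g * th ι x * g⁻¹ ∈ ι.range
      rw [← (hf x hx).2]
      exact th_mem_range (hf x hx).1
    · obtain ⟨y, hy, e⟩ := hgU x hx
      show g * th ι x * g⁻¹ ∈ ι.range
      rw [e]
      exact th_mem_range (hU hy)
  obtain ⟨f', hf', -, hv⟩ := a.back g (sup_le hD hU) fun x hx => (mem_preimageAlong.mp (hle hx)).2
  refine ⟨f', hf'.mono le_sup_left, fun x hx => ?_, (hf'.mono (le_sup_right.trans le_sup_left)).img_eq_self
    fun x hx => ?_⟩
  · obtain ⟨h1, h2⟩ := hv x (Subgroup.mem_sup_left (Subgroup.mem_sup_left hx))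
    exact a.th_inj h1 (hf x hx).1 (h2.trans (hf x hx).2.symm)
  · obtain ⟨h1, h2⟩ := hv x (Subgroup.mem_sup_left (Subgroup.mem_sup_right hx))
    obtain ⟨y, hy, e⟩ := hgU x hx
    exact a.th_inj h1 (hU hy) (h2.trans e) ▸ hy

/-- The normaliser of the cyclic group of an involution is its centraliser. -/
theorem normalizer_zpowers {G : Type*} [Group G] {u : G} (hu : u ^ 2 = 1) (hu1 : u ≠ 1) {g : G} :
    g ∈ Subgroup.normalizer (Subgroup.zpowers u : Set G) ↔ g * u = u * g := by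
  have hmem : ∀ x, x ∈ Subgroup.zpowers u ↔ x = 1 ∨ x = u := by
    intro x
    refine ⟨?_, fun h => h.elim (fun h => h ▸ one_mem _) fun h => h ▸ Subgroup.mem_zpowers u⟩
    rintro ⟨k, rfl⟩
    rcases Int.even_or_odd' k with ⟨j, rfl | rfl⟩
    · left; simp only [zpow_mul, zpow_ofNat, hu, one_zpow]
    · right; simp only [zpow_add, zpow_mul, zpow_ofNat, hu, one_zpow, one_mul, pow_one]
  constructor
  · intro h
    rcases (hmem _).mp ((Subgroup.mem_normalizer_iff.mp h u).mp (Subgroup.mem_zpowers u)) with e | e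
    · exact absurd (conj_eq_one_iff.mp e) hu1
    · exact mul_inv_eq_iff_eq_mul.mp e
  · intro h
    refine Subgroup.mem_normalizer_iff.mpr fun x => ?_
    have hc : g * u * g⁻¹ = u := mul_inv_eq_iff_eq_mul.mpr h
    rw [hmem, hmem, conj_eq_one_iff]
    exact or_congr Iff.rfl ⟨fun e => by rw [e, hc], fun e => mul_left_cancel (mul_right_cancel (e.trans hc.symm))⟩

variable (hS : IsPGroup 2 S) (hF : F.IsSaturated 2) (hfree : F.IsSectionFree 2 (Equiv.Perm (Fin 4)))
  (hloc : F.IsOfCharacteristicPType 2)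
include hS hF hfree hloc

/-- The amalgam of a system with trivial core. -/
theorem exists_amalgam (hcore : F.core = ⊥) (hne : S ≠ ⊥) :
    ∃ (P G : Type u) (_ : Group P) (_ : Finite P) (_ : Group G) (_ : Finite G) (ι : S →* P) (κ : S →* G)
      (K : Subgroup S) (θ : ↥(Subgroup.normalizer ((jT S).map κ : Set G)) →* P), Amalgam ι κ K θ := by
  haveI : Fact (Nat.Prime 2) := ⟨Nat.prime_two⟩
  haveI hnt : Nontrivial S := (Subgroup.nontrivial_iff_ne_bot S).mpr hne
  set J := Cfsg.thompsonSubgroupOf 2 S with hJdef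
  have hJmap : (jT S).map S.subtype = J := rfl
  have hJS : J ≤ S := CfsgLib.Fusion.Thompson.thompsonSubgroupOf_le S
  set Z := zOm S with hZdef
  set Y := zOm J with hYdef
  have hZS : Z ≤ S := zOm_le_self S
  have hYJ : Y ≤ J := zOm_le_self J
  have hYS : Y ≤ S := hYJ.trans hJS
  have hzmap : (zT S).map S.subtype = Z := by
    rw [zOm_map S.subtype_injective, ← MonoidHom.range_eq_map, Subgroup.range_subtype]
  have hymap : (yT S).map S.subtype = Y := by rw [zOm_map S.subtype_injective, hJmap]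
  have hZY : Z ≤ Y := hzmap ▸ hymap ▸ Subgroup.map_mono (zT_le_yT S)
  have hSZ : S ≤ Subgroup.normalizer (Z : Set Ω) := Subgroup.le_normalizer.trans (normalizer_le_zOm S)
  have hSJ : S ≤ Subgroup.normalizer (J : Set Ω) :=
    Subgroup.le_normalizer.trans (CfsgLib.Fusion.Thompson.normalizer_le_normalizer_thompsonOf S)
  have hZne : Z ≠ ⊥ := fun h => zT_ne_bot hS
    ((Subgroup.map_eq_bot_iff_of_injective _ S.subtype_injective).mp (hzmap.trans h))
  have hJne : J ≠ ⊥ := fun h => hZne (le_bot_iff.mp ((hZY.trans hYJ).trans h.le))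
  have hnS : ∀ {U : Subgroup Ω}, S ≤ Subgroup.normalizer (U : Set Ω) → normalizerIn S U = S := fun h =>
    inf_eq_left.mpr h
  obtain ⟨GZ, _, _, ζ, aZ⟩ := exists_loc hS hF hfree hloc hZne (fullyNormalized_of_normal hZS hSZ) (hnS hSZ)
  obtain ⟨P, _, _, ι, aJ⟩ := exists_loc hS hF hfree hloc hJne (fullyNormalized_of_normal hJS hSJ) (hnS hSJ)
  -- `L` and its subgroup generated by the conjugates of `J`
  set L := Subgroup.centralizer (imageAlong ζ Z : Set GZ)
  set L₁ := Subgroup.closure {g : GZ | ∃ l ∈ L, ∃ x ∈ J, l * th ζ x * l⁻¹ = g}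
  have hSL : ζ.range ≤ L := by
    rintro _ ⟨s, rfl⟩
    refine Subgroup.mem_centralizer_iff.mpr fun z hz => ?_
    obtain ⟨x, hx, hxS, rfl⟩ := mem_imageAlong.mp hz
    rw [← th_coe, ← th_mul hxS s.2, ← th_mul s.2 hxS, zOm_comm hx s.2]
  have hL₁L : L₁ ≤ L := (Subgroup.closure_le _).mpr (by
    rintro _ ⟨l, hl, x, hx, rfl⟩
    exact L.mul_mem (L.mul_mem hl (hSL (th_mem_range (hJS hx)))) (L.inv_mem hl))
  have hLn : L ≤ Subgroup.normalizer (L₁ : Set GZ) := by
    intro l hl
    refine Subgroup.mem_normalizer_iff_map_conj_eq.mpr ?_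
    rw [MonoidHom.map_closure]
    congr 1
    ext g
    constructor
    · rintro ⟨_, ⟨l', hl', x, hx, rfl⟩, rfl⟩
      exact ⟨l * l', L.mul_mem hl hl', x, hx, by simp [mul_assoc]⟩
    · rintro ⟨l', hl', x, hx, rfl⟩
      exact ⟨_, ⟨l⁻¹ * l', L.mul_mem (L.inv_mem hl) hl', x, hx, rfl⟩, by simp [mul_assoc]⟩
  have hJL₁ : ∀ x ∈ J, th ζ x ∈ L₁ := fun x hx =>
    Subgroup.subset_closure ⟨1, L.one_mem, x, hx, by simp⟩
  -- weak closure of the Thompson subgroup
  have hweak : ∀ {G : Type u} [Group G] [Finite G] {A T : Subgroup Ω} {α : T →* G}, Loc F A T α →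
      Cfsg.thompsonSubgroupOf 2 T = J → ∀ g : G, (∀ x ∈ J, g * th α x * g⁻¹ ∈ α.range) →
      g ∈ Subgroup.normalizer (imageAlong α J : Set G) := by
    intro G _ _ A T α aT hJT g hg
    have hJT' : J ≤ T := hJT ▸ CfsgLib.Fusion.Thompson.thompsonSubgroupOf_le T
    obtain ⟨f, hf, -, hv⟩ := aT.back g hJT' hg
    refine (aT.mem_norm_image hJT').mpr fun x hx =>
      ⟨f x, ?_, (hv x (Subgroup.mem_sup_left hx)).2.symm⟩
    have h := img_thompson aT.le_S (hf.mono le_sup_left) hJT.le (fun y hy => (hv y (Subgroup.mem_sup_left (hJT ▸ hy))).1)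
    rw [hJT] at h
    exact h.le (mem_img_of_mem hx)
  have hfrat : ∀ l ∈ L, ∃ c ∈ L₁, c⁻¹ * l ∈ Subgroup.normalizer (imageAlong ζ J : Set GZ) := by
    intro l hl
    have hsylL : SylIn ζ.range L := ⟨hSL, aZ.syl.pgroup, fun U _ hU h => aZ.syl.max U le_top hU h⟩
    obtain ⟨c, hc, hle⟩ := (hsylL.inf hL₁L hLn).exists_conj_le (Q := cj (imageAlong ζ J) l) (by
        rintro _ ⟨y, hy, rfl⟩
        obtain ⟨x, hx, -, rfl⟩ := mem_imageAlong.mp hy
        exact Subgroup.subset_closure ⟨l, hl, x, hx, rfl⟩)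
      (((hS.to_subgroup _).map ζ).map _)
    refine ⟨c, hc, hweak aZ rfl _ fun x hx => ?_⟩
    have h := (mem_cj.mp (hle (conj_mem_cj (th_mem_imageAlong hx (hJS hx))))).1
    rw [show c⁻¹ * (l * th ζ x * l⁻¹) * c = c⁻¹ * l * th ζ x * (c⁻¹ * l)⁻¹ by group] at h
    exact h
  -- `K`
  let K : Subgroup Ω := (Y.subgroupOf S ⊓ (Subgroup.centralizer (L₁ : Set GZ)).comap ζ).map S.subtype
  have hKmem : ∀ {y}, y ∈ K ↔ y ∈ Y ∧ ∀ w ∈ L₁, w * th ζ y = th ζ y * w := by
    intro y
    constructor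
    · rintro ⟨y', ⟨hy', hc⟩, rfl⟩
      exact ⟨hy', fun w hw => by rw [Subgroup.subtype_apply, th_coe]; exact Subgroup.mem_centralizer_iff.mp hc w hw⟩
    · rintro ⟨hy, hc⟩
      refine ⟨⟨y, hYS hy⟩, ⟨hy, Subgroup.mem_centralizer_iff.mpr fun w hw => ?_⟩, rfl⟩
      have := hc w hw
      rwa [th_apply (hYS hy)] at this
  have hKY : K ≤ Y := fun y hy => (hKmem.mp hy).1
  have hKS : K ≤ S := hKY.trans hYS
  have hZK : Z ≤ K := fun z hz => hKmem.mpr ⟨hZY hz, fun w hw =>
    (Subgroup.mem_centralizer_iff.mp (hL₁L hw) _ (th_mem_imageAlong hz (hZS hz))).symm⟩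
  have hKne : K ≠ ⊥ := fun h => hZne (le_bot_iff.mp (hZK.trans h.le))
  have hLK : L ≤ Subgroup.normalizer (imageAlong ζ K : Set GZ) := by
    intro l hl
    obtain ⟨c, hc, hn⟩ := hfrat l hl
    have hcl : c⁻¹ * l ∈ L := L.mul_mem (L.inv_mem (hL₁L hc)) hl
    refine (aZ.mem_norm_image hKS).mpr fun y hy => ?_
    obtain ⟨hyY, hyc⟩ := hKmem.mp hy
    have hnY := normalizer_le_zOm _ hn
    rw [← image_zOm aZ hJS] at hnY
    obtain ⟨y', hy', e⟩ := (aZ.mem_norm_image hYS).mp hnY y hyY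
    have hy'K : y' ∈ K := hKmem.mpr ⟨hy', fun w hw => by
      have h1 : (c⁻¹ * l)⁻¹ * w * (c⁻¹ * l) ∈ L₁ := by
        have := (Subgroup.mem_normalizer_iff.mp (hLn hcl) ((c⁻¹ * l)⁻¹ * w * (c⁻¹ * l))).mpr
        refine this ?_
        rw [show c⁻¹ * l * ((c⁻¹ * l)⁻¹ * w * (c⁻¹ * l)) * (c⁻¹ * l)⁻¹ = w by group]
        exact hw
      have h2 := hyc _ h1
      rw [← e]
      calc w * (c⁻¹ * l * th ζ y * (c⁻¹ * l)⁻¹)
          = c⁻¹ * l * ((c⁻¹ * l)⁻¹ * w * (c⁻¹ * l) * th ζ y) * (c⁻¹ * l)⁻¹ := by group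
        _ = c⁻¹ * l * (th ζ y * ((c⁻¹ * l)⁻¹ * w * (c⁻¹ * l))) * (c⁻¹ * l)⁻¹ := by rw [h2]
        _ = _ := by group⟩
    refine ⟨y', hy'K, ?_⟩
    calc l * th ζ y * l⁻¹ = c * (c⁻¹ * l * th ζ y * (c⁻¹ * l)⁻¹) * c⁻¹ := by group
      _ = c * th ζ y' * c⁻¹ := by rw [e]
      _ = th ζ y' := by rw [(hKmem.mp hy'K).2 c hc, mul_inv_cancel_right]
  have hSK : S ≤ Subgroup.normalizer (K : Set Ω) := by
    intro s hs
    haveI := finite_of_le_base hKS
    refine mem_normalizer_of_map_le fun y hy => ?_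
    obtain ⟨y', hy', e⟩ := (aZ.mem_norm_image hKS).mp (hLK (hSL (th_mem_range hs))) y hy
    rw [← th_conj hs (hKS hy)] at e
    exact aZ.th_inj (S.mul_mem (S.mul_mem hs (hKS hy)) (S.inv_mem hs)) (hKS hy') e ▸ hy'
  have hKf : F.IsFullyNormalized K := fullyNormalized_of_normal hKS hSK
  obtain ⟨Γ, _, _, κ, aK⟩ := exists_loc hS hF hfree hloc hKne hKf (hnS hSK)
  obtain ⟨θ, hθ⟩ := aK.exists_link hS aJ hKf (hnS hSK) hJS hSJ
  obtain ⟨θ₂, hθ₂⟩ := aZ.exists_link hS aK (fullyNormalized_of_normal hZS hSZ) (hnS hSZ) hKS hSK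
  -- images
  have hmap : ∀ {G : Type u} [Group G] (α : S →* G) (B : Subgroup S),
      imageAlong α (B.map S.subtype) = B.map α := by
    intro G _ α B
    show ((B.map S.subtype).subgroupOf S).map α = _
    rw [Subgroup.subgroupOf, Subgroup.comap_map_eq_self_of_injective S.subtype_injective]
  have hJι : (jT S).map ι = imageAlong ι J := (hmap ι _).symm
  have hJκ : (jT S).map κ = imageAlong κ J := (hmap κ _).symm
  have hKι : (K.subgroupOf S).map ι = imageAlong ι K := rfl
  have hdomJ : Subgroup.normalizer ((jT S).map κ : Set Γ) ≤ Subgroup.normalizer (imageAlong κ J : Set Γ) := by rw [hJκ]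
  have hYimg : Subgroup.normalizer (imageAlong ι J : Set P) ≤ Subgroup.normalizer (imageAlong ι Y : Set P) := by
    rw [hYdef, image_zOm aJ hJS]
    exact normalizer_le_zOm _
  -- normalisers of subgroups normalised by `L₁`
  have hcnp : ∀ U : Subgroup Ω, U ≤ K → U ≠ ⊥ → S ≤ Subgroup.normalizer (U : Set Ω) →
      Subgroup.normalizer (imageAlong ι U : Set P) ≤ Subgroup.normalizer (imageAlong ι K : Set P) := by
    intro U hUK hUne hSU
    have hUS : U ≤ S := hUK.trans hKS
    obtain ⟨G, _, _, α, aU⟩ := exists_loc hS hF hfree hloc hUne (fullyNormalized_of_normal hUS hSU) (hnS hSU)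
    obtain ⟨η, hη⟩ := aU.exists_link hS aZ (fullyNormalized_of_normal hUS hSU) (hnS hSU) hZS hSZ
    obtain ⟨η', hη'⟩ := aU.exists_link hS aJ (fullyNormalized_of_normal hUS hSU) (hnS hSU) hJS hSJ
    have hgrp := thompson_le_centralizer_zOm aU.noS4 aU.charP aU.syl
    rw [← range_th_image aU, ← image_zOm aU le_rfl] at hgrp
    rw [show Cfsg.thompsonSubgroupOf 2 (imageAlong α S) = imageAlong α J by
      rw [range_th_image aU, ← image_thompson α aU.inj]] at hgrp
    set V := Subgroup.normalClosure (imageAlong α Z : Set G)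
    -- the conjugates of `J` centralise `Z`
    have hconj : ∀ g : G, ∀ x ∈ J, g * th α x * g⁻¹ ∈ Subgroup.centralizer (V : Set G) := fun g x hx =>
      (inferInstance : (Subgroup.centralizer (V : Set G)).Normal).conj_mem _
        (hgrp (th_mem_imageAlong hx (hJS hx))) g
    have hCdom : Subgroup.centralizer (V : Set G) ≤ Subgroup.normalizer (imageAlong α Z : Set G) :=
      (Subgroup.centralizer_le Subgroup.subset_normalClosure).trans (Subgroup.centralizer_le_normalizer _)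
    have hηL : ∀ {g} (hg : g ∈ Subgroup.normalizer (imageAlong α Z : Set G)),
        g ∈ Subgroup.centralizer (imageAlong α Z : Set G) → η ⟨g, hg⟩ ∈ L := by
      intro g hg hgc
      refine Subgroup.mem_centralizer_iff.mpr fun z hz => ?_
      obtain ⟨x, hx, hxS, rfl⟩ := mem_imageAlong.mp hz
      rw [← hη.compat x hxS (hη.dom (th_mem_range hxS)), ← map_mul, ← map_mul]
      exact congrArg η (Subtype.ext (Subgroup.mem_centralizer_iff.mp hgc _ (th_mem_imageAlong hx hxS)))
    have hKeq : ∀ y ∈ Y, y ∈ K ↔ ∀ g : G, ∀ x ∈ J, th α y * (g * th α x * g⁻¹) = g * th α x * g⁻¹ * th α y := by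
      intro y hy
      have hyd := hη.dom (th_mem_range (hYS hy))
      constructor
      · intro hyK g x hx
        have hd := hCdom (hconj g x hx)
        have hηmem : η ⟨_, hd⟩ ∈ L₁ := by
          -- conjugate inside the centraliser of `Z`
          set C := Subgroup.centralizer (imageAlong α Z : Set G)
          have hαC : α.range ≤ C := by
            rintro _ ⟨s, rfl⟩
            refine Subgroup.mem_centralizer_iff.mpr fun z hz => ?_
            obtain ⟨w, hw, hwS, rfl⟩ := mem_imageAlong.mp hz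
            rw [← th_coe, ← th_mul hwS s.2, ← th_mul s.2 hwS, zOm_comm hw s.2]
          have hsylC : SylIn α.range C := ⟨hαC, aU.syl.pgroup, fun W _ hW h => aU.syl.max W le_top hW h⟩
          obtain ⟨c, hc, hle⟩ := hsylC.exists_conj_le (Q := cj (imageAlong α J) g) (by
              rintro _ ⟨w, hw, rfl⟩
              obtain ⟨x', hx', -, rfl⟩ := mem_imageAlong.mp hw
              exact Subgroup.centralizer_le Subgroup.subset_normalClosure (hconj g x' hx'))
            (((hS.to_subgroup _).map α).map _)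
          have hn := hweak aU rfl (c⁻¹ * g) fun x' hx' => by
            have h := mem_cj.mp (hle (conj_mem_cj (th_mem_imageAlong hx' (hJS hx'))))
            rw [show c⁻¹ * (g * th α x' * g⁻¹) * c = c⁻¹ * g * th α x' * (c⁻¹ * g)⁻¹ by group] at h
            exact h
          obtain ⟨x₁, hx₁, e⟩ := (aU.mem_norm_image hJS).mp hn x hx
          have hcd : c ∈ Subgroup.normalizer (imageAlong α Z : Set G) := Subgroup.centralizer_le_normalizer _ hc
          have hxd := hη.dom (th_mem_range (hJS hx₁))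
          rw [show (⟨g * th α x * g⁻¹, hd⟩ : Subgroup.normalizer (imageAlong α Z : Set G)) =
              ⟨c, hcd⟩ * ⟨th α x₁, hxd⟩ * ⟨c, hcd⟩⁻¹ from Subtype.ext (by
                show g * th α x * g⁻¹ = c * th α x₁ * c⁻¹
                rw [← e]; group), map_mul, map_mul, map_inv, hη.compat x₁ (hJS hx₁)]
          exact Subgroup.subset_closure ⟨η ⟨c, hcd⟩, hηL hcd hc, x₁, hx₁, rfl⟩
        have h := (hKmem.mp hyK).2 _ hηmem
        rw [← hη.compat y (hYS hy) hyd, ← map_mul, ← map_mul] at h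
        exact (congrArg Subtype.val (hη.inj h)).symm
      · intro hcom
        refine hKmem.mpr ⟨hy, fun w hw => ?_⟩
        refine ((Subgroup.closure_le (Subgroup.centralizer ({th ζ y} : Set GZ))).mpr ?_ hw :
          w ∈ Subgroup.centralizer ({th ζ y} : Set GZ)) |> fun h => Subgroup.mem_centralizer_singleton_iff.mp h
        rintro _ ⟨l, hl, x, hx, rfl⟩
        obtain ⟨c, hc, hn⟩ := hfrat l hl
        obtain ⟨x₁, hx₁, e⟩ := (aZ.mem_norm_image hJS).mp hn x hx
        have hcU : c ∈ Subgroup.normalizer (imageAlong ζ U : Set GZ) := by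
          refine Subgroup.centralizer_le_normalizer _ (Subgroup.mem_centralizer_iff.mpr fun u hu => ?_)
          obtain ⟨v, hv, -, rfl⟩ := mem_imageAlong.mp hu
          exact ((hKmem.mp (hUK hv)).2 c hc).symm
        obtain ⟨g, hg⟩ := (hη.range.symm ▸ hcU : c ∈ η.range)
        refine Subgroup.mem_centralizer_singleton_iff.mpr ?_
        have hxd := hη.dom (th_mem_range (hJS hx₁))
        have h : η (⟨th α y, hyd⟩ * (g * ⟨th α x₁, hxd⟩ * g⁻¹)) = η (g * ⟨th α x₁, hxd⟩ * g⁻¹ * ⟨th α y, hyd⟩) :=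
          congrArg η (Subtype.ext (hcom g x₁ hx₁))
        simp only [map_mul, map_inv, hg, hη.compat y (hYS hy), hη.compat x₁ (hJS hx₁)] at h
        rw [show l * th ζ x * l⁻¹ = c * (c⁻¹ * l * th ζ x * (c⁻¹ * l)⁻¹) * c⁻¹ by group, e]
        exact h.symm
    intro m hm
    obtain ⟨⟨g, hgJ⟩, rfl⟩ := (hη'.range.symm ▸ hm : m ∈ η'.range)
    refine (aJ.mem_norm_image hKS).mpr fun y hy => ?_
    have hnY := normalizer_le_zOm _ hgJ
    rw [← image_zOm aU hJS] at hnY
    obtain ⟨y', hy', e⟩ := (aU.mem_norm_image hYS).mp hnY y (hKY hy)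
    have hy'K : y' ∈ K := (hKeq y' hy').mpr fun g' x hx => by
      have h := (hKeq y (hKY hy)).mp hy (g⁻¹ * g') x hx
      rw [← e]
      calc g * th α y * g⁻¹ * (g' * th α x * g'⁻¹)
          = g * (th α y * (g⁻¹ * g' * th α x * (g⁻¹ * g')⁻¹)) * g⁻¹ := by group
        _ = g * (g⁻¹ * g' * th α x * (g⁻¹ * g')⁻¹ * th α y) * g⁻¹ := by rw [h]
        _ = _ := by group
    refine ⟨y', hy'K, ?_⟩
    rw [← hη'.compat y (hKS hy) (hη'.dom (th_mem_range (hKS hy))), ← map_inv, ← map_mul, ← map_mul,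
      ← hη'.compat y' (hYS hy') (hη'.dom (th_mem_range (hYS hy')))]
    exact congrArg η' (Subtype.ext e)
  refine ⟨P, Γ, inferInstance, inferInstance, inferInstance, inferInstance, ι, κ, K.subgroupOf S,
    θ.comp (Subgroup.inclusion hdomJ), ⟨hS, hnt, aJ.inj, aK.inj, aJ.syl, aK.syl, aJ.noS4, aK.noS4, aK.charP,
      hJι ▸ aJ.image_normal, aK.image_normal, ?_, ?_, hθ.inj.comp (Subgroup.inclusion_injective _), ?_,
      fun x h => ?_, ?_, ?_, ?_, ?_⟩⟩
  · intro z hz
    exact hZK (hzmap ▸ ⟨z, hz, rfl⟩)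
  · intro y hy
    obtain ⟨w, hw, e⟩ := hymap.ge (hKY hy)
    exact Subtype.ext e ▸ hw
  · rw [MonoidHom.range_comp, Subgroup.inclusion_range, hKι, ← hθ.range, MonoidHom.range_eq_map]
    congr 1
    rw [eq_top_iff]
    intro g _
    show (g : Γ) ∈ Subgroup.normalizer ((jT S).map κ : Set Γ)
    rw [hJκ]
    exact g.2
  · have h2 := hdomJ h
    rw [← th_coe] at h2
    refine Eq.trans ?_ ((hθ.compat x x.2 h2).trans (th_coe x))
    exact congrArg θ (Subtype.ext (th_coe x).symm)
  · intro U hUn hUK hUne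
    have h := hcnp (U.map S.subtype) (fun x ⟨y, hy, e⟩ => e ▸ hUK hy)
      (fun h => hUne ((Subgroup.map_eq_bot_iff_of_injective _ S.subtype_injective).mp h)) (by
        intro s hs
        haveI := finite_of_le_base (Subgroup.map_subtype_le U)
        refine mem_normalizer_of_map_le ?_
        rintro _ ⟨y, hy, rfl⟩
        exact ⟨⟨s, hs⟩ * y * ⟨s, hs⟩⁻¹, hUn.conj_mem y hy _, rfl⟩)
    rwa [hmap, ← hKι] at h
  · -- `K` is not normal in `F`
    intro htop
    obtain ⟨N, hN⟩ := exists_normalizerSystem F hKS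
    obtain ⟨E, hE⟩ := exists_cast (hnS hSK) N
    have hEfn : ∀ {R : Subgroup Ω} {f : Ω → Ω}, Fn E R f ↔ Fn N R f := fun {R f} => by rw [Fn, Fn, hE]
    have hEn : E.IsNormal K := system_cast (C := fun _ E => E.IsNormal K) (hnS hSK) hE (normalizerSystem_normal hN hKS)
    have hext : ∀ {R : Subgroup Ω} {f : Ω → Ω}, Fn F R f →
        (∃ f', Fn F (R ⊔ K) f' ∧ (∀ x ∈ R, f' x = f x) ∧ img f' K = K) → Fn E R f := fun {R f} hf hx => by
      refine hEfn.mpr ((fn_normalizerSystem hN).mpr ⟨hf.le.trans (hnS hSK).ge, fun x hx' => (hnS hSK).ge (hf.mem hx'), hx⟩)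
    have hle : F ≤ E := by
      refine le_of_center_thompson hS hF hfree E (fun R f hf hZR hfix => hext hf ?_) fun R f hf hJR hi => hext hf ?_
      · obtain ⟨g, hg⟩ := aZ.fwd hf.le hZR hf ((hf.mono hZR).img_eq_self fun z hz => by rw [hfix z hz]; exact hz)
        refine aZ.exists_fix hKS (hLK (Subgroup.mem_centralizer_iff.mpr fun z hz => ?_)) hf.le hg
        obtain ⟨x, hx, -, rfl⟩ := mem_imageAlong.mp hz
        have h := (hg x (hZR hx)).2
        rw [hfix x hx] at h
        exact (eq_mul_inv_iff_mul_eq.mp h)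
      · obtain ⟨g, hg⟩ := aJ.fwd hf.le hJR hf hi
        exact aJ.exists_fix hKS (hKι ▸ htop.ge (Subgroup.mem_top g)) hf.le hg
    have hKn : F.IsNormal K := by
      rwa [system_ext (E := F) (E' := E) fun R => (hle R).antisymm fun φ hφ => normalizerSystem_sub hN R (hE R ▸ hφ)]
    exact hKne (le_bot_iff.mp (hcore ▸ le_core hKn))
  · -- closedness of `K`
    intro y hy hcom
    refine hKmem.mpr ⟨hymap ▸ ⟨y, hy, rfl⟩, fun w hw => ?_⟩
    refine ((Subgroup.closure_le (Subgroup.centralizer ({th ζ (y : Ω)} : Set GZ))).mpr ?_ hw :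
      w ∈ Subgroup.centralizer ({th ζ (y : Ω)} : Set GZ)) |> fun h => Subgroup.mem_centralizer_singleton_iff.mp h
    rintro _ ⟨l, hl, x, hx, rfl⟩
    refine Subgroup.mem_centralizer_singleton_iff.mpr (congrArg Subtype.val (hθ₂.inj (a₁ := ⟨l, hLK hl⟩ *
      ⟨th ζ x, hθ₂.dom (th_mem_range (hJS hx))⟩ * ⟨l, hLK hl⟩⁻¹ * ⟨th ζ (y : Ω), hθ₂.dom (th_mem_range y.2)⟩)
      (a₂ := ⟨th ζ (y : Ω), hθ₂.dom (th_mem_range y.2)⟩ * (⟨l, hLK hl⟩ *
      ⟨th ζ x, hθ₂.dom (th_mem_range (hJS hx))⟩ * ⟨l, hLK hl⟩⁻¹)) ?_))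
    simp only [map_mul, map_inv, hθ₂.compat x (hJS hx), hθ₂.compat (y : Ω) y.2]
    obtain ⟨x', hx', rfl⟩ := hJmap.ge hx
    rw [Subgroup.subtype_apply, th_coe, th_coe]
    exact (hcom _ x' hx').symm
  · -- the centralisers of involutions of `Y`
    intro u hu hu1 hsyl h hh z hz y hy g hg x hx
    have huY : (u : Ω) ∈ Y := hymap ▸ ⟨u, hu, rfl⟩
    have hu2 : (u : Ω) ^ 2 = 1 := zOm_pow huY
    have hu1' : (u : Ω) ≠ 1 := fun e => hu1 (Subtype.ext e)
    set U := Subgroup.zpowers (u : Ω)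
    have hUS : U ≤ S := Subgroup.zpowers_le.mpr u.2
    set T := normalizerIn S U with hT
    have hTmem : ∀ {s}, s ∈ T ↔ s ∈ S ∧ s * (u : Ω) = (u : Ω) * s := by
      intro s
      rw [mem_normalizerIn, normalizer_zpowers hu2 hu1']
    have hJT : J ≤ T := fun s hs => hTmem.mpr ⟨hJS hs, zOm_comm huY hs⟩
    have hKT : K ≤ T := hKY.trans (hYJ.trans hJT)
    have hTS : T ≤ S := normalizerIn_le
    haveI := finite_of_le_base hTS
    have hJeq : Cfsg.thompsonSubgroupOf 2 T = J := by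
      have hle : jT S ≤ T.subgroupOf S := fun s hs => hJT ⟨s, hs, rfl⟩
      have h := CfsgLib.Fusion.Thompson.thompsonSubgroupOf_eq_of_le (p := 2) hle
      rw [hJdef]
      show (Cfsg.thompsonSubgroup 2 T).map T.subtype = (Cfsg.thompsonSubgroup 2 S).map S.subtype
      rw [← h, Cfsg.thompsonSubgroupOf, ← CfsgLib.Fusion.Thompson.map_thompson_equiv
        (Subgroup.subgroupOfEquivOfLe hTS).symm, Subgroup.map_map, Subgroup.map_map]
      rfl
    have hImgU : ∀ {Ω' : Type u} [Group Ω'] (α : S →* Ω'), Function.Injective α →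
        Subgroup.normalizer (imageAlong α U : Set Ω') = Subgroup.centralizer ({α u} : Set Ω') := by
      intro Ω' _ α hα
      have he : imageAlong α U = Subgroup.zpowers (α u) := by
        rw [show U = (Subgroup.zpowers u).map S.subtype from (MonoidHom.map_zpowers S.subtype u).symm, hmap α,
          MonoidHom.map_zpowers]
      ext g
      rw [he, normalizer_zpowers (by rw [← map_pow, show u ^ 2 = 1 from Subtype.ext hu2, map_one])
        (fun e => hu1 (hα (e.trans (map_one α).symm))), Subgroup.mem_centralizer_singleton_iff]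
    have hUfn : F.IsFullyNormalized U := by
      obtain ⟨U', hUU', hU'n⟩ := exists_fullyNormalized (F := F) hUS
      refine ⟨hUS, fun R hR => (hU'n.2 R (isConj_trans (isConj_symm hUU') hR)).trans ?_⟩
      obtain ⟨hauto, hfc⟩ := fullyNormalized_good hS hF hU'n
      obtain ⟨c, hc, hcn, hci⟩ := exists_normalizer_map hS hauto (fullyCentralized_receptive hS hF hfc) hUU'
      have hcJ : img c J = J := img_thompson le_rfl hc hJT (fun s hs => hc.mem (hJT hs))
      obtain ⟨p, hp⟩ := aJ.fwd hTS hJT hc hcJ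
      have hsylU : SylIn ((Subgroup.centralizer ({u} : Set S)).map ι) (Subgroup.centralizer ({ι u} : Set P)) := hsyl
      have hU'S : U' ≤ S := isConj_le_right hUU'
      have hle : cj (imageAlong ι (normalizerIn S U')) p⁻¹ ≤ Subgroup.centralizer ({ι u} : Set P) := by
        rintro _ ⟨_, hn, rfl⟩
        obtain ⟨n, hn', hnS, rfl⟩ := mem_imageAlong.mp hn
        rw [← hImgU ι aJ.inj]
        refine (aJ.mem_norm_image hUS).mpr fun v hv => ?_
        have hvT : v ∈ T := le_normalizerIn hUS hv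
        have hcv : c v ∈ U' := hci.le (mem_img_of_mem hv)
        have hw : n * c v * n⁻¹ ∈ U' := (mem_normalizer_iff'.1 hn'.2).1 _ hcv
        obtain ⟨w, hw', hwe⟩ := (hc.mono (le_normalizerIn hUS)).mem_img.1 (hci.ge hw)
        refine ⟨w, hw', ?_⟩
        show p⁻¹ * th ι n * p⁻¹⁻¹ * th ι v * (p⁻¹ * th ι n * p⁻¹⁻¹)⁻¹ = th ι w
        have h1 : th ι (c w) = p * th ι w * p⁻¹ := (hp w (le_normalizerIn hUS hw')).2
        rw [hwe, th_conj hnS (hU'S hcv), (hp v hvT).2] at h1
        calc _ = p⁻¹ * (th ι n * (p * th ι v * p⁻¹) * (th ι n)⁻¹) * p := by group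
          _ = th ι w := by rw [h1]; group
      obtain ⟨l, -, hl⟩ := hsylU.exists_conj_le hle (((hS.to_subgroup _).map ι).map _)
      have hcard : ∀ {D : Subgroup Ω}, D ≤ S → Nat.card (imageAlong ι D) = Nat.card D := fun {D} hD => by
        rw [show imageAlong ι D = (D.subgroupOf S).map ι from rfl, Subgroup.card_map_of_injective aJ.inj,
          Nat.card_congr (Subgroup.subgroupOfEquivOfLe hD).toEquiv]
      rw [← hcard normalizerIn_le, ← card_cj (imageAlong ι (normalizerIn S U')) p⁻¹, ← hcard hTS]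
      refine (Subgroup.card_le_of_le hl).trans ((card_cj _ _).le.trans
        (le_of_eq (congrArg (fun X : Subgroup P => Nat.card X) ?_)))
      ext a
      rw [Subgroup.mem_map, mem_imageAlong]
      constructor
      · rintro ⟨s, hs, rfl⟩
        exact ⟨s, hTmem.mpr ⟨s.2, congrArg Subtype.val (Subgroup.mem_centralizer_singleton_iff.mp hs)⟩, s.2, th_coe s⟩
      · rintro ⟨s, hs, hsS, rfl⟩
        exact ⟨⟨s, hsS⟩, Subgroup.mem_centralizer_singleton_iff.mpr (Subtype.ext (hTmem.mp hs).2), (th_apply hsS).symm⟩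
    have hUne : U ≠ ⊥ := fun e => hu1' (Subgroup.zpowers_eq_bot.mp e)
    obtain ⟨G, _, _, α, aU⟩ := exists_loc hS hF hfree hloc hUne hUfn rfl
    obtain ⟨η, hη⟩ := aU.exists_link hS aJ hUfn rfl hJT (hTS.trans hSJ)
    obtain ⟨η', hη'⟩ := aU.exists_link hS aK hUfn rfl hKT (hTS.trans hSK)
    have hgrp := thompson_le_centralizer_zOm aU.noS4 aU.charP aU.syl
    rw [← range_th_image aU, ← image_zOm aU le_rfl, range_th_image aU, ← image_thompson α aU.inj, hJeq] at hgrp
    set V := Subgroup.normalClosure (imageAlong α (zOm T) : Set G)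
    obtain ⟨h', hh'⟩ : h ∈ η.range := by
      rw [hη.range, hImgU ι aJ.inj]
      exact Subgroup.mem_centralizer_singleton_iff.mpr hh
    obtain ⟨g', hg'⟩ : g ∈ η'.range := by
      rw [hη'.range, hImgU κ aK.inj]
      exact Subgroup.mem_centralizer_singleton_iff.mpr hg
    have hzT : (z : Ω) ∈ zOm T := by
      have hzZ : (z : Ω) ∈ Z := hzmap ▸ ⟨z, hz, rfl⟩
      refine ⟨⟨hJT (hYJ (hZY hzZ)), Subgroup.mem_centralizer_iff.mpr fun s hs => ?_⟩, hzZ.2⟩
      exact zOm_comm hzZ (hTS hs)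
    have hzT' : (z : Ω) ∈ T := hzT.1.1
    have hyY : (y : Ω) ∈ Y := by
      have hmem : ι y ∈ imageAlong ι Y := by
        rw [hy]
        refine (Subgroup.mem_normalizer_iff.mp (hYimg ((Subgroup.normalizer_eq_top_iff.mpr aJ.image_normal).ge
          (Subgroup.mem_top h))) _).mp ?_
        rw [← th_coe]
        exact th_mem_imageAlong (hZY (hzmap ▸ ⟨z, hz, rfl⟩)) z.2
      rwa [← th_coe, aJ.th_mem_image hYS y.2] at hmem
    have hyT : (y : Ω) ∈ T := hJT (hYJ hyY)
    have hyV : th α (y : Ω) ∈ V := by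
      have e : (h' : G) * th α (z : Ω) * (h' : G)⁻¹ = th α (y : Ω) := by
        refine congrArg Subtype.val (hη.inj (a₁ := h' * ⟨th α (z : Ω), hη.dom (th_mem_range hzT')⟩ * h'⁻¹)
          (a₂ := ⟨th α (y : Ω), hη.dom (th_mem_range hyT)⟩) ?_)
        rw [map_mul, map_mul, map_inv, hh', hη.compat (z : Ω) hzT', hη.compat (y : Ω) hyT, th_coe, th_coe, hy]
      rw [← e]
      exact Subgroup.normalClosure_normal.conj_mem _ (Subgroup.subset_normalClosure
        (th_mem_imageAlong hzT hzT')) _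
    have hxT : (x : Ω) ∈ T := hJT (hJmap ▸ ⟨x, hx, rfl⟩)
    have hcomm : th α (y : Ω) * ((g' : G) * th α (x : Ω) * (g' : G)⁻¹) =
        (g' : G) * th α (x : Ω) * (g' : G)⁻¹ * th α (y : Ω) :=
      Subgroup.mem_centralizer_iff.mp ((inferInstance : (Subgroup.centralizer (V : Set G)).Normal).conj_mem _
        (hgrp (th_mem_imageAlong (hJmap ▸ ⟨x, hx, rfl⟩) hxT)) g') _ hyV
    have h3 : η' (⟨th α (y : Ω), hη'.dom (th_mem_range hyT)⟩ * (g' * ⟨th α (x : Ω), hη'.dom (th_mem_range hxT)⟩ * g'⁻¹)) =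
        η' (g' * ⟨th α (x : Ω), hη'.dom (th_mem_range hxT)⟩ * g'⁻¹ * ⟨th α (y : Ω), hη'.dom (th_mem_range hyT)⟩) :=
      congrArg η' (Subtype.ext hcomm)
    simp only [map_mul, map_inv, hg', hη'.compat (y : Ω) hyT, hη'.compat (x : Ω) hxT, th_coe] at h3
    exact h3

end CfsgLib.SFreeW
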