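import Cfsg.Agent.Lib.SFreeW.Reduction
import Cfsg.Agent.Lib.SFreeW.Setting
import Cfsg.Agent.Lib.SFreeW.Collapse

/-!
A saturated fusion system on a finite 2-group without a section `S₄` is constrained.
-/

set_option autoImplicit false

namespace CfsgLib.SFreeW

open Cfsg

universe u

variable {Ω : Type u} [Group Ω] {S : Subgroup Ω} [Finite S] {F : FusionSystem S}

/-- The theorem. -/
theorem isConstrained_of_sFree (hS : IsPGroup 2 S) (hF : F.IsSaturated 2)
    (hfree : F.IsSectionFree 2 (Equiv.Perm (Fin 4))) : F.IsConstrained 2 := by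
  haveI : Fact (Nat.Prime 2) := ⟨Nat.prime_two⟩
  refine constrained_of_local (fun S _ hS F hF hfree hcore hloc => ?_) hS hF hfree
  by_contra hne
  obtain ⟨P, G, _, _, _, _, ι, κ, K, θ, a⟩ := exists_amalgam hS hF hfree hloc hcore hne
  exact a.false

end CfsgLib.SFreeW
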