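import Cfsg.Agent.Lib.SFreeW.Constrained
import Cfsg.Agent.Lib.FusionSystem.ZJSolvable
import Cfsg.Agent.Lib.FusionSystem.ModelTheorem
import Cfsg.Agent.Lib.FusionSystem.Realized
import Cfsg.Agent.S2759
import Cfsg.Agent.S2761

/-!
Consequences: systems without `S₃` in the automisers have no section `S₄`, and `Qd(p)`-free systems are realizable and
solvable.
-/

set_option autoImplicit false

namespace CfsgLib.SFreeW

open Cfsg
open CfsgLib.Fsys
open Cfsg.FusionSystem (centralizerIn normalizerIn imageAlong preimageAlong)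

universe u

/-- Automisers of a model map into those of the system. -/
theorem sectionFree_of_autGroup {Ω : Type u} [Group Ω] {S : Subgroup Ω} [Finite S] {F : FusionSystem S}
    (h3 : ∀ U : Subgroup Ω, U ≤ S → ¬ Cfsg.Involves (Equiv.Perm (Fin 3)) ↥(F.autGroup U)) :
    F.IsSectionFree 2 (Equiv.Perm (Fin 4)) := by
  intro Q _ _ N hN L _ ι hL hi
  haveI : Fact (Nat.Prime 2) := ⟨Nat.prime_two⟩
  haveI := hL.1
  obtain ⟨T₁, hT₁, h⟩ := (Cfsg.Agent.S2759.result (G := L)).1 hi
  obtain ⟨T₀, hT₀⟩ := hL.2.2.1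
  obtain ⟨T, hT⟩ := hT₁.exists_le_sylow
  obtain ⟨l, hl⟩ := MulAction.exists_smul_eq L T T₀
  set U₁ := T₁.map (MulAut.conj l).toMonoidHom with hU₁
  have hU₁ι : U₁ ≤ ι.range := by
    rw [← hT₀, ← hl]
    exact Subgroup.map_mono hT
  -- transport the section to the conjugate
  have h' : Cfsg.Involves (Equiv.Perm (Fin 3)) (↥(Subgroup.normalizer (U₁ : Set L)) ⧸
      (Subgroup.centralizer (U₁ : Set L)).subgroupOf (Subgroup.normalizer (U₁ : Set L))) := by
    let e : ↥(Subgroup.normalizer (T₁ : Set L)) →* ↥(Subgroup.normalizer (U₁ : Set L)) :=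
      ((MulAut.conj l).toMonoidHom.comp (Subgroup.normalizer (T₁ : Set L)).subtype).codRestrict _ fun x =>
        Subgroup.map_equiv_normalizer_eq T₁ (MulAut.conj l) ▸ Subgroup.mem_map_of_mem _ x.2
    refine CfsgLib.Fsys.involves_of_injective (e := QuotientGroup.map _ _ e fun x hx => ?_) ?_ h
    · refine Subgroup.mem_subgroupOf.mpr (Subgroup.mem_centralizer_iff.mpr ?_)
      rintro _ ⟨t, ht, rfl⟩
      show (MulAut.conj l) t * (MulAut.conj l) (x : L) = (MulAut.conj l) (x : L) * (MulAut.conj l) t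
      rw [← map_mul, ← map_mul, Subgroup.mem_centralizer_iff.mp (Subgroup.mem_subgroupOf.mp hx) t ht]
    · rw [← MonoidHom.ker_eq_bot_iff, Subgroup.eq_bot_iff_forall]
      intro y hy
      induction y using QuotientGroup.induction_on with
      | H x =>
        have h1 := Subgroup.mem_subgroupOf.mp ((QuotientGroup.eq_one_iff (e x)).mp hy)
        refine (QuotientGroup.eq_one_iff x).mpr (Subgroup.mem_subgroupOf.mpr (Subgroup.mem_centralizer_iff.mpr
          fun t ht => (MulAut.conj l).injective ?_))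
        rw [map_mul, map_mul]
        exact Subgroup.mem_centralizer_iff.mp h1 _ ⟨t, ht, rfl⟩
  -- the subgroup of `S`
  set U := subT ι U₁
  have hUN : U ≤ normalizerIn S Q := fun x hx => (mem_subT.1 hx).1
  have hUS : U ≤ S := hUN.trans inf_le_left
  haveI := finite_of_le_base hUS
  set NL := Subgroup.normalizer (U₁ : Set L)
  have hact : ∀ (g : NL) (x : U), ∃ y : U, th ι (y : Ω) = (g : L) * th ι (x : Ω) * (g : L)⁻¹ := fun g x => by
    have hm := (Subgroup.mem_normalizer_iff.mp g.2 _).mp (mem_subT.1 x.2).2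
    obtain ⟨s, hs⟩ := hU₁ι hm
    refine ⟨⟨(s : Ω), mem_subT.2 ⟨s.2, ?_⟩⟩, ?_⟩
    · rw [th_coe, hs]; exact hm
    · rw [th_coe, hs]
  choose f hf using hact
  have key : ∀ {a b : U}, th ι (a : Ω) = th ι (b : Ω) → a = b := fun {a b} e =>
    Subtype.ext (th_injOn hL.2.1.1 (hUN a.2) (hUN b.2) e)
  have hthmul : ∀ (a b : U), th ι ((a * b : U) : Ω) = th ι (a : Ω) * th ι (b : Ω) := fun a b => by
    rw [Subgroup.coe_mul, th_mul (hUN a.2) (hUN b.2)]
  have hmul : ∀ (g g' : NL) (x : U), f (g * g') x = f g (f g' x) := fun g g' x => key (by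
    rw [hf, hf, hf, Subgroup.coe_mul]; group)
  have hone : ∀ x : U, f 1 x = x := fun x => key (by rw [hf, Subgroup.coe_one]; group)
  let χ : NL →* MulAut U := MonoidHom.mk' (fun g =>
    { toFun := f g
      invFun := f g⁻¹
      left_inv := fun x => by rw [← hmul, inv_mul_cancel, hone]
      right_inv := fun x => by rw [← hmul, mul_inv_cancel, hone]
      map_mul' := fun x y => key (by rw [hthmul, hf, hthmul, hf, hf]; group) })
    fun g g' => MulEquiv.ext fun x => hmul g g' x
  have hmem : ∀ g, χ g ∈ F.autGroup U := fun g => by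
    refine Subgroup.subset_closure ?_
    show U.subtype.comp (χ g).toMonoidHom ∈ F.Hom U
    refine normalizerSystem_sub hN U ((hL.2.1.2 U hUN _ fun x => hUN (χ g x).2).2 ⟨g, fun x => ?_⟩)
    have h1 := hf g x
    rw [th_apply (hUN (f g x).2), th_apply (hUN x.2)] at h1
    exact h1
  refine h3 U hUS (CfsgLib.Fsys.involves_of_injective
    (e := QuotientGroup.lift ((Subgroup.centralizer (U₁ : Set L)).subgroupOf NL) (χ.codRestrict (F.autGroup U) hmem)
      fun g hg => ?_) ?_ h')
  · refine MonoidHom.mem_ker.mpr (Subtype.ext (MulEquiv.ext fun x => key ?_))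
    show th ι (f g x : Ω) = th ι (x : Ω)
    rw [hf, ← Subgroup.mem_centralizer_iff.mp (Subgroup.mem_subgroupOf.mp hg) _ (mem_subT.1 x.2).2,
      mul_inv_cancel_right]
  · rw [← MonoidHom.ker_eq_bot_iff, Subgroup.eq_bot_iff_forall]
    intro y hy
    induction y using QuotientGroup.induction_on with
    | H g =>
      refine (QuotientGroup.eq_one_iff g).mpr (Subgroup.mem_subgroupOf.mpr (Subgroup.mem_centralizer_iff.mpr ?_))
      intro u hu
      obtain ⟨s, rfl⟩ := hU₁ι hu
      have hx : (s : Ω) ∈ U := mem_subT.2 ⟨s.2, by rwa [th_coe]⟩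
      have h1 : th ι (f g ⟨s, hx⟩ : Ω) = th ι (s : Ω) :=
        congrArg (fun z : U => th ι (z : Ω)) (DFunLike.congr_fun (congrArg Subtype.val hy) ⟨(s : Ω), hx⟩)
      rw [hf, th_coe] at h1
      exact (mul_inv_eq_iff_eq_mul.mp h1).symm

/-- A chain with abelian strongly closed steps. -/
theorem exists_abelian_chain_of_sFree : ∀ (n : ℕ) {Ω : Type u} [Group Ω] (S : Subgroup Ω) [Finite S],
    Nat.card S = n → IsPGroup 2 S → ∀ (F : FusionSystem S), F.IsSaturated 2 →
      F.IsSectionFree 2 (Equiv.Perm (Fin 4)) →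
      ∃ (m : ℕ) (C : ℕ → Subgroup Ω), C 0 = ⊥ ∧ C m = S ∧ (∀ i ≤ m, F.StronglyClosed (C i)) ∧
        ∀ i < m, C i ≤ C (i + 1) ∧ ⁅C (i + 1), C (i + 1)⁆ ≤ C i := by
  haveI : Fact (Nat.Prime 2) := ⟨Nat.prime_two⟩
  intro n
  induction n using Nat.strong_induction_on with
  | _ n ih =>
  intro Ω _ S _ hn hS F hF hfree
  by_cases hS1 : S = ⊥
  · exact ⟨0, fun _ => ⊥, rfl, hS1.symm, fun i _ => sc_bot, fun i hi => absurd hi i.not_lt_zero⟩
  have hc := isConstrained_of_sFree hS hF hfree
  set Q := F.core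
  haveI := finite_of_le_base (core_le_base : F.core ≤ S)
  set W := (Subgroup.center Q).map Q.subtype with hWdef
  have hWQ : W ≤ Q := Subgroup.map_subtype_le _
  have hWn : F.IsNormal W := normal_char core_normal hWQ fun α x hx => by
    obtain ⟨y, hy, e⟩ := hx
    obtain rfl : y = x := Subtype.ext e
    exact ⟨α y, (Subgroup.characteristic_iff_map_eq.mp (inferInstance : (Subgroup.center Q).Characteristic) α).le
      ⟨y, hy, rfl⟩, rfl⟩
  have hWne : W ≠ ⊥ := fun h => by
    have hQ : Q ≠ ⊥ := fun hQ => hS1 ((Subgroup.eq_bot_iff_forall _).2 fun x hx => by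
      have := centralizer_le_of_centric (core_centric hc) (mem_centralizerIn.2 ⟨hx, fun y hy => by
        rw [show y = 1 from Subgroup.mem_bot.mp (hQ ▸ hy), one_mul, mul_one]⟩)
      exact Subgroup.mem_bot.mp (hQ ▸ this))
    haveI := (Subgroup.nontrivial_iff_ne_bot Q).2 hQ
    haveI := (hS.to_le (core_le_base : Q ≤ S)).center_nontrivial
    exact (Subgroup.nontrivial_iff_ne_bot _).1 this
      ((Subgroup.map_eq_bot_iff_of_injective _ Q.subtype_injective).1 h)
  have hWab : ⁅W, W⁆ ≤ (⊥ : Subgroup Ω) := Subgroup.commutator_le.2 fun a ha b hb => by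
    obtain ⟨x, hx, rfl⟩ := ha
    obtain ⟨y, hy, rfl⟩ := hb
    rw [Subgroup.mem_bot, commutatorElement_eq_one_iff_mul_comm, ← map_mul, ← map_mul,
      Subgroup.mem_center_iff.1 hy x]
  have hsc := normal_stronglyClosed hWn
  have : (W.subgroupOf S).Normal := by
    rw [← Subgroup.normalizer_eq_top_iff, eq_top_iff]
    intro s _
    rw [Subgroup.mem_normalizer_iff]
    exact fun x => Subgroup.mem_normalizer_iff.1 (sc_le_normalizer hsc s.2) (x : Ω)
  let θ := QuotientGroup.mk' (W.subgroupOf S)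
  obtain ⟨E, hE⟩ := exists_factorSystem (S' := ⊤) hsc θ
    (fun s => (QuotientGroup.eq_one_iff s).trans Subgroup.mem_subgroupOf)
    (MonoidHom.range_eq_top.2 (QuotientGroup.mk'_surjective _))
  have hsm := factor_surjectiveMorphism hS hF hsc hE
  have := finite_target hsm
  have hEs := surjectiveMorphism_saturated hS hF hsm
  have hSp : IsPGroup 2 (⊤ : Subgroup (S ⧸ W.subgroupOf S)) := (hS.to_quotient _).to_subgroup _
  have hlt : Nat.card (⊤ : Subgroup (S ⧸ W.subgroupOf S)) < n := by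
    rw [Subgroup.card_top, ← hn, Subgroup.card_eq_card_quotient_mul_card_subgroup (W.subgroupOf S)]
    refine lt_mul_of_one_lt_right Nat.card_pos ?_
    rw [Nat.card_congr (Subgroup.subgroupOfEquivOfLe hsc.1).toEquiv]
    have := finite_of_le_base hsc.1
    exact Finite.one_lt_card_iff_nontrivial.2 ((Subgroup.nontrivial_iff_ne_bot W).2 hWne)
  obtain ⟨m, C, hC0, hCm, hCsc, hCc⟩ := ih _ hlt _ rfl hSp E hEs (factor_sectionFree hS hF hWn hfree hE)
  let D : ℕ → Subgroup Ω := fun i => if i = 0 then ⊥ else preimageAlong θ (C (i - 1))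
  refine ⟨m + 1, D, rfl, ?_, fun i hi => ?_, fun i hi => ?_⟩
  · simp only [D, Nat.succ_ne_zero, if_false, Nat.add_sub_cancel, hCm]
    exact le_antisymm preimageAlong_le fun x hx => mem_preimageAlong.2 ⟨hx, trivial⟩
  · rcases Nat.eq_zero_or_pos i with rfl | hi0
    · exact sc_bot
    · simp only [D, hi0.ne', if_false]
      exact sc_preimage hsm.1 (hCsc _ (by omega))
  · rcases Nat.eq_zero_or_pos i with rfl | hi0
    · simp only [D, if_true, Nat.succ_ne_zero, if_false, Nat.add_sub_cancel, hC0]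
      refine ⟨bot_le, ?_⟩
      have h : preimageAlong θ (⊥ : Subgroup (S ⧸ W.subgroupOf S)) ≤ W := fun x hx => by
        obtain ⟨hxS, h1⟩ := mem_preimageAlong.1 hx
        exact (factor_ker hE hxS).1 (Subgroup.mem_bot.1 h1)
      exact (Subgroup.commutator_mono h h).trans hWab
    · obtain ⟨j, rfl⟩ := Nat.exists_eq_succ_of_ne_zero hi0.ne'
      obtain ⟨h1, h2⟩ := hCc j (by omega)
      simp only [D, Nat.succ_eq_add_one, Nat.succ_ne_zero, if_false, Nat.add_sub_cancel]
      refine ⟨fun x hx => ?_, Subgroup.commutator_le.2 fun a ha b hb => ?_⟩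
      · obtain ⟨hxS, hx'⟩ := mem_preimageAlong.1 hx
        exact mem_preimageAlong.2 ⟨hxS, h1 hx'⟩
      · obtain ⟨haS, ha'⟩ := mem_preimageAlong.1 ha
        obtain ⟨hbS, hb'⟩ := mem_preimageAlong.1 hb
        refine mem_preimageAlong.2
          ⟨S.mul_mem (S.mul_mem (S.mul_mem haS hbS) (S.inv_mem haS)) (S.inv_mem hbS), ?_⟩
        rw [commutatorElement_def, th_mul (S.mul_mem (S.mul_mem haS hbS) (S.inv_mem haS)) (S.inv_mem hbS),
          th_inv hbS, th_conj haS hbS]
        exact h2 (Subgroup.commutator_mem_commutator ha' hb')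

/-- `S₄`-free systems are solvable. -/
theorem solvable_of_sFree {Ω : Type u} [Group Ω] {S : Subgroup Ω} [Finite S] (hS : IsPGroup 2 S)
    (F : FusionSystem S) (hF : F.IsSaturated 2) (hfree : F.IsSectionFree 2 (Equiv.Perm (Fin 4))) :
    F.IsSolvableSystem := by
  haveI : Fact (Nat.Prime 2) := ⟨Nat.prime_two⟩
  obtain ⟨m, C, h0, hm, hsc, hc⟩ := exists_abelian_chain_of_sFree _ S rfl hS F hF hfree
  exact (solvable_iff_chain hS hF).2 ⟨m, fun i => C i, h0, hm, Fin.monotone_iff_le_succ.2 fun i => (hc i i.2).1,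
    fun i => hsc i (Nat.lt_succ_iff.1 i.2), fun i => (hc i i.2).2⟩

/-- `Qd(p)`-free systems are constrained, so realizable, and solvable. -/
theorem realizable_solvable_of_qdFree {Ω : Type u} [Group Ω] {S : Subgroup Ω} [Finite S] (p : ℕ) [Fact p.Prime]
    (hS : IsPGroup p S) (F : FusionSystem S) (hF : F.IsSaturated p) (hfree : F.IsSectionFree p ↥(Cfsg.qd p)) :
    F.IsRealizable p ∧ F.IsSolvableSystem := by
  have h : F.IsConstrained p ∧ F.IsSolvableSystem := by
    by_cases hp : p = 2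
    · subst hp
      have h4 : F.IsSectionFree 2 (Equiv.Perm (Fin 4)) := fun Q hQn hQc N hN L _ ι hL hi => by
        obtain ⟨e⟩ := Cfsg.Agent.S2761.result
        obtain ⟨K, R, hR, ⟨e'⟩⟩ := hi
        exact hfree Q hQn hQc N hN L ι hL ⟨K, R, hR, ⟨e'.trans e.symm⟩⟩
      exact ⟨isConstrained_of_sFree hS hF h4, solvable_of_sFree hS F hF h4⟩
    · have hs := solvable_of_qdFree hp hS F hF hfree
      exact ⟨solvable_constrained hS hF hs, hs⟩
  refine ⟨?_, h.2⟩
  obtain ⟨G, _, ι, hG⟩ := exists_model hS h.1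
  exact ⟨G, inferInstance, hG.1, ι, hG.2.1, hG.2.2.1⟩

end CfsgLib.SFreeW
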