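import Cfsg.Agent.Lib.SFreeW.Pairing
import Cfsg.Agent.Lib.Fusion.SFreeFF.Pair

/-!
Complements of invariant subgroups: a normal subgroup acts completely reducibly on an irreducible module, hence also
on the homomorphisms into a group of exponent two with trivial action.
-/

set_option autoImplicit false
set_option linter.unusedSectionVars false
set_option linter.style.haveILetI false

namespace CfsgLib.SFreeW

open CfsgLib.Fusion.SFreeFF CfsgLib.Fusion.CentralOffender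

universe u

/-- Every invariant subgroup has an invariant complement. -/
def Ss {N : Type*} [CommGroup N] {G : Type*} [Group G] (σ : G →* MulAut N) : Prop :=
  ∀ P : Subgroup N, (∀ g, ∀ x ∈ P, σ g x ∈ P) →
    ∃ C : Subgroup N, (∀ g, ∀ x ∈ C, σ g x ∈ C) ∧ P ⊓ C = ⊥ ∧ P ⊔ C = ⊤

variable {N : Type u} [CommGroup N] [Finite N] {G : Type u} [Group G]

/-- Clifford: a normal subgroup acts completely reducibly on an irreducible module. -/
theorem ss_of_irred (σ : G →* MulAut N) (hirr : ∀ U : Subgroup N, (∀ g, ∀ u ∈ U, σ g u ∈ U) → U = ⊥ ∨ U = ⊤)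
    (L : Subgroup G) [hL : L.Normal] : Ss (σ.comp L.subtype) := by
  by_cases hN : (⊤ : Subgroup N) = ⊥
  · exact fun P _ => ⟨⊥, fun g x hx => by rw [Subgroup.mem_bot.mp hx, map_one]; exact one_mem _, inf_bot_eq P,
      le_antisymm le_top (hN.le.trans bot_le)⟩
  obtain ⟨S₁, ⟨hS₁i, hS₁⟩, hmin⟩ := Set.exists_min_image
    {U : Subgroup N | (∀ g ∈ L, ∀ x ∈ U, σ g x ∈ U) ∧ U ≠ ⊥} (fun U => Nat.card U) (Set.toFinite _)
    ⟨⊤, fun _ _ _ _ => trivial, hN⟩
  set T : G → Subgroup N := fun γ => S₁.map (σ γ).toMonoidHom with hT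
  have hTi : ∀ γ, ∀ g ∈ L, ∀ x ∈ T γ, σ g x ∈ T γ := by
    rintro γ g hg _ ⟨x, hx, rfl⟩
    refine ⟨σ (γ⁻¹ * g * γ) x, hS₁i _ (by simpa using hL.conj_mem g hg γ⁻¹) x hx, ?_⟩
    show σ γ (σ (γ⁻¹ * g * γ) x) = σ g (σ γ x)
    rw [← MulAut.mul_apply, ← map_mul, ← MulAut.mul_apply, ← map_mul]
    group
  have hTm : ∀ γ (U : Subgroup N), (∀ g ∈ L, ∀ x ∈ U, σ g x ∈ U) → U ≤ T γ → U ≠ ⊥ → U = T γ := by
    intro γ U hU hle hne
    refine Subgroup.eq_of_le_of_card_ge hle ?_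
    have h1 := hmin (U.map (σ γ⁻¹).toMonoidHom) ⟨?_, fun h => hne
      ((Subgroup.map_eq_bot_iff_of_injective U (σ γ⁻¹).injective).mp h)⟩
    · rw [Subgroup.card_map_of_injective (f := (σ γ⁻¹).toMonoidHom) (σ γ⁻¹).injective] at h1
      rwa [hT, Subgroup.card_map_of_injective (f := (σ γ).toMonoidHom) (σ γ).injective]
    · rintro g hg _ ⟨x, hx, rfl⟩
      refine ⟨σ (γ * g * γ⁻¹) x, hU _ (hL.conj_mem g hg γ) x hx, ?_⟩
      show σ γ⁻¹ (σ (γ * g * γ⁻¹) x) = σ g (σ γ⁻¹ x)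
      rw [← MulAut.mul_apply, ← map_mul, ← MulAut.mul_apply, ← map_mul]
      group
  have hspan : (⨆ γ, T γ) = ⊤ := by
    refine (hirr _ fun g u hu => ?_).resolve_left fun h => hS₁ ?_
    · have : (⨆ γ, T γ).map (σ g).toMonoidHom ≤ ⨆ γ, T γ := by
        rw [Subgroup.map_iSup]
        refine iSup_le fun γ => le_trans ?_ (le_iSup T (g * γ))
        rintro _ ⟨_, ⟨x, hx, rfl⟩, rfl⟩
        exact ⟨x, hx, by rw [map_mul σ]; rfl⟩
      exact this ⟨u, hu, rfl⟩
    · exact (Subgroup.map_eq_bot_iff_of_injective S₁ (σ 1).injective).mp (le_bot_iff.mp (h ▸ le_iSup T 1))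
  intro P hP
  obtain ⟨C, ⟨hCi, hPC⟩, hmax⟩ := Set.exists_max_image
    {U : Subgroup N | (∀ g ∈ L, ∀ x ∈ U, σ g x ∈ U) ∧ P ⊓ U = ⊥} (fun U => Nat.card U) (Set.toFinite _)
    ⟨⊥, fun g _ x hx => by rw [Subgroup.mem_bot.mp hx, map_one]; exact one_mem _, inf_bot_eq P⟩
  refine ⟨C, fun g x hx => hCi _ g.2 x hx, hPC, top_le_iff.mp (hspan ▸ iSup_le fun γ => ?_)⟩
  by_contra hnot
  have hzero : T γ ⊓ (P ⊔ C) = ⊥ := by
    by_contra hne
    refine hnot ((hTm γ (T γ ⊓ (P ⊔ C)) (fun g hg x hx => Subgroup.mem_inf.mpr ⟨hTi γ g hg x hx.1, ?_⟩) inf_le_left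
      hne).ge.trans inf_le_right)
    obtain ⟨p, hp, c, hc, e⟩ := Subgroup.mem_sup.mp hx.2
    rw [← e, map_mul]
    exact mul_mem (Subgroup.mem_sup_left (hP ⟨g, hg⟩ p hp)) (Subgroup.mem_sup_right (hCi g hg c hc))
  have hbig : P ⊓ (C ⊔ T γ) = ⊥ := by
    refine (Subgroup.eq_bot_iff_forall _).mpr fun x hx => ?_
    obtain ⟨c, hc, t, ht, e⟩ := Subgroup.mem_sup.mp hx.2
    have ht1 : t = 1 := Subgroup.mem_bot.mp (hzero.le ⟨ht, by
      rw [show t = c⁻¹ * x by rw [← e, inv_mul_cancel_left]]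
      exact mul_mem (Subgroup.mem_sup_right (inv_mem hc)) (Subgroup.mem_sup_left hx.1)⟩)
    rw [ht1, mul_one] at e
    exact Subgroup.mem_bot.mp (hPC.le ⟨hx.1, e ▸ hc⟩)
  refine hnot (le_sup_right.trans ((Subgroup.eq_of_le_of_card_ge le_sup_left (hmax _ ⟨fun g hg x hx => ?_, hbig⟩)).ge.trans
    le_sup_right))
  obtain ⟨c, hc, t, ht, e⟩ := Subgroup.mem_sup.mp hx
  rw [← e, map_mul]
  exact mul_mem (Subgroup.mem_sup_left (hCi g hg c hc)) (Subgroup.mem_sup_right (hTi γ g hg t ht))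

theorem two_cases {x y : Two.{u}} (hx : x ≠ 1) (hy : y ≠ 1) : x = y := by
  by_contra h
  haveI : Finite Two.{u} := inferInstance
  have h1 : (({1, x, y} : Set Two.{u})).ncard = 3 :=
    Set.ncard_eq_three.mpr ⟨1, x, y, hx.symm, hy.symm, h, rfl⟩
  have h2 : ({1, x, y} : Set Two.{u}).ncard ≤ (Set.univ : Set Two.{u}).ncard :=
    Set.ncard_le_ncard (Set.subset_univ _) (Set.toFinite _)
  rw [h1, Set.ncard_univ, Nat.card_congr Multiplicative.toAdd, Nat.card_congr Equiv.ulift, Nat.card_zmod] at h2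
  omega

/-- Complete reducibility of the dual. -/
theorem ss_dual (h2 : Exp2 N) {σ : G →* MulAut N} (h : Ss σ) : Ss (preAct (V := Two.{u}) σ) := by
  haveI := finite_hom N Two.{u}
  intro P hP
  obtain ⟨C₀, hC₀, hdisj, hsum⟩ := h (ann P) fun g y hy z hz => by
    have := hy _ (hP g⁻¹ z hz)
    rwa [preAct_apply, inv_inv] at this
  set C := (pre (U := Two.{u}) C₀.subtype).ker
  refine ⟨C, fun g f hf => ?_, ?_, ?_⟩
  · refine MonoidHom.mem_ker.mpr (MonoidHom.ext fun y => ?_)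
    exact DFunLike.congr_fun (MonoidHom.mem_ker.mp hf) ⟨σ g⁻¹ y, hC₀ g⁻¹ y y.2⟩
  · refine (Subgroup.eq_bot_iff_forall _).mpr fun f hf => MonoidHom.ext fun n => ?_
    obtain ⟨a, ha, c, hc, rfl⟩ := Subgroup.mem_sup.mp (hsum.symm ▸ Subgroup.mem_top n : n ∈ ann P ⊔ C₀)
    rw [map_mul, ha f hf.1, show f c = 1 from DFunLike.congr_fun (MonoidHom.mem_ker.mp hf.2) ⟨c, hc⟩, one_mul]
    rfl
  · refine top_le_iff.mp fun f _ => ?_
    -- the part of `f` on `C₀` is realised by `P`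
    set r := pre (U := Two.{u}) C₀.subtype
    suffices hr : P.map r = ⊤ by
      obtain ⟨p, hp, he⟩ := (hr.symm ▸ Subgroup.mem_top (r f) : r f ∈ P.map r)
      rw [← mul_inv_cancel_left p f]
      exact Subgroup.mem_sup.mpr ⟨p, hp, p⁻¹ * f, MonoidHom.mem_ker.mpr (by rw [map_mul, map_inv, he, inv_mul_cancel]),
        rfl⟩
    have hann : ann (P.map r) = ⊥ := by
      refine (Subgroup.eq_bot_iff_forall _).mpr fun c hc => Subtype.ext ?_
      refine Subgroup.mem_bot.mp (hdisj.le ⟨fun z hz => hc _ ⟨z, hz, rfl⟩, c.2⟩)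
    by_contra hne
    obtain ⟨z, hz⟩ : ∃ z, z ∉ P.map r := by
      by_contra hh
      push Not at hh
      exact hne (top_le_iff.mp fun z _ => hh z)
    haveI := finite_hom C₀ Two.{u}
    -- counting through evaluation
    let ev : C₀ →* ((P.map r) →* Two.{u}) := MonoidHom.mk' (fun c => MonoidHom.mk' (fun z => (z : C₀ →* Two.{u}) c)
      fun _ _ => rfl) fun a b => MonoidHom.ext fun z => map_mul (z : C₀ →* Two.{u}) a b
    have hinj : Function.Injective ev := (injective_iff_map_eq_one ev).mpr fun c hc =>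
      Subgroup.mem_bot.mp (hann.le fun z hz => DFunLike.congr_fun hc ⟨z, hz⟩)
    haveI := finite_hom (P.map r) Two.{u}
    have h3 := dl_map_add (h2.subgroup C₀) (exp2_two.hom) ev ⊤
    rw [(MonoidHom.ker_eq_bot_iff ev).mpr hinj, inf_bot_eq, dl_bot] at h3
    have h4 : dl ((⊤ : Subgroup C₀).map ev) ≤ dl (⊤ : Subgroup ((P.map r) →* Two.{u})) := dl_mono le_top
    have h5 := dl_dual_le (P.map r) (exp2_two.hom.subgroup _)
    have h6 := dl_dual_le C₀ (h2.subgroup C₀)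
    rw [dl_top_subgroup (P.map r)] at h5
    exact hz ((eq_of_dl_le exp2_two.hom le_top (by omega)).ge (Subgroup.mem_top z))

theorem compHom_preAct {D D' : Type u} [CommGroup D] [CommGroup D'] (σ : G →* MulAut N) (h : D →* D') (g : G)
    (f : N →* D) : preAct σ g (h.comp f) = h.comp (preAct σ g f) := rfl

/-- Complete reducibility of the homomorphisms into a group of exponent two. -/
theorem ss_hom (h2 : Exp2 N) {σ : G →* MulAut N} (h : Ss σ) : ∀ (D : Type u) [CommGroup D] [Finite D], Exp2 D →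
    Ss (preAct (V := D) σ) := by
  suffices ∀ (n : ℕ) (D : Type u) [CommGroup D] [Finite D], Nat.card D = n → Exp2 D → Ss (preAct (V := D) σ) from
    fun D _ _ => this _ D rfl
  intro n
  induction n using Nat.strong_induction_on with
  | _ n ih => ?_
  intro D _ _ hn hD P hP
  by_cases hb : ∃ t : D, t ≠ 1
  swap
  · push Not at hb
    refine ⟨⊥, fun g x hx => by rw [Subgroup.mem_bot.mp hx, map_one]; exact one_mem _, inf_bot_eq P,
      top_le_iff.mp fun f _ => ?_⟩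
    rw [show f = 1 from MonoidHom.ext fun y => hb _]
    exact one_mem _
  obtain ⟨t, ht⟩ := hb
  obtain ⟨μ, hμ⟩ := exists_hom_ne_one hD ht
  set K := μ.ker
  let τ : Two.{u} →* D := MonoidHom.mk' (fun x => if x = 1 then 1 else t) fun a b => by
    by_cases ha : a = 1
    · simp [ha]
    by_cases hb : b = 1
    · simp [hb]
    rw [two_cases ha hb, exp2_two b, if_pos rfl, if_neg hb, hD t]
  have hτ : ∀ x, μ (τ x) = x := fun x => by
    show μ (if x = 1 then 1 else t) = x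
    by_cases hx : x = 1
    · rw [if_pos hx, map_one, hx]
    · rw [if_neg hx]; exact two_cases hμ hx
  have hlt : Nat.card K < n := by
    rw [← hn]
    refine lt_of_le_of_ne (Subgroup.card_le_card_group K) fun he => hμ ?_
    exact MonoidHom.mem_ker.mp ((Subgroup.eq_top_of_card_eq K he).ge (Subgroup.mem_top t))
  set ι := MonoidHom.compHom (M := N) K.subtype
  set π := MonoidHom.compHom (M := N) μ
  obtain ⟨C', hC'i, hC'd, hC's⟩ := ih _ hlt K rfl (hD.subgroup K) (P.comap ι) fun g f hf => by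
    show K.subtype.comp (preAct σ g f) ∈ P
    exact hP g _ hf
  obtain ⟨C'', hC''i, hC''d, hC''s⟩ := ss_dual h2 h (P.map π) (by
    rintro g _ ⟨p, hp, rfl⟩
    exact ⟨_, hP g p hp, rfl⟩)
  set j := MonoidHom.compHom (M := N) τ
  refine ⟨C'.map ι ⊔ C''.map j, fun g f hf => ?_, ?_, ?_⟩
  · obtain ⟨_, ⟨a, ha, rfl⟩, _, ⟨b, hb, rfl⟩, rfl⟩ := Subgroup.mem_sup.mp hf
    rw [map_mul]
    exact mul_mem (Subgroup.mem_sup_left ⟨_, hC'i g a ha, rfl⟩) (Subgroup.mem_sup_right ⟨_, hC''i g b hb, rfl⟩)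
  · refine (Subgroup.eq_bot_iff_forall _).mpr fun f hf => ?_
    obtain ⟨_, ⟨a, ha, rfl⟩, _, ⟨b, hb, rfl⟩, e⟩ := Subgroup.mem_sup.mp hf.2
    have hπ : π f = b := by
      rw [← e, map_mul]
      refine MonoidHom.ext fun y => ?_
      show μ (a y : D) * μ (τ (b y)) = b y
      rw [show μ (a y : D) = 1 from (a y).2, hτ, one_mul]
    have hb1 : b = 1 := Subgroup.mem_bot.mp (hC''d.le ⟨⟨f, hf.1, hπ⟩, hb⟩)
    rw [hb1, map_one, mul_one] at e
    have ha1 : a = 1 := Subgroup.mem_bot.mp (hC'd.le ⟨show ι a ∈ P from e ▸ hf.1, ha⟩)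
    rw [← e, ha1, map_one]
  · refine top_le_iff.mp fun f _ => ?_
    obtain ⟨_, ⟨p, hp, rfl⟩, b, hb, e⟩ := Subgroup.mem_sup.mp
      (hC''s.symm ▸ Subgroup.mem_top (π f) : π f ∈ P.map π ⊔ C'')
    set f' := p⁻¹ * (j b)⁻¹ * f
    have hf' : ∀ y, f' y ∈ K := fun y => MonoidHom.mem_ker.mpr (by
      show μ ((p y)⁻¹ * (τ (b y))⁻¹ * f y) = 1
      rw [map_mul, map_mul, map_inv, map_inv, hτ,
        show μ (f y) = μ (p y) * b y from (DFunLike.congr_fun e y).symm, mul_assoc, inv_mul_eq_one]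
      rw [mul_comm (μ (p y)), inv_mul_cancel_left])
    obtain ⟨q, hq, c, hc, e'⟩ := Subgroup.mem_sup.mp
      (hC's.symm ▸ Subgroup.mem_top (f'.codRestrict K hf') : f'.codRestrict K hf' ∈ P.comap ι ⊔ C')
    have h1 : ι q * ι c = f' := by rw [← map_mul, e']; rfl
    rw [show f = p * (j b * (ι q * ι c)) by
      rw [h1]; simp only [f']; rw [mul_comm p⁻¹, mul_assoc, mul_inv_cancel_left, mul_inv_cancel_left]]
    exact mul_mem (Subgroup.mem_sup_left hp) (mul_mem (Subgroup.mem_sup_right (Subgroup.mem_sup_right ⟨b, hb, rfl⟩))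
      (mul_mem (Subgroup.mem_sup_left hq) (Subgroup.mem_sup_right (Subgroup.mem_sup_left ⟨c, hc, rfl⟩))))

/-- Complete reducibility of the homomorphisms into any abelian group: they land in the elements of order two. -/
theorem ss_hom_any (h2 : Exp2 N) {σ : G →* MulAut N} (h : Ss σ) (D : Type u) [CommGroup D] [Finite D] :
    Ss (preAct (V := D) σ) := by
  let K : Subgroup D :=
    { carrier := {x | x * x = 1}
      one_mem' := mul_one 1
      mul_mem' := fun {a b} ha hb => by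
        show a * b * (a * b) = 1
        rw [mul_mul_mul_comm, show a * a = 1 from ha, show b * b = 1 from hb, mul_one]
      inv_mem' := fun {a} ha => by
        show a⁻¹ * a⁻¹ = 1
        rw [← mul_inv, show a * a = 1 from ha, inv_one] }
  set ι := MonoidHom.compHom (M := N) K.subtype
  have hs : ∀ f : N →* D, ∃ f' : N →* K, ι f' = f := fun f =>
    ⟨f.codRestrict K fun y => show f y * f y = 1 by rw [← map_mul, h2, map_one], MonoidHom.ext fun _ => rfl⟩
  intro P hP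
  obtain ⟨C, hCi, hd, hs'⟩ := ss_hom h2 h K (fun x => Subtype.ext x.2) (P.comap ι) fun g f hf => by
    show K.subtype.comp (preAct σ g f) ∈ P
    exact hP g _ hf
  refine ⟨C.map ι, ?_, ?_, ?_⟩
  · rintro g _ ⟨f, hf, rfl⟩
    exact ⟨_, hCi g f hf, rfl⟩
  · refine (Subgroup.eq_bot_iff_forall _).mpr ?_
    rintro _ ⟨hp, f, hf, rfl⟩
    rw [Subgroup.mem_bot.mp (hd.le ⟨hp, hf⟩), map_one]
  · refine top_le_iff.mp fun f _ => ?_
    obtain ⟨f', rfl⟩ := hs f
    obtain ⟨p, hp, c, hc, e⟩ := Subgroup.mem_sup.mp (hs'.symm ▸ Subgroup.mem_top f' : f' ∈ P.comap ι ⊔ C)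
    rw [← e, map_mul]
    exact mul_mem (Subgroup.mem_sup_left hp) (Subgroup.mem_sup_right ⟨c, hc, rfl⟩)

end CfsgLib.SFreeW
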