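import Cfsg.Agent.Lib.FusionSystem.ThompsonFactor
import Cfsg.Agent.Lib.Fusion.SFreeFF.Functors
import Cfsg.Agent.Lib.Fusion.SFreeFF.Factorisation

/-!
A saturated system over a 2-group without a section `S₄` is generated by the centraliser of the elements of order
two of the centre and the normaliser of the Thompson subgroup.
-/

set_option autoImplicit false
set_option linter.unusedSectionVars false
set_option linter.style.haveILetI false

namespace CfsgLib.SFreeW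

open Cfsg
open CfsgLib.Fsys
open Cfsg.FusionSystem (centralizerIn normalizerIn)
open scoped Pointwise

universe u

/-- The central elements of order dividing two. -/
def zOm {G : Type*} [Group G] (A : Subgroup G) : Subgroup G where
  carrier := {z | z ∈ A ⊓ Subgroup.centralizer (A : Set G) ∧ z ^ 2 = 1}
  one_mem' := ⟨one_mem _, one_pow 2⟩
  mul_mem' := fun {a b} ha hb => ⟨mul_mem ha.1 hb.1, by
    rw [(show Commute a b from Subgroup.mem_centralizer_iff.1 hb.1.2 a ha.1.1).mul_pow, ha.2, hb.2, one_mul]⟩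
  inv_mem' := fun {a} ha => ⟨inv_mem ha.1, by rw [inv_pow, ha.2, inv_one]⟩

theorem zOm_le {G : Type*} [Group G] (A : Subgroup G) : zOm A ≤ A ⊓ Subgroup.centralizer (A : Set G) := fun _ h => h.1

theorem zOm_pow {G : Type*} [Group G] {A : Subgroup G} {z : G} (h : z ∈ zOm A) : z ^ 2 = 1 := h.2

theorem zOm_mono {G : Type*} [Group G] {A B : Subgroup G} (hAB : A ≤ B)
    (h : B ⊓ Subgroup.centralizer (B : Set G) ≤ A) : zOm B ≤ zOm A := fun _ hx =>
  ⟨⟨h hx.1, Subgroup.centralizer_le hAB hx.1.2⟩, hx.2⟩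

theorem mem_zOm_map {G G' : Type*} [Group G] [Group G'] {A : Subgroup G} {B : Subgroup G'} (φ : A →* G')
    (hB : φ.range = B) {x : G} (hx : x ∈ zOm A) (hxA : x ∈ A) : φ ⟨x, hxA⟩ ∈ zOm B := by
  subst hB
  refine ⟨⟨⟨_, rfl⟩, Subgroup.mem_centralizer_iff.2 ?_⟩, ?_⟩
  · rintro _ ⟨w, rfl⟩
    rw [← map_mul, ← map_mul]
    exact congrArg φ (Subtype.ext (Subgroup.mem_centralizer_iff.1 hx.1.2 _ w.2))
  · rw [← map_pow, show (⟨x, hxA⟩ : A) ^ 2 = 1 from Subtype.ext hx.2, map_one]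

variable {Ω : Type u} [Group Ω] {S : Subgroup Ω} {F : FusionSystem S} [Finite S]
  {W : ∀ (Q : Type u) [Group Q], Subgroup Q}

/-- Generation of a saturated system from a factorization in its models. -/
theorem le_of_omega_factor
    (hW2 : ∀ (Q R : Type u) [Group Q] [Group R] [Finite Q], IsPGroup 2 Q → ∀ φ : Q ≃* R, (W Q).map φ.toMonoidHom = W R)
    (hWZ : ∀ (Q : Type u) [Group Q] [Finite Q], IsPGroup 2 Q → ∀ x ∈ Subgroup.center Q, x ^ 2 = 1 → x ∈ W Q)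
    (hfac : ∀ (L : Type u) [Group L] [Finite L] (T : Sylow 2 L),
      Subgroup.centralizer ((pCore 2 L : Subgroup L) : Set L) ≤ pCore 2 L →
      ¬ Involves (Equiv.Perm (Fin 4)) L → ∀ g : L,
      ∃ c ∈ Subgroup.centralizer (zOm (T : Subgroup L) : Set L),
        ∃ h ∈ Subgroup.normalizer (wOf W (T : Subgroup L) : Set L), g = c * h)
    [Fact (Nat.Prime 2)] (hS : IsPGroup 2 S) (hF : F.IsSaturated 2)
    (hfree : F.IsSectionFree 2 (Equiv.Perm (Fin 4))) (E : FusionSystem S)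
    (hC : ∀ (P : Subgroup Ω) (f : Ω → Ω), Fn F P f → zOm S ≤ P → (∀ z ∈ zOm S, f z = z) → Fn E P f)
    (hN : ∀ (P : Subgroup Ω) (f : Ω → Ω), Fn F P f → wOf W S ≤ P → img f (wOf W S) = wOf W S → Fn E P f) :
    F ≤ E := by
  set Z₁ := zOm S with hZ₁
  have hWS : wOf W S ≤ S := wOf_le S
  have hZS : Z₁ ≤ S := (zOm_le S).trans inf_le_left
  have hZcomm : ∀ z ∈ Z₁, ∀ s ∈ S, s * z = z * s := fun z hz s hs =>
    Subgroup.mem_centralizer_iff.1 (zOm_le S hz).2 s hs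
  have hES : F.autGroup S ≤ E.autGroup S := fun α hα => by
    have hf := (mem_autGroup_iff_fn le_rfl).1 hα
    refine (mem_autGroup_iff_fn le_rfl).2 (hN _ _ hf hWS ?_)
    have h := map_wOf hW2 hS hf
    rwa [img_autFn] at h
  refine le_of_automizers hS hF E hES fun P hPS hP hbig => ?_
  by_cases hc : F.IsCentric P
  swap
  · rw [← extClosure_eq_of_not_centric hS hF hP hc]
    refine (Subgroup.closure_le _).2 fun α hα => ?_
    obtain ⟨R, g, hPR, hg, hgα⟩ := hα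
    have hgE : Fn E R g := hbig R g (by
      have := finite_of_le_base hg.le
      exact card_lt_of_lt' hPR) hg
    exact (mem_autGroup hPS.le).2 (mem_hom_of_fn (hgE.mono hPR.le) fun x => (hgα x).symm)
  suffices hB : ∀ k : ℕ, ∀ V : Subgroup Ω, F.IsCentric V → F.IsFullyNormalized V →
      Nat.card P ≤ Nat.card (normalizerIn S V) → Nat.card S - Nat.card (normalizerIn S V) < k →
      ∀ (D : Subgroup Ω) (f : Ω → Ω), V ≤ D → D ≤ normalizerIn S V → Fn F D f → img f V = V → Fn E D f by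
    intro α hα
    have := finite_of_le_base (normalizerIn_le : normalizerIn S P ≤ S)
    exact (mem_autGroup_iff_fn hPS.le).2 (hB _ P hc hP (Subgroup.card_le_of_le (le_normalizerIn hP.1))
      (Nat.lt_succ_self _) P _ le_rfl (le_normalizerIn hP.1) ((mem_autGroup_iff_fn hPS.le).1 hα) (img_autFn α))
  intro k
  induction k with
  | zero => exact fun V _ _ _ h => absurd h (Nat.not_lt_zero _)
  | succ k ih =>
  intro V hVc hVn hPT hVk D f hVD hDT hf hfV
  set T := normalizerIn S V with hTdef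
  obtain ⟨N, hNS⟩ := exists_normalizerSystem F hVn.1
  obtain ⟨G, _, ι, hG⟩ := exists_normalizer_model hS hF hVn hVc hNS
  have hTS : T ≤ S := normalizerIn_le
  have hfinT : Finite T := finite_of_le_base hTS
  have hTp : IsPGroup 2 T := hS.to_le hTS
  have hVT : V ≤ T := le_normalizerIn hVn.1
  have hNn := normalizerSystem_normal hNS hVn.1
  obtain ⟨pj, hpj, -⟩ := exists_model_proj (hQ := hNn) hG
  obtain ⟨hfin, hι, ⟨TG, hTG⟩, hce⟩ := id hG
  have hZV : Z₁ ≤ V := fun z hz => centralizer_le_of_centric hVc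
    (mem_centralizerIn.2 ⟨hZS hz, fun y hy => hZcomm z hz y (hVn.1 hy)⟩)
  have hZT : Z₁ ≤ zOm T := zOm_mono hTS fun z hz => centralizerIn_le_normalizerIn
    (mem_centralizerIn.2 ⟨hz.1, fun y hy => Subgroup.mem_centralizer_iff.1 hz.2 y (hVn.1 hy)⟩)
  set W₁ := wOf W T with hW₁
  have hW₁T : W₁ ≤ T := wOf_le T
  have hW₁S : W₁ ≤ S := hW₁T.trans hTS
  have hWG : wOf W (TG : Subgroup G) = (W₁.subgroupOf T).map ι := by
    let e : T ≃* (TG : Subgroup G) := (MonoidHom.ofInjective hι.1).trans (MulEquiv.subgroupCongr hTG.symm)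
    have hWe := hW2 ↥T ↥(TG : Subgroup G) hTp e
    rw [hW₁]
    unfold wOf
    rw [← hWe, Subgroup.subgroupOf, Subgroup.comap_map_eq_self_of_injective T.subtype_injective, Subgroup.map_map]
    rfl
  have hZW : Z₁ ≤ W₁ := by
    intro z hz
    have h := zOm_le T (hZT hz)
    exact ⟨⟨z, h.1⟩, hWZ ↥T hTp _ (Subgroup.mem_center_iff.2 fun y => Subtype.ext
      (Subgroup.mem_centralizer_iff.1 h.2 _ y.2))
      (Subtype.ext (zOm_pow (hZT hz))), rfl⟩
  have hfN : Fn N D f := (fn_normalizerSystem hNS).2 ⟨hDT, fun x hx => hf.map_normalizer hVD hfV hx (hDT hx).2,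
    f, by rwa [sup_eq_left.2 hVD], fun x _ => rfl, hfV⟩
  obtain ⟨φ, hφ, hφf⟩ := id hfN
  obtain ⟨g, hg⟩ := (hι.2 D hDT φ fun x => (N.le_of_mem hφ).2 x).1 hφ
  obtain ⟨c, hc', h, hh, rfl⟩ := hfac G TG hce (hfree V hVn hVc N hNS G ι hG) g
  set C := Subgroup.centralizer (zOm (TG : Subgroup G) : Set G) with hCdef
  set H := Subgroup.normalizer (wOf W (TG : Subgroup G) : Set G) with hHdef
  have hTC : (TG : Subgroup G) ≤ C := fun t ht => Subgroup.mem_centralizer_iff.2 fun z hz =>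
    (Subgroup.mem_centralizer_iff.1 (zOm_le _ hz).2 t ht).symm
  have hTH : (TG : Subgroup G) ≤ H := by
    intro t ht
    refine mem_normalizer_iff'.2 ⟨?_, ?_⟩ <;> rintro _ ⟨z, hz, rfl⟩
    · exact ⟨_, (hW2 ↥(TG : Subgroup G) ↥(TG : Subgroup G) TG.isPGroup' (MulAut.conj (⟨t, ht⟩ : (TG : Subgroup G)))).le
        ⟨z, hz, rfl⟩, rfl⟩
    · refine ⟨_, (hW2 ↥(TG : Subgroup G) ↥(TG : Subgroup G) TG.isPGroup'
        (MulAut.conj (⟨t, ht⟩⁻¹ : (TG : Subgroup G)))).le ⟨z, hz, rfl⟩, ?_⟩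
      show (t⁻¹ * z * t⁻¹⁻¹ : G) = t⁻¹ * z * t
      rw [inv_inv]
  -- move the middle group into the Sylow subgroup
  let Y : Subgroup G := ((D.subgroupOf T).map ι).map (MulAut.conj h).toMonoidHom
  have hYH : Y ≤ H := by
    rintro _ ⟨_, ⟨x, -, rfl⟩, rfl⟩
    exact H.mul_mem (H.mul_mem hh (hTH (hTG ▸ ⟨x, rfl⟩))) (H.inv_mem hh)
  have hYC : Y ≤ C := by
    rintro _ ⟨_, ⟨x, hx, rfl⟩, rfl⟩
    have h1 := hg ⟨x, hx⟩
    show h * ι x * h⁻¹ ∈ C
    rw [show h * ι x * h⁻¹ = c⁻¹ * ι ⟨φ ⟨x, hx⟩, (N.le_of_mem hφ).2 _⟩ * c by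
      rw [h1, mul_inv_rev]; group]
    exact C.mul_mem (C.mul_mem (C.inv_mem hc') (hTC (hTG ▸ ⟨_, rfl⟩))) hc'
  have hYp : IsPGroup 2 Y := ((hTp.to_subgroup _).map ι).map _
  obtain ⟨m, hmC, hmH, hmY⟩ : ∃ m ∈ C, m ∈ H ∧ ∀ y ∈ Y, m * y * m⁻¹ ∈ (TG : Subgroup G) := by
    let X := C ⊓ H
    let TX : Sylow 2 X := TG.subtype (le_inf hTC hTH)
    obtain ⟨R, hR⟩ := (hYp.comap_subtype (K := X)).exists_le_sylow
    obtain ⟨m, hm⟩ := MulAction.exists_smul_eq X R TX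
    refine ⟨m, m.2.1, m.2.2, fun y hy => ?_⟩
    have h1 : MulAut.conj m • (⟨y, hYC hy, hYH hy⟩ : X) ∈ (TX : Subgroup X) := by
      rw [← hm, Sylow.coe_subgroup_smul]
      exact Subgroup.smul_mem_pointwise_smul _ _ _ (hR hy)
    exact Subgroup.mem_subgroupOf.1 h1
  set c' := c * m⁻¹ with hc'def
  set h' := m * h with hh'def
  have hc'C : c' ∈ C := C.mul_mem hc' (C.inv_mem hmC)
  have hh'H : h' ∈ H := H.mul_mem hmH hh
  have hgeq : c * h = c' * h' := by rw [hc'def, hh'def]; group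
  -- the map induced by `h'` on `D₂ = D ⊔ W₁`
  let D₂ := D ⊔ W₁
  have hD₂T : D₂ ≤ T := sup_le hDT hW₁T
  have hconj : ∀ x : D₂, ∃ y : T, ι y = h' * ι ⟨x, hD₂T x.2⟩ * h'⁻¹ := by
    have h2 : D₂.subgroupOf T ≤ ((TG : Subgroup G).comap (MulAut.conj h').toMonoidHom).comap ι := by
      rw [Subgroup.subgroupOf_sup hDT hW₁T]
      refine sup_le (fun x hx => ?_) fun x hx => ?_
      · show h' * ι x * h'⁻¹ ∈ (TG : Subgroup G)
        have := hmY _ ⟨_, ⟨x, hx, rfl⟩, rfl⟩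
        rw [hh'def]
        simpa [mul_assoc] using this
      · show h' * ι x * h'⁻¹ ∈ (TG : Subgroup G)
        exact wOf_le _ ((Subgroup.mem_normalizer_iff.1 hh'H _).1 (hWG ▸ Subgroup.mem_map_of_mem ι hx))
    exact fun x => hTG.le (h2 (x := ⟨x, hD₂T x.2⟩) x.2)
  choose y hy using hconj
  let ψ : D₂ →* Ω := MonoidHom.mk' (fun x => (y x : Ω)) fun a b => by
    show ((y (a * b) : T) : Ω) = (y a : T) * (y b : T)
    rw [← Subgroup.coe_mul]
    refine congrArg Subtype.val (hι.1 ?_)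
    rw [map_mul, hy, hy, hy]
    show h' * ι (⟨a, hD₂T a.2⟩ * ⟨b, hD₂T b.2⟩) * h'⁻¹ = _
    rw [map_mul]
    group
  have hψ : ψ ∈ N.Hom D₂ := (hι.2 D₂ hD₂T ψ fun x => (y x).2).2 ⟨h', fun x => hy x⟩
  set f₂ := ofHom ψ with hf₂def
  have hf₂ : Fn F D₂ f₂ := (fn_ofHom hψ).of_subsystem (normalizerSystem_sub hNS)
  have hf₂y : ∀ (x : Ω) (hx : x ∈ D₂), f₂ x = (y ⟨x, hx⟩ : Ω) := fun x hx => ofHom_apply ψ hx
  have hf₂V : img f₂ V = V := by
    refine (hf₂.mono (hVD.trans le_sup_left)).img_eq_self fun x hx => ?_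
    rw [hf₂y x (Subgroup.mem_sup_left (hVD hx))]
    have h1 := hy ⟨x, Subgroup.mem_sup_left (hVD hx)⟩
    rw [hpj h' x hx, mul_inv_cancel_right] at h1
    rw [hι.1 h1]
    exact aFn_mem (pj h') hx
  have hf₂W : img f₂ W₁ = W₁ := by
    refine (hf₂.mono le_sup_right).img_eq_self fun x hx => ?_
    rw [hf₂y x (Subgroup.mem_sup_right hx)]
    have h1 : ι (y ⟨x, Subgroup.mem_sup_right hx⟩) ∈ wOf W (TG : Subgroup G) := by
      rw [hy]
      exact (Subgroup.mem_normalizer_iff.1 hh'H _).1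
        (hWG ▸ Subgroup.mem_map_of_mem ι (show (⟨x, hW₁T hx⟩ : T) ∈ W₁.subgroupOf T from hx))
    obtain ⟨w, hw, hwe⟩ := hWG ▸ h1
    exact hι.1 hwe ▸ hw
  -- the map induced by `c'`
  let D₁ := img f₂ D
  have hf₂D : Fn F D f₂ := hf₂.mono le_sup_left
  obtain ⟨f₂i, hf₂i, hf₂ie, hf₂ii⟩ := hf₂D.exists_inv
  have hf₂im : ∀ z ∈ D₁, f₂i z ∈ D := fun z hz => hf₂ii.le (mem_img_of_mem hz)
  have hk₁ : Fn F D₁ (f ∘ f₂i) := hf₂i.comp hf hf₂im
  have hVD₁ : V ≤ D₁ := hf₂V.ge.trans (img_mono hVD)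
  have hk₁Z : ∀ z ∈ Z₁, (f ∘ f₂i) z = z := by
    intro z hz
    obtain ⟨x, hx, hxz⟩ := hf₂D.mem_img.1 (hVD₁ (hZV hz))
    show f (f₂i z) = z
    rw [← hxz, hf₂ie x hx, ← hφf ⟨x, hx⟩, hxz]
    have h1 := hg ⟨x, hx⟩
    have h2 : ι ⟨z, hVT (hZV hz)⟩ = h' * ι ⟨x, hDT hx⟩ * h'⁻¹ := by
      rw [← hy ⟨x, Subgroup.mem_sup_left hx⟩]
      exact congrArg ι (Subtype.ext (hxz.symm.trans (hf₂y x _)))
    have h3 : c' * ι ⟨z, hVT (hZV hz)⟩ = ι ⟨z, hVT (hZV hz)⟩ * c' :=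
      (Subgroup.mem_centralizer_iff.1 hc'C _ (mem_zOm_map (B := (TG : Subgroup G)) ι hTG.symm (hZT hz)
        (hVT (hZV hz)))).symm
    refine congrArg Subtype.val (hι.1 (a₂ := ⟨z, hVT (hZV hz)⟩) (h1.trans ?_))
    rw [hgeq, mul_inv_rev]
    calc c' * h' * ι ⟨x, hDT hx⟩ * (h'⁻¹ * c'⁻¹) = c' * (h' * ι ⟨x, hDT hx⟩ * h'⁻¹) * c'⁻¹ := by group
      _ = _ := by rw [← h2, h3, mul_inv_cancel_right]
  have hk₁E : Fn E D₁ (f ∘ f₂i) := hC _ _ hk₁ ((hZV).trans hVD₁) hk₁Z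
  suffices hf₂E : Fn E D₂ f₂ by
    refine ((hf₂E.mono le_sup_left).comp hk₁E fun x hx => mem_img_of_mem hx).congr fun x hx => ?_
    show f (f₂i (f₂ x)) = f x
    rw [hf₂ie x hx]
  rcases eq_or_lt_of_le hTS with he | hlt
  · have e1 : W₁ = wOf W S := by rw [hW₁, he]
    exact hN _ _ hf₂ (e1.ge.trans le_sup_right) (by rw [← e1]; exact hf₂W)
  -- transport to a fully normalized conjugate of `W₁`
  have hbigT : T < normalizerIn S W₁ := by
    obtain ⟨s, hs, hsN, hsR⟩ := exists_mem_normalizer_not_mem hS le_rfl hlt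
    have hR_le : ∀ r ∈ normalizerIn S T, r ∈ normalizerIn S W₁ := fun r hr => by
      have hfr := fn_conj (F := F) hTS hr.1
      have h := map_wOf hW2 hS hfr
      rw [hfr.img_eq_self fun x hx => (mem_normalizer_iff'.1 hr.2).1 x hx] at h
      have := finite_of_le_base hW₁S
      exact ⟨hr.1, mem_normalizer_of_map_le fun x hx => h.le (mem_img_of_mem hx)⟩
    exact lt_of_le_of_ne (fun r hr => hR_le r ⟨hTS hr, Subgroup.le_normalizer hr⟩)
      fun e => hsR (e.ge (hR_le s hsN))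
  obtain ⟨W₂, hW₁₂, hW₂n⟩ := exists_fullyNormalized (F := F) hW₁S
  obtain ⟨hauto, hfcW⟩ := fullyNormalized_good hS hF hW₂n
  have hrW := fullyCentralized_receptive hS hF hfcW
  obtain ⟨c₀, hc₀, hc₀n, hc₀i⟩ := exists_normalizer_map hS hauto hrW hW₁₂
  have hfinN₁ := finite_of_le_base (normalizerIn_le : normalizerIn S W₁ ≤ S)
  have hcard1 : Nat.card T < Nat.card (normalizerIn S W₁) := card_lt_of_lt' hbigT
  have hc₀E : Fn E (normalizerIn S W₁) c₀ := hbig _ _ (hPT.trans_lt hcard1) hc₀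
  have hc2 : Nat.card (normalizerIn S W₁) ≤ Nat.card (normalizerIn S W₂) :=
    card_le_of_map_le normalizerIn_le hc₀ hc₀n
  have hD₂N : D₂ ≤ normalizerIn S W₁ := hD₂T.trans hbigT.le
  have hf₂N : ∀ x ∈ D₂, f₂ x ∈ normalizerIn S W₁ := fun x hx => hbigT.le (by
    rw [hf₂y x hx]; exact (y ⟨x, hx⟩).2)
  obtain ⟨d₀, hd₀, hd₀c, hd₀i⟩ := (hc₀.mono hD₂N).exists_inv
  set D' := img c₀ D₂ with hD'
  have hd₀m : ∀ z ∈ D', d₀ z ∈ D₂ := fun z hz => hd₀i.le (mem_img_of_mem hz)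
  set f' := c₀ ∘ f₂ ∘ d₀ with hf'def
  have hf' : Fn F D' f' := (hd₀.comp hf₂ hd₀m).comp hc₀ fun z hz => hf₂N _ (hd₀m z hz)
  have hf'c : ∀ x ∈ D₂, f' (c₀ x) = c₀ (f₂ x) := fun x hx => by
    show c₀ (f₂ (d₀ (c₀ x))) = _
    rw [hd₀c x hx]
  suffices hf'E : Fn E D' f' by
    obtain ⟨e₀, he₀, he₀c, -⟩ := hc₀E.exists_inv
    refine (((hc₀E.mono hD₂N).comp hf'E fun x hx => mem_img_of_mem hx).comp he₀ fun x hx => ?_).congr fun x hx => ?_
    · show f' (c₀ x) ∈ _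
      rw [hf'c x hx]
      exact mem_img_of_mem (hf₂N x hx)
    · show e₀ (f' (c₀ x)) = f₂ x
      rw [hf'c x hx, he₀c _ (hf₂N x hx)]
  have hW₂D' : W₂ ≤ D' := hc₀i.ge.trans (img_mono le_sup_right)
  have hD'N : D' ≤ normalizerIn S W₂ := img_le fun x hx => hc₀n x (hD₂N hx)
  have hf'W : img f' W₂ = W₂ := by
    refine (hf'.mono hW₂D').img_eq_self fun z hz => ?_
    obtain ⟨x, hx, rfl⟩ := (hc₀.mono (le_normalizerIn hW₁S)).mem_img.1 (hc₀i.ge hz)
    rw [hf'c x (Subgroup.mem_sup_right hx)]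
    exact hc₀i.le (mem_img_of_mem (hf₂W.le (mem_img_of_mem hx)))
  obtain ⟨M, b, hb, hWM, hM, hbe⟩ := receptive_extend hrW (hf'.mono hW₂D') hf'W
  have hCW : centralizerIn S W₂ ≤ M := fun z hz => (hM z).2 (inExt_of_commute hz)
  have hD'M : D' ≤ M := fun z hz => (hM z).2 ⟨hf'.le hz, (hD'N hz).2, f' z, hf'.mem hz,
    fun x hx => hf'.map_conj hz (hW₂D' hx)⟩
  have hMN : M ≤ normalizerIn S W₂ := fun z hz => ⟨((hM z).1 hz).1, ((hM z).1 hz).2.1⟩
  have hbW : img b W₂ = W₂ := (img_congr hbe).trans hf'W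
  have hbN : ∀ x ∈ M, b x ∈ normalizerIn S W₂ := fun x hx => hb.map_normalizer hWM hbW hx (hMN hx).2
  have hbC : img b (centralizerIn S W₂) = centralizerIn S W₂ :=
    (hb.mono hCW).img_eq_self fun x hx => hb.map_centralizer hWM hbW (hCW hx) hx
  -- `V' = W₂ C_S(W₂)` is centric
  set V' := W₂ ⊔ centralizerIn S W₂ with hV'
  have hV'S : V' ≤ S := sup_le hW₂n.1 centralizerIn_le
  have hV'c : F.IsCentric V' := by
    refine ⟨hV'S, fun Q hQ => ?_⟩
    obtain ⟨χ, hχ, rfl⟩ := isConj_iff.1 hQ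
    have hle : img χ (centralizerIn S W₂) ≤ centralizerIn S (img χ W₂) := img_le fun x hx =>
      hχ.map_centralizer le_sup_left rfl (Subgroup.mem_sup_right hx) hx
    have heq : img χ (centralizerIn S W₂) = centralizerIn S (img χ W₂) :=
      eq_of_le_of_card centralizerIn_le hle (by
        rw [(hχ.mono le_sup_right).card_img]
        exact hfcW.2 _ (isConj_of_fn (hχ.mono le_sup_left)))
    intro z hz
    have hz' : z ∈ centralizerIn S (img χ W₂) := mem_centralizerIn.2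
      ⟨(mem_centralizerIn.1 hz).1, fun w hw => (mem_centralizerIn.1 hz).2 w (img_mono le_sup_left hw)⟩
    exact img_mono le_sup_right (heq.ge hz')
  have hNN : normalizerIn S W₂ ≤ normalizerIn S V' := by
    intro z hz
    have hzS := hz.1
    suffices hzC : z ∈ Subgroup.normalizer (centralizerIn S W₂ : Set Ω) by
      refine ⟨hzS, Subgroup.mem_normalizer_iff_map_conj_eq.2 ?_⟩
      rw [hV', Subgroup.map_sup, Subgroup.mem_normalizer_iff_map_conj_eq.1 hz.2,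
        Subgroup.mem_normalizer_iff_map_conj_eq.1 hzC]
    have hcz : centralizerIn S W₂ = S ⊓ Subgroup.centralizer (W₂ : Set Ω) := rfl
    rw [hcz]
    exact Subgroup.inf_normalizer_le_normalizer_inf
      ⟨Subgroup.le_normalizer hzS, mem_normalizer_iff'.2 ⟨fun y hy => Subgroup.mem_centralizer_iff.2 fun w hw => by
        have h := Subgroup.mem_centralizer_iff.1 hy (z⁻¹ * w * z) ((mem_normalizer_iff'.1 hz.2).2 w hw)
        calc w * (z * y * z⁻¹) = z * (z⁻¹ * w * z * y) * z⁻¹ := by group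
          _ = _ := by rw [h]; group,
        fun y hy => Subgroup.mem_centralizer_iff.2 fun w hw => by
        have h := Subgroup.mem_centralizer_iff.1 hy (z * w * z⁻¹) ((mem_normalizer_iff'.1 hz.2).1 w hw)
        calc w * (z⁻¹ * y * z) = z⁻¹ * (z * w * z⁻¹ * y) * z := by group
          _ = _ := by rw [h]; group⟩⟩
  obtain ⟨V'', hV'', hV''n⟩ := exists_fullyNormalized (F := F) hV'S
  obtain ⟨hauto', hfc'⟩ := fullyNormalized_good hS hF hV''n
  obtain ⟨e, he, hen, hei⟩ := exists_normalizer_map hS hauto' (fullyCentralized_receptive hS hF hfc') hV''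
  have hfinN' := finite_of_le_base (normalizerIn_le : normalizerIn S V' ≤ S)
  have hcN' : Nat.card T < Nat.card (normalizerIn S V') :=
    hcard1.trans_le (hc2.trans (Subgroup.card_le_of_le hNN))
  have heE : Fn E (normalizerIn S V') e := hbig _ _ (hPT.trans_lt hcN') he
  have hc3 : Nat.card (normalizerIn S V') ≤ Nat.card (normalizerIn S V'') := card_le_of_map_le normalizerIn_le he hen
  have hle3 : Nat.card (normalizerIn S V'') ≤ Nat.card S := Subgroup.card_le_of_le normalizerIn_le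
  have hV''c : F.IsCentric V'' := ⟨hV''n.1, fun Q hQ => hV'c.2 Q (isConj_trans hV'' hQ)⟩
  have hbV' : img b V' = V' := by
    rw [hV', (hb.mono (sup_le hWM hCW)).img_sup, hbW, hbC]
  have hMV' : M ≤ normalizerIn S V' := hMN.trans hNN
  have hbE : Fn E M b := by
    obtain ⟨ei, hei', heie, heii⟩ := (he.mono hMV').exists_inv
    have hm1 : ∀ z ∈ img e M, ei z ∈ M := fun z hz => heii.le (mem_img_of_mem hz)
    have hb'' : Fn F (img e M) (e ∘ b ∘ ei) :=
      (hei'.comp hb hm1).comp he fun z hz => hNN (hbN _ (hm1 z hz))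
    have hV''M : V'' ≤ img e M := hei.ge.trans (img_mono (sup_le hWM hCW))
    have himg : img (e ∘ b ∘ ei) V'' = V'' := by
      refine (hb''.mono hV''M).img_eq_self fun z hz => ?_
      obtain ⟨x, hx, rfl⟩ := (he.mono (le_normalizerIn hV'S)).mem_img.1 (hei.ge hz)
      show e (b (ei (e x))) ∈ V''
      rw [heie x ((sup_le hWM hCW) hx)]
      exact hei.le (mem_img_of_mem (hbV'.le (mem_img_of_mem hx)))
    have hb''E := ih V'' hV''c hV''n (hPT.trans (hcN'.le.trans hc3)) (by omega) _ _ hV''M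
      (img_le fun x hx => hen x (hMV' hx)) hb'' himg
    obtain ⟨eb, heb, hebe, -⟩ := heE.exists_inv
    refine (((heE.mono hMV').comp hb''E fun x hx => mem_img_of_mem hx).comp heb fun x hx => ?_).congr fun x hx => ?_
    · show e (b (ei (e x))) ∈ _
      rw [heie x hx]
      exact mem_img_of_mem (hNN (hbN x hx))
    · show eb (e (b (ei (e x)))) = b x
      rw [heie x hx, hebe _ (hNN (hbN x hx))]
  -- the remaining factor centralizes `W₂`
  obtain ⟨bi, hbi, hbib, hbii⟩ := hb.exists_inv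
  have hf'bM : img f' D' ≤ img b M := img_le fun x hx => by
    have hbx : b x ∈ img b M := mem_img_of_mem (hD'M hx)
    have hcen : (b x)⁻¹ * f' x ∈ centralizerIn S W₂ := mem_centralizerIn.2
      ⟨S.mul_mem (S.inv_mem (hb.mem (hD'M hx))) (hf'.mem hx), fun w hw => by
        obtain ⟨v, hv, hve⟩ := (hb.mono hWM).mem_img.1 (hbW.ge hw)
        have h1 : b x * w * (b x)⁻¹ = f' x * w * (f' x)⁻¹ := by
          rw [← hve, ← hb.map_conj (hD'M hx) (hWM hv), hbe v hv, ← hf'.map_conj hx (hW₂D' hv),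
            hbe _ ((mem_normalizer_iff'.1 (hD'N hx).2).1 v hv)]
        calc w * ((b x)⁻¹ * f' x) = (b x)⁻¹ * (b x * w * (b x)⁻¹) * f' x := by group
          _ = _ := by rw [h1]; group⟩
    have h2 : (b x)⁻¹ * f' x ∈ img b M := img_mono hCW (hbC.ge hcen)
    simpa using (img b M).mul_mem hbx h2
  set kf := bi ∘ f' with hkf
  have hk : Fn F D' kf := hf'.comp hbi fun x hx => hf'bM (mem_img_of_mem hx)
  have hkW : ∀ w ∈ W₂, kf w = w := fun w hw => by
    show bi (f' w) = w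
    rw [← hbe w hw, hbib w (hWM hw)]
  suffices hkE : Fn E D' kf by
    refine (hkE.comp hbE fun x hx => hbii.le (mem_img_of_mem (hf'bM (mem_img_of_mem hx)))).congr fun x hx => ?_
    show b (bi (f' x)) = f' x
    obtain ⟨v, hv, hve⟩ := hb.mem_img.1 (hf'bM (mem_img_of_mem hx))
    rw [← hve, hbib v hv]
  -- bring `Z₂ = c₀(Z₁)` back to the centre
  have hZN₁ : Z₁ ≤ normalizerIn S W₁ := (hZW).trans (le_normalizerIn hW₁S)
  have hcZ := hc₀.mono hZN₁
  obtain ⟨zi, hzi, hzie, hzii⟩ := hcZ.exists_inv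
  have hZn : F.IsFullyNormalized Z₁ := ⟨hZS, fun Q _ => by
    rw [show normalizerIn S Z₁ = S from inf_eq_left.2 fun s hs => mem_normalizer_iff'.2
      ⟨fun z hz => by rwa [hZcomm z hz s hs, mul_inv_cancel_right],
       fun z hz => by rwa [mul_assoc, ← hZcomm z hz s hs, inv_mul_cancel_left]⟩]
    exact Subgroup.card_le_of_le normalizerIn_le⟩
  obtain ⟨M₂, d, hd, hZ₂M, hM₂, hde⟩ := receptive_extend (fullyNormalized_receptive hS hF hZn) hzi hzii
  set Z₂ := img c₀ Z₁ with hZ₂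
  have hCZ : centralizerIn S Z₂ ≤ M₂ := fun z hz => (hM₂ z).2 (inExt_of_commute hz)
  have hN₁C : img c₀ (normalizerIn S W₁) ≤ centralizerIn S Z₂ := img_le fun x hx => by
    refine mem_centralizerIn.2 ⟨hc₀.mem hx, fun w hw => ?_⟩
    obtain ⟨z, hz, rfl⟩ := hcZ.mem_img.1 hw
    rw [← hc₀.map_mul (hZN₁ hz) hx, ← hc₀.map_mul hx (hZN₁ hz), hZcomm z hz x (hx.1)]
  have hdcard : Nat.card P < Nat.card M₂ := by
    have := finite_of_le_base hd.le
    refine hPT.trans_lt (hcard1.trans_le ?_)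
    rw [← hc₀.card_img]
    exact Subgroup.card_le_of_le (hN₁C.trans hCZ)
  have hdE : Fn E M₂ d := hbig _ _ hdcard hd
  have hZ₂W : Z₂ ≤ W₂ := (img_mono hZW).trans hc₀i.le
  have hD'M₂ : D' ≤ M₂ := (img_mono hD₂N).trans (hN₁C.trans hCZ)
  have hkM₂ : ∀ x ∈ D', kf x ∈ M₂ := fun x hx => hCZ (mem_centralizerIn.2 ⟨hk.mem hx, fun w hw => by
    have hwD : w ∈ D' := hW₂D' (hZ₂W hw)
    have hwc := (mem_centralizerIn.1 ((img_mono hD₂N).trans hN₁C hx)).2 w hw
    have h1 := hk.map_mul hwD hx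
    have h2 := hk.map_mul hx hwD
    rw [hwc, h2, hkW w (hZ₂W hw)] at h1
    exact h1.symm⟩)
  obtain ⟨di, hdi, hdie, hdii⟩ := (hd.mono hD'M₂).exists_inv
  have hm3 : ∀ z ∈ img d D', di z ∈ D' := fun z hz => hdii.le (mem_img_of_mem hz)
  have hk' : Fn F (img d D') (d ∘ kf ∘ di) := (hdi.comp hk hm3).comp hd fun z hz => hkM₂ _ (hm3 z hz)
  have hdZ : ∀ z ∈ Z₁, d (c₀ z) = z := fun z hz => by rw [hde _ (mem_img_of_mem hz), hzie z hz]
  have hk'E : Fn E (img d D') (d ∘ kf ∘ di) := by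
    refine hC _ _ hk' (fun z hz => hdZ z hz ▸ mem_img_of_mem (hW₂D' (hZ₂W (mem_img_of_mem hz)))) fun z hz => ?_
    show d (kf (di z)) = z
    conv_lhs => rw [← hdZ z hz]
    rw [hdie _ (hW₂D' (hZ₂W (mem_img_of_mem hz))), hkW _ (hZ₂W (mem_img_of_mem hz)), hdZ z hz]
  obtain ⟨db, hdb, hdbe, -⟩ := hdE.exists_inv
  refine (((hdE.mono hD'M₂).comp hk'E fun x hx => mem_img_of_mem hx).comp hdb fun x hx => ?_).congr fun x hx => ?_
  · show d (kf (di (d x))) ∈ _
    rw [hdie x hx]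
    exact mem_img_of_mem (hkM₂ x hx)
  · show db (d (kf (di (d x)))) = kf x
    rw [hdie x hx, hdbe _ (hkM₂ x hx)]

theorem wOf_jFunctor {G : Type u} [Group G] (A : Subgroup G) :
    wOf (fun Q _ => CfsgLib.Fusion.SFreeFF.jFunctor 2 Q) A = Cfsg.thompsonSubgroupOf 2 A := rfl

/-- The generation theorem. -/
theorem le_of_center_thompson (hS : IsPGroup 2 S) (hF : F.IsSaturated 2)
    (hfree : F.IsSectionFree 2 (Equiv.Perm (Fin 4))) (E : FusionSystem S)
    (hC : ∀ (P : Subgroup Ω) (f : Ω → Ω), Fn F P f → zOm S ≤ P → (∀ z ∈ zOm S, f z = z) → Fn E P f)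
    (hN : ∀ (P : Subgroup Ω) (f : Ω → Ω), Fn F P f → Cfsg.thompsonSubgroupOf 2 S ≤ P →
      img f (Cfsg.thompsonSubgroupOf 2 S) = Cfsg.thompsonSubgroupOf 2 S → Fn E P f) : F ≤ E := by
  haveI : Fact (Nat.Prime 2) := ⟨Nat.prime_two⟩
  refine le_of_omega_factor (W := fun Q _ => CfsgLib.Fusion.SFreeFF.jFunctor 2 Q)
    (fun Q R _ _ _ _ φ => CfsgLib.Fusion.Thompson.map_thompson_equiv φ) (fun Q _ _ _ x hx hx2 => ?_)
    (fun L _ _ T hc h4 g => ?_) hS hF hfree E hC hN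
  · obtain ⟨A, hA⟩ := CfsgLib.Fusion.Thompson.exists_maxEA (p := 2) (G := Q)
    exact (le_sSup hA : A ≤ Cfsg.thompsonSubgroup 2 Q) (CfsgLib.Fusion.Thompson.mem_of_pow_eq_one_of_centralizes hA
      (Subgroup.mem_centralizer_iff.mpr fun a _ => Subgroup.mem_center_iff.mp hx a) hx2)
  · obtain ⟨a, ha, b, hb, e⟩ := CfsgLib.Fusion.SFreeFF.factorisation h4 hc T g
    exact ⟨a, Subgroup.centralizer_le (SetLike.coe_subset_coe.mpr (zOm_le (T : Subgroup L))) ha, b, hb, e⟩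

end CfsgLib.SFreeW
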