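import Cfsg.Agent.Lib.FusionSystem.SectionFree
import Cfsg.Agent.Lib.FusionSystem.SubnormalConstrained
import Cfsg.Agent.Lib.FusionSystem.LocalModels
import Cfsg.Agent.Lib.FusionSystem.Realized
import Cfsg.Agent.Lib.Fusion.SFreeFF.Setup
import Cfsg.Agent.Lib.LocalEvenB.CharP

/-!
The models of the normaliser systems in a system of characteristic 2-type without a section `S₄`, and the isomorphism
between the normalisers of two subgroups in each other's models.
-/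

set_option autoImplicit false
set_option linter.unusedSectionVars false
set_option linter.style.haveILetI false

namespace CfsgLib.SFreeW

open Cfsg
open CfsgLib.Fsys
open CfsgLib.Fusion.SFreeFF (SylIn mem_normalizer_iff_cj cj)
open Cfsg.FusionSystem (centralizerIn normalizerIn imageAlong preimageAlong)

universe u

/-! ### Systems pulled back from a group -/

/-- The system pulled back along an injective map. -/
def pullSystem {Ω : Type u} [Group Ω] {T : Subgroup Ω} {G : Type u} [Group G] (ι : T →* G)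
    (hι : Function.Injective ι) : FusionSystem T where
  Hom P := {φ | ∃ hP : P ≤ T, ∃ hv : ∀ x : P, φ x ∈ T, ∃ g : G, ∀ x : P, ι ⟨φ x, hv x⟩ = g * ι ⟨x, hP x.2⟩ * g⁻¹}
  le_of_mem := fun ⟨hP, hv, _⟩ => ⟨hP, hv⟩
  injective_of_mem := by
    rintro P φ ⟨hP, hv, g, hg⟩ a b hab
    have h := hg a
    rw [show (⟨φ a, hv a⟩ : T) = ⟨φ b, hv b⟩ from Subtype.ext hab, hg b] at h
    exact Subtype.ext (congrArg Subtype.val (hι (mul_left_cancel (mul_right_cancel h)))).symm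
  conj_mem := by
    intro P g hP hg
    refine ⟨hP, fun x => T.mul_mem (T.mul_mem hg (hP x.2)) (T.inv_mem hg), ι ⟨g, hg⟩, fun x => ?_⟩
    rw [← map_inv, ← map_mul, ← map_mul]
    rfl
  comp_mem := by
    rintro P Q φ ψ ⟨hP, hφT, g, hg⟩ ⟨hQ, hψT, k, hk⟩ h
    refine ⟨hP, fun x => hψT _, k * g, fun x => ?_⟩
    refine (hk (φ.codRestrict Q h x)).trans ?_
    show k * ι ⟨φ x, _⟩ * k⁻¹ = _
    rw [hg]
    group
  inv_mem := by
    rintro P φ ⟨hP, hφT, g, hg⟩
    have hinj : Function.Injective φ := fun a b hab => by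
      have h := hg a
      rw [show (⟨φ a, hφT a⟩ : T) = ⟨φ b, hφT b⟩ from Subtype.ext hab, hg b] at h
      exact Subtype.ext (congrArg Subtype.val (hι (mul_left_cancel (mul_right_cancel h)))).symm
    let e : P ≃* φ.range := MonoidHom.ofInjective hinj
    have hle : φ.range ≤ T := by rintro _ ⟨x, rfl⟩; exact hφT x
    refine ⟨P.subtype.comp e.symm.toMonoidHom, ⟨hle, fun y => hP (e.symm y).2, g⁻¹, fun y => ?_⟩, fun x => ?_⟩
    · obtain ⟨x, rfl⟩ := e.surjective y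
      show ι ⟨((e.symm (e x) : P) : Ω), _⟩ = g⁻¹ * ι ⟨φ x, _⟩ * g⁻¹⁻¹
      rw [hg]
      simp only [MulEquiv.symm_apply_apply]
      group
    · show ((e.symm ⟨φ x, _⟩ : P) : Ω) = x
      exact congrArg Subtype.val (e.symm_apply_apply x)

variable {Ω : Type u} [Group Ω] {S : Subgroup Ω} {F : FusionSystem S}

/-! ### The local models -/

/-- `ι` is a model of the normaliser system of `A` over `T`, without a section `S₄`. -/
structure Loc (F : FusionSystem S) (A T : Subgroup Ω) {G : Type u} [Group G] (ι : T →* G) : Prop where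
  A_le : A ≤ T
  le_S : T ≤ S
  inj : Function.Injective ι
  syl : SylIn ι.range ⊤
  charP : Subgroup.centralizer (pCore 2 G : Set G) ≤ pCore 2 G
  noS4 : ¬ Involves (Equiv.Perm (Fin 4)) G
  norm : ∀ g : G, ∀ x ∈ A, ∃ y ∈ A, g * th ι x * g⁻¹ = th ι y
  fwd : ∀ {D : Subgroup Ω} {f : Ω → Ω}, D ≤ T → A ≤ D → Fn F D f → img f A = A →
    ∃ g, ∀ x ∈ D, f x ∈ T ∧ th ι (f x) = g * th ι x * g⁻¹
  back : ∀ (g : G) {D : Subgroup Ω}, D ≤ T → (∀ x ∈ D, g * th ι x * g⁻¹ ∈ ι.range) →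
    ∃ f, Fn F (D ⊔ A) f ∧ img f A = A ∧ ∀ x ∈ D ⊔ A, f x ∈ T ∧ th ι (f x) = g * th ι x * g⁻¹

variable [Finite S]

/-- Models exist. -/
theorem exists_loc (hS : IsPGroup 2 S) (hF : F.IsSaturated 2) (hfree : F.IsSectionFree 2 (Equiv.Perm (Fin 4)))
    (hloc : F.IsOfCharacteristicPType 2) {A T : Subgroup Ω} (hne : A ≠ ⊥) (hA : F.IsFullyNormalized A)
    (hT : normalizerIn S A = T) : ∃ (G : Type u) (_ : Group G) (_ : Finite G) (ι : T →* G), Loc F A T ι := by
  haveI : Fact (Nat.Prime 2) := ⟨Nat.prime_two⟩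
  subst hT
  obtain ⟨N, hN⟩ := exists_normalizerSystem F hA.1
  haveI := normalizerSystem_finite (S := S) (Q := A)
  have hc := hloc A hne hA N hN
  obtain ⟨G, _, ι, hG⟩ := exists_model (hS.to_le normalizerIn_le) hc
  obtain ⟨hfin, hι, ⟨TG, hTG⟩, hce⟩ := id hG
  haveI := hfin
  have hAT : A ≤ normalizerIn S A := le_normalizerIn hA.1
  have hAn := normalizerSystem_normal hN hA.1
  obtain ⟨pj, hpj, -⟩ := exists_model_proj (hQ := hAn) hG
  have hnorm : ∀ g : G, ∀ x ∈ A, ∃ y ∈ A, g * th ι x * g⁻¹ = th ι y := fun g x hx => by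
    refine ⟨aFn (pj g) x, aFn_mem _ hx, ?_⟩
    rw [th_apply (hAT hx), th_apply (hAT (aFn_mem _ hx)), hpj g x hx, mul_inv_cancel_right]
  refine ⟨G, inferInstance, hfin, ι, hAT, normalizerIn_le, hι.1, ?_, hce, ?_, hnorm, ?_, ?_⟩
  · rw [← hTG]
    exact ⟨le_top, TG.isPGroup', fun U _ hU h => TG.is_maximal' hU h⟩
  · exact not_involves_of_model (hS.to_le normalizerIn_le) (normalizerSystem_saturated hS hF hA hN)
      (normalizer_sectionFree hS hF hfree hA hN) (core_centric hc) (fun _ => subset_rfl) core_normal hG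
  · intro D f hD hAD hf hi
    obtain ⟨φ, hφ, hφf⟩ := (fn_normalizerSystem hN).2 ⟨hD,
      fun x hx => hf.map_normalizer hAD hi hx (hD hx).2, f, by rwa [sup_eq_left.2 hAD], fun x _ => rfl, hi⟩
    obtain ⟨g, hg⟩ := (hι.2 D hD φ fun x => (N.le_of_mem hφ).2 x).1 hφ
    refine ⟨g, fun x hx => ?_⟩
    have h1 : f x ∈ normalizerIn S A := by
      have h := (N.le_of_mem hφ).2 ⟨x, hx⟩
      rwa [hφf] at h
    refine ⟨h1, ?_⟩
    rw [th_apply h1, th_apply (hD hx), ← hg ⟨x, hx⟩]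
    exact congrArg ι (Subtype.ext (hφf ⟨x, hx⟩).symm)
  · intro g D hD hg
    have hle : D ⊔ A ≤ normalizerIn S A := sup_le hD hAT
    let K : Subgroup (normalizerIn S A) := (ι.range.comap (MulAut.conj g).toMonoidHom).comap ι
    have hK : D ⊔ A ≤ K.map (normalizerIn S A).subtype := by
      refine sup_le (fun x hx => ⟨⟨x, hD hx⟩, ?_, rfl⟩) fun x hx => ⟨⟨x, hAT hx⟩, ?_, rfl⟩
      · show g * ι _ * g⁻¹ ∈ ι.range
        simpa [th_apply (hD hx)] using hg x hx
      · obtain ⟨y, hy, e⟩ := hnorm g x hx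
        show g * ι _ * g⁻¹ ∈ ι.range
        rw [th_apply (hAT hx)] at e
        rw [e]
        exact th_mem_range (hAT hy)
    have hex : ∀ x : ↥(D ⊔ A), ∃ y : normalizerIn S A, ι y = g * ι ⟨x, hle x.2⟩ * g⁻¹ := fun x => by
      obtain ⟨⟨z, hz'⟩, hz, e⟩ := hK x.2
      obtain ⟨y, hy⟩ := hz
      refine ⟨y, hy.trans ?_⟩
      show g * ι ⟨z, hz'⟩ * g⁻¹ = _
      congr 3
      exact Subtype.ext e
    choose y hy using hex
    let φ : ↥(D ⊔ A) →* Ω := MonoidHom.mk' (fun x => (y x : Ω)) fun a b => congrArg Subtype.val <|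
      show y (a * b) = y a * y b from hι.1 <| by
        rw [map_mul, hy, hy, hy, show (⟨((a * b : ↥(D ⊔ A)) : Ω), hle (a * b).2⟩ : normalizerIn S A) =
          ⟨(a : Ω), hle a.2⟩ * ⟨(b : Ω), hle b.2⟩ from rfl, map_mul]
        group
    have hφ : φ ∈ N.Hom (D ⊔ A) := (hι.2 _ hle φ fun x => (y x).2).2 ⟨g, fun x => hy x⟩
    have hval : ∀ x (hx : x ∈ D ⊔ A), ofHom φ x ∈ normalizerIn S A ∧ th ι (ofHom φ x) = g * th ι x * g⁻¹ := fun x hx => by
      rw [ofHom_apply φ hx]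
      refine ⟨(y ⟨x, hx⟩).2, ?_⟩
      show th ι (y ⟨x, hx⟩ : Ω) = _
      rw [th_coe, hy, th_apply (hle hx)]
    refine ⟨ofHom φ, (fn_ofHom hφ).of_subsystem (normalizerSystem_sub hN), ?_, hval⟩
    refine ((fn_ofHom hφ).mono le_sup_right).img_eq_self fun x hx => ?_
    obtain ⟨z, hz, e⟩ := hnorm g x hx
    rw [← (hval x (Subgroup.mem_sup_right hx)).2] at e
    exact th_injOn hι.1 (hval x (Subgroup.mem_sup_right hx)).1 (hAT hz) e ▸ hz

namespace Loc

variable {A T : Subgroup Ω} {G : Type u} [Group G] {ι : T →* G} (a : Loc F A T ι)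
include a

theorem th_mem {x : Ω} (hx : x ∈ T) : th ι x ∈ ι.range := th_mem_range hx

theorem th_inj {x y : Ω} (hx : x ∈ T) (hy : y ∈ T) (h : th ι x = th ι y) : x = y := th_injOn a.inj hx hy h

theorem mem_image {B : Subgroup Ω} (hB : B ≤ T) {g : G} :
    g ∈ imageAlong ι B ↔ ∃ x ∈ B, th ι x = g := by
  rw [mem_imageAlong]
  exact ⟨fun ⟨x, hx, _, h⟩ => ⟨x, hx, h⟩, fun ⟨x, hx, h⟩ => ⟨x, hx, hB hx, h⟩⟩

theorem th_mem_image {B : Subgroup Ω} (hB : B ≤ T) {x : Ω} (hx : x ∈ T) : th ι x ∈ imageAlong ι B ↔ x ∈ B := by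
  rw [a.mem_image hB]
  exact ⟨fun ⟨y, hy, h⟩ => a.th_inj (hB hy) hx h ▸ hy, fun h => ⟨x, h, rfl⟩⟩

variable [Finite G]

theorem mem_norm_image {B : Subgroup Ω} (hB : B ≤ T) {g : G} :
    g ∈ Subgroup.normalizer (imageAlong ι B : Set G) ↔ ∀ x ∈ B, ∃ y ∈ B, g * th ι x * g⁻¹ = th ι y := by
  rw [mem_normalizer_iff_cj]
  constructor
  · intro h x hx
    have h1 : g * th ι x * g⁻¹ ∈ cj (imageAlong ι B) g :=
      CfsgLib.Fusion.SFreeFF.conj_mem_cj ((a.th_mem_image hB (hB hx)).mpr hx)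
    rw [h, a.mem_image hB] at h1
    obtain ⟨y, hy, e⟩ := h1
    exact ⟨y, hy, e.symm⟩
  · intro h
    refine Subgroup.eq_of_le_of_card_ge ?_ (CfsgLib.Fusion.SFreeFF.card_cj _ _).ge
    rintro _ ⟨_, hz, rfl⟩
    obtain ⟨x, hx, rfl⟩ := (a.mem_image hB).mp hz
    obtain ⟨y, hy, e⟩ := h x hx
    show g * th ι x * g⁻¹ ∈ _
    rw [e]
    exact (a.th_mem_image hB (hB hy)).mpr hy

theorem image_normal : (imageAlong ι A).Normal :=
  ⟨fun n hn g => (Subgroup.mem_normalizer_iff.mp ((a.mem_norm_image a.A_le).mpr (a.norm g)) n).mp hn⟩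

theorem range_le_norm {B : Subgroup Ω} (hB : B ≤ T) (hBn : T ≤ Subgroup.normalizer (B : Set Ω)) :
    ι.range ≤ Subgroup.normalizer (imageAlong ι B : Set G) := by
  rintro _ ⟨t, rfl⟩
  refine (a.mem_norm_image hB).mpr fun x hx => ⟨(t : Ω) * x * (t : Ω)⁻¹,
    (mem_normalizer_iff'.1 (hBn t.2)).1 x hx, ?_⟩
  rw [th_conj t.2 (hB hx), th_coe]

/-- The normalisers in a model have characteristic two. -/
theorem charP_norm {B : Subgroup Ω} (hT : IsPGroup 2 T) :
    Subgroup.centralizer (pCore 2 ↥(Subgroup.normalizer (imageAlong ι B : Set G)) : Set _) ≤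
      pCore 2 ↥(Subgroup.normalizer (imageAlong ι B : Set G)) := by
  haveI : Fact (Nat.Prime 2) := ⟨Nat.prime_two⟩
  refine CfsgLib.LocalEvenB.CharP.charP_local (M := ⊤) (B := imageAlong ι B) ((hT.to_subgroup _).map ι) le_top ?_
    le_top (Subgroup.centralizer_le_normalizer _) le_rfl (Or.inr Subgroup.le_normalizer)
  intro x hx
  have h1 : (x : G) ∈ Subgroup.centralizer (pCore 2 G : Set G) := by
    refine Subgroup.mem_centralizer_iff.mpr fun q hq => ?_
    have hq' : (⟨q, trivial⟩ : (⊤ : Subgroup G)) ∈ pCore 2 (⊤ : Subgroup G) := by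
      haveI := CfsgLib.Solvable.Cores.pCore_normal (G := G) 2
      exact CfsgLib.Solvable.Cores.le_pCore (N := (pCore 2 G).subgroupOf ⊤)
        ((CfsgLib.Solvable.Cores.isPGroup_pCore 2).comap_subtype) hq
    exact congrArg Subtype.val (Subgroup.mem_centralizer_iff.mp hx _ hq')
  have h2 := a.charP h1
  haveI := CfsgLib.Solvable.Cores.pCore_normal (G := G) 2
  exact CfsgLib.Solvable.Cores.le_pCore (N := (pCore 2 G).subgroupOf ⊤)
    ((CfsgLib.Solvable.Cores.isPGroup_pCore 2).comap_subtype) h2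

variable {B Tb : Subgroup Ω} {H : Type u} [Group H] [Finite H] {κ : Tb →* H} (b : Loc F B Tb κ)
include b

/-- An element of one model normalising the other subgroup acts as an element of the other model. -/
theorem transfer (hB : B ≤ T) (hA : A ≤ Tb) {P : Subgroup Ω} (hPa : P ≤ T) (hPb : P ≤ Tb)
    {g : G} (hg : g ∈ Subgroup.normalizer (imageAlong ι B : Set G))
    (hgP : ∀ x ∈ P, g * th ι x * g⁻¹ ∈ ι.range) :
    ∃ h ∈ Subgroup.normalizer (imageAlong κ A : Set H), ∀ x ∈ P, ∃ y ∈ T ⊓ Tb,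
      th ι y = g * th ι x * g⁻¹ ∧ th κ y = h * th κ x * h⁻¹ := by
  have hnB := (a.mem_norm_image hB).mp hg
  let D := P ⊔ B
  have hD : D ≤ T := sup_le hPa hB
  have hDg : ∀ x ∈ D, g * th ι x * g⁻¹ ∈ ι.range := by
    intro x hx
    have hle : D ≤ preimageAlong ι (ι.range.comap (MulAut.conj g).toMonoidHom) := by
      refine sup_le (fun z hz => mem_preimageAlong.mpr ⟨hPa hz, hgP z hz⟩) fun z hz => mem_preimageAlong.mpr ⟨hB hz, ?_⟩
      obtain ⟨w, hw, e⟩ := hnB z hz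
      show g * th ι z * g⁻¹ ∈ ι.range
      rw [e]
      exact th_mem_range (hB hw)
    exact (mem_preimageAlong.mp (hle hx)).2
  obtain ⟨f, hf, hfA, hfv⟩ := a.back g hD hDg
  have hfB : img f B = B := (hf.mono (le_sup_right.trans le_sup_left)).img_eq_self fun x hx => by
    obtain ⟨h1, h2⟩ := hfv x (Subgroup.mem_sup_left (Subgroup.mem_sup_right hx))
    obtain ⟨y, hy, e⟩ := hnB x hx
    exact a.th_inj h1 (hB hy) (h2.trans e) ▸ hy
  obtain ⟨h, hh⟩ := b.fwd (sup_le (sup_le hPb b.A_le) hA) (le_sup_right.trans le_sup_left) hf hfB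
  refine ⟨h, (b.mem_norm_image hA).mpr fun x hx => ⟨f x, ?_, (hh x (Subgroup.mem_sup_right hx)).2.symm⟩,
    fun x hx => ⟨f x, ⟨(hfv x ?_).1, (hh x ?_).1⟩, (hfv x ?_).2, (hh x ?_).2⟩⟩
  · exact hfA.le (mem_img_of_mem hx)
  all_goals exact Subgroup.mem_sup_left (Subgroup.mem_sup_left hx)

end Loc

/-- Two models are linked over the normalisers of the two subgroups. -/
structure Link {T T' : Subgroup Ω} {G H : Type u} [Group G] [Group H] (ι : T →* G) (κ : T' →* H) (N : Subgroup G)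
    (N' : Subgroup H) (θ : N →* H) : Prop where
  inj : Function.Injective θ
  range : θ.range = N'
  dom : ι.range ≤ N
  le : T ≤ T'
  compat : ∀ (x : Ω) (_ : x ∈ T) (h : th ι x ∈ N), θ ⟨th ι x, h⟩ = th κ x

/-- The isomorphism between the two normalisers. -/
theorem Loc.exists_link (hS : IsPGroup 2 S) {A B T : Subgroup Ω} {G H : Type u} [Group G] [Finite G] [Group H]
    [Finite H] {ι : T →* G} {κ : S →* H} (a : Loc F A T ι) (b : Loc F B S κ) (hA : F.IsFullyNormalized A)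
    (hT : normalizerIn S A = T) (hB : B ≤ T) (hBn : T ≤ Subgroup.normalizer (B : Set Ω)) :
    ∃ θ, Link ι κ (Subgroup.normalizer (imageAlong ι B : Set G)) (Subgroup.normalizer (imageAlong κ A : Set H)) θ := by
  haveI : Fact (Nat.Prime 2) := ⟨Nat.prime_two⟩
  haveI := finite_of_le_base (S := S) a.le_S
  set NG := Subgroup.normalizer (imageAlong ι B : Set G)
  set NH := Subgroup.normalizer (imageAlong κ A : Set H)
  have hAS : A ≤ S := hA.1
  have hTn : T ≤ Subgroup.normalizer (A : Set Ω) := hT ▸ inf_le_right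
  have hTp : IsPGroup 2 T := hS.to_le a.le_S
  have hdom : ι.range ≤ NG := a.range_le_norm hB hBn
  have hκT : ∀ x ∈ T, th κ x ∈ NH := fun x hx => (b.mem_norm_image hAS).mpr fun y hy =>
    ⟨x * y * x⁻¹, (mem_normalizer_iff'.1 (hTn hx)).1 y hy, by rw [th_conj (a.le_S hx) (hAS hy)]⟩
  let ι₁ : T →* NG := ι.codRestrict NG fun t => hdom ⟨t, rfl⟩
  let κ₁ : T →* NH := (κ.comp (Subgroup.inclusion a.le_S)).codRestrict NH fun t => by
    show κ _ ∈ NH
    rw [← th_coe]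
    exact hκT t t.2
  have hι₁ : Function.Injective ι₁ := fun x y h => a.inj (congrArg Subtype.val h)
  have hκ₁ : Function.Injective κ₁ := fun x y h =>
    Subgroup.inclusion_injective a.le_S (b.inj (congrArg Subtype.val h))
  set E := pullSystem ι₁ hι₁
  have hsyl₁ : SylIn ι.range NG := ⟨hdom, a.syl.pgroup, fun U _ hU h => a.syl.max U le_top hU h⟩
  have hTG : ∃ T₁ : Sylow 2 NG, (T₁ : Subgroup NG) = ι₁.range := by
    have h := Fusion.SFreeFF.SylIn.subgroupOf hsyl₁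
    refine ⟨⟨_, h.pgroup, fun hQ hle => h.max _ le_top hQ hle⟩, ?_⟩
    show ι.range.subgroupOf NG = ι₁.range
    ext y
    exact ⟨fun ⟨x, hx⟩ => ⟨x, Subtype.ext hx⟩, fun ⟨x, hx⟩ => ⟨x, congrArg Subtype.val hx⟩⟩
  have hsyl₂ : SylIn (imageAlong κ T) NH := by
    refine ⟨?_, (hS.to_subgroup _).map κ, fun U hU h2 hle => ?_⟩
    · intro x hx
      obtain ⟨y, hy, -, rfl⟩ := mem_imageAlong.mp hx
      exact hκT y hy
    obtain ⟨c, -, hc⟩ := b.syl.exists_conj_le (le_top : U ≤ ⊤) h2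
    refine (Subgroup.eq_of_le_of_card_ge hle ?_).symm
    -- the conjugate of `A` is normalised by the conjugate of `U`
    have hcA : ∀ x ∈ A, c⁻¹ * th κ x * c⁻¹⁻¹ ∈ κ.range := fun x hx => by
      rw [inv_inv]
      exact Fusion.SFreeFF.mem_cj.mp (hc (hle (th_mem_imageAlong (a.A_le hx) (hAS hx))))
    obtain ⟨f, hf, -, hfv⟩ := b.back c⁻¹ hAS hcA
    have hfA : Fn F A f := hf.mono le_sup_left
    have hconj : cj U c⁻¹ ≤ imageAlong κ (normalizerIn S (img f A)) := by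
      rintro _ ⟨u, hu, rfl⟩
      obtain ⟨s, hs⟩ := Fusion.SFreeFF.mem_cj.mp (hc hu)
      refine mem_imageAlong.mpr ⟨s, ⟨s.2, ?_⟩, s.2, ?_⟩
      · have := finite_of_le_base (S := S) hfA.img_le_base
        refine mem_normalizer_of_map_le fun z hz => ?_
        obtain ⟨x, hx, rfl⟩ := hfA.mem_img.1 hz
        obtain ⟨w, hw, e⟩ := (b.mem_norm_image hAS).mp (hU hu) x hx
        have hfS := (hfv x (Subgroup.mem_sup_left hx))
        have : (s : Ω) * f x * (s : Ω)⁻¹ = f w := by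
          refine b.th_inj (S.mul_mem (S.mul_mem s.2 hfS.1) (S.inv_mem s.2)) (hfv w (Subgroup.mem_sup_left hw)).1 ?_
          rw [th_conj s.2 hfS.1, th_coe, hs, hfS.2, (hfv w (Subgroup.mem_sup_left hw)).2, ← e, inv_inv]
          group
        exact this ▸ mem_img_of_mem hw
      · rw [th_coe, hs]
        show c⁻¹ * u * c = c⁻¹ * u * c⁻¹⁻¹
        rw [inv_inv]
    have hcard : ∀ {D : Subgroup Ω}, D ≤ S → Nat.card (imageAlong κ D) = Nat.card D := fun {D} hD => by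
      rw [show imageAlong κ D = (D.subgroupOf S).map κ from rfl, Subgroup.card_map_of_injective b.inj,
        Nat.card_congr (Subgroup.subgroupOfEquivOfLe hD).toEquiv]
    rw [← Fusion.SFreeFF.card_cj U c⁻¹, hcard a.le_S, ← hT]
    exact (Subgroup.card_le_of_le hconj).trans ((hcard normalizerIn_le).le.trans (hA.2 _ (isConj_of_fn hfA)))
  have hTH : ∃ T₂ : Sylow 2 NH, (T₂ : Subgroup NH) = κ₁.range := by
    have h := Fusion.SFreeFF.SylIn.subgroupOf hsyl₂
    refine ⟨⟨_, h.pgroup, fun hQ hle => h.max _ le_top hQ hle⟩, ?_⟩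
    show (imageAlong κ T).subgroupOf NH = κ₁.range
    ext y
    rw [Subgroup.mem_subgroupOf, mem_imageAlong]
    constructor
    · rintro ⟨x, hx, hxS, e⟩
      exact ⟨⟨x, hx⟩, Subtype.ext ((th_apply hxS).symm.trans e)⟩
    · rintro ⟨x, rfl⟩
      exact ⟨x, x.2, a.le_S x.2, th_apply (a.le_S x.2)⟩
  have h₁ : E.IsModel 2 NG ι₁ := ⟨inferInstance, ⟨hι₁, fun P hP φ hφ =>
    ⟨fun ⟨_, _, g, hg⟩ => ⟨g, hg⟩, fun ⟨g, hg⟩ => ⟨hP, hφ, g, hg⟩⟩⟩, hTG, a.charP_norm hTp⟩
  have h₂ : E.IsModel 2 NH κ₁ := by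
    refine ⟨inferInstance, ⟨hκ₁, fun P hP φ hφ => ⟨?_, ?_⟩⟩, hTH, b.charP_norm hS⟩
    · rintro ⟨_, _, g, hg⟩
      have hgι : ∀ x : P, (g : G) * th ι x * (g : G)⁻¹ = ι ⟨φ x, hφ x⟩ := fun x => by
        rw [th_apply (hP x.2)]
        exact (congrArg Subtype.val (hg x)).symm
      obtain ⟨h, hh, hy⟩ := a.transfer b hB hAS hP (hP.trans a.le_S) g.2 fun x hx =>
        hgι ⟨x, hx⟩ ▸ ⟨_, rfl⟩
      refine ⟨⟨h, hh⟩, fun x => Subtype.ext ?_⟩
      obtain ⟨y, hy', e1, e2⟩ := hy x x.2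
      obtain rfl : y = φ x := a.th_inj hy'.1 (hφ x) (by rw [e1, hgι, th_apply (hφ x)])
      rw [th_apply (a.le_S (hφ x)), th_apply (hP.trans a.le_S x.2)] at e2
      exact e2
    · rintro ⟨h, hh'⟩
      have hhκ : ∀ x : P, (h : H) * th κ x * (h : H)⁻¹ = th κ (φ x) := fun x => by
        rw [th_apply (hP.trans a.le_S x.2), th_apply (a.le_S (hφ x))]
        exact (congrArg Subtype.val (hh' x)).symm
      obtain ⟨g, hg, hy⟩ := b.transfer a hAS hB (hP.trans a.le_S) hP h.2 fun x hx =>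
        hhκ ⟨x, hx⟩ ▸ th_mem_range (a.le_S (hφ _))
      refine ⟨hP, hφ, ⟨g, hg⟩, fun x => Subtype.ext ?_⟩
      obtain ⟨y, hy', e1, e2⟩ := hy x x.2
      obtain rfl : y = φ x := b.th_inj hy'.1 (a.le_S (hφ x)) (by rw [e1, hhκ])
      rw [th_apply (hφ x), th_apply (hP x.2)] at e2
      exact e2
  obtain ⟨Φ, hΦ⟩ := model_unique hTp (model_constrained h₁) h₁ h₂
  refine ⟨NH.subtype.comp Φ.toMonoidHom, Subtype.val_injective.comp Φ.injective, ?_, hdom, a.le_S, fun x hx h => ?_⟩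
  · rw [MonoidHom.range_comp, MonoidHom.range_eq_top.mpr Φ.surjective, ← MonoidHom.range_eq_map, Subgroup.range_subtype]
  · rw [show (⟨th ι x, h⟩ : NG) = ι₁ ⟨x, hx⟩ from Subtype.ext (th_apply hx)]
    show ((Φ (ι₁ ⟨x, hx⟩) : NH) : H) = th κ x
    rw [hΦ]
    exact (th_apply (a.le_S hx)).symm

end CfsgLib.SFreeW
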