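import Cfsg.Agent.Lib.Fusion.SFreeFF.Factor

/-!
Bilinear pairings of finite groups of exponent two.

* `semistable`: for a pairing invariant under an irreducible group, a subgroup and its orthogonal have
  dimensions adding up to at most the dimension of the module.
* `anisotropic`: an anisotropic quadratic map into an `m`-dimensional group has a domain of dimension at most
  `2 * m`.
* `even_of_alternating`: a nondegenerate alternating pairing lives on a group of even dimension.
-/

set_option autoImplicit false
set_option linter.unusedSectionVars false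
set_option linter.style.haveILetI false

namespace CfsgLib.SFreeW

open CfsgLib.Fusion.SFreeFF

universe u

section Semistable

variable {N D : Type*} [CommGroup N] [CommGroup D]

/-- The orthogonal subgroup. -/
def perp (b : N →* (N →* D)) (Y : Subgroup N) : Subgroup N := ann (Y.map b)

theorem mem_perp {b : N →* (N →* D)} {Y : Subgroup N} {x : N} : x ∈ perp b Y ↔ ∀ y ∈ Y, b y x = 1 := by
  constructor
  · exact fun h y hy => h _ ⟨y, hy, rfl⟩
  · rintro h _ ⟨y, hy, rfl⟩
    exact h y hy

theorem perp_anti (b : N →* (N →* D)) {Y Z : Subgroup N} (h : Y ≤ Z) : perp b Z ≤ perp b Y :=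
  ann_anti (Subgroup.map_mono h)

theorem perp_sup (b : N →* (N →* D)) (Y Z : Subgroup N) : perp b (Y ⊔ Z) = perp b Y ⊓ perp b Z := by
  rw [perp, Subgroup.map_sup, ann_sup]; rfl

theorem perp_bot (b : N →* (N →* D)) : perp b ⊥ = ⊤ := by rw [perp, Subgroup.map_bot, ann_bot]

variable [Finite N]

theorem dl_perp_super (h2 : Exp2 N) (b : N →* (N →* D)) (Y Z : Subgroup N) :
    dl Y + dl (perp b Y) + (dl Z + dl (perp b Z)) ≤
      dl (Y ⊔ Z) + dl (perp b (Y ⊔ Z)) + (dl (Y ⊓ Z) + dl (perp b (Y ⊓ Z))) := by
  have h1 := dl_sup_add_inf h2 Y Z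
  have h3 := dl_sup_add_inf h2 (perp b Y) (perp b Z)
  have h4 : dl (perp b Y ⊔ perp b Z) ≤ dl (perp b (Y ⊓ Z)) :=
    dl_mono (sup_le (perp_anti b inf_le_left) (perp_anti b inf_le_right))
  rw [perp_sup]
  omega

/-- The semistability of a pairing invariant under an irreducible group. -/
theorem semistable {Γ : Type*} [Group Γ] (h2 : Exp2 N) (σ : Γ →* MulAut N)
    (hirr : ∀ U : Subgroup N, (∀ g, ∀ u ∈ U, σ g u ∈ U) → U = ⊥ ∨ U = ⊤)
    (b : N →* (N →* D)) (hne : b ≠ 1) (heq : ∀ g x y, b x y = 1 → b (σ g x) (σ g y) = 1)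
    (Y : Subgroup N) : dl Y + dl (perp b Y) ≤ dl (⊤ : Subgroup N) := by
  classical
  set f : Subgroup N → ℕ := fun Y => dl Y + dl (perp b Y) with hf
  obtain ⟨M0, -, hM0⟩ := Set.exists_max_image (Set.univ : Set (Subgroup N)) f (Set.toFinite _) ⟨Y, trivial⟩
  have hmax : ∀ Z, f Z ≤ f M0 := fun Z => hM0 Z trivial
  have hsup : ∀ Y Z, f Y = f M0 → f Z = f M0 → f (Y ⊔ Z) = f M0 := fun Y Z hY hZ => by
    have := dl_perp_super h2 b Y Z
    have := hmax (Y ⊔ Z)
    have := hmax (Y ⊓ Z)
    simp only [hf] at *
    omega
  obtain ⟨L, hL, hLmax⟩ := Set.exists_max_image {Z | f Z = f M0} (fun Z => Nat.card Z) (Set.toFinite _) ⟨M0, rfl⟩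
  have htop : ∀ Z, f Z = f M0 → Z ≤ L := fun Z hZ => by
    have := Subgroup.eq_of_le_of_card_ge (le_sup_left : L ≤ L ⊔ Z) (hLmax _ (hsup L Z hL hZ))
    exact le_sup_right.trans this.ge
  have hinv : ∀ g, ∀ u ∈ L, σ g u ∈ L := by
    intro g
    have hp : (perp b L).map (σ g).toMonoidHom ≤ perp b (L.map (σ g).toMonoidHom) := by
      rintro _ ⟨x, hx, rfl⟩
      refine mem_perp.mpr ?_
      rintro _ ⟨y, hy, rfl⟩
      exact heq g y x (mem_perp.mp hx y hy)
    have hc : ∀ Z : Subgroup N, dl (Z.map (σ g).toMonoidHom) = dl Z := fun Z => by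
      rw [dl, dl, Subgroup.card_map_of_injective (σ g).injective]
    have h1 : f (L.map (σ g).toMonoidHom) = f M0 := by
      refine le_antisymm (hmax _) ?_
      rw [← hL]
      simp only [hf]
      have := dl_mono hp
      rw [hc] at this
      rw [hc]
      omega
    exact fun u hu => htop _ h1 ⟨u, hu, rfl⟩
  have hY := (hmax Y).trans (le_of_eq (Set.mem_setOf.mp hL).symm)
  simp only [hf] at hY
  rcases hirr L hinv with h | h
  · rw [h, dl_bot, perp_bot, zero_add] at hY
    exact hY
  · rw [h] at hY
    have h0 : perp b ⊤ = ⊥ := by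
      refine (hirr _ fun g u hu => mem_perp.mpr fun y _ => ?_).resolve_right fun h0 => hne ?_
      · have := heq g (σ g⁻¹ y) u (mem_perp.mp hu _ trivial)
        rwa [← MulAut.mul_apply, ← map_mul, mul_inv_cancel, map_one, MulAut.one_apply] at this
      · exact MonoidHom.ext fun y => MonoidHom.ext fun x => mem_perp.mp (h0.symm ▸ Subgroup.mem_top x : x ∈ perp b ⊤) y (Subgroup.mem_top y)
    rw [h0, dl_bot, add_zero] at hY
    exact hY

end Semistable

section Functional

/-- The group of order two. -/
abbrev Z2 : Type := Multiplicative (ZMod 2)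

theorem exp2_Z2 : Exp2 Z2 := fun x => by
  revert x
  decide

theorem exp2_inv {W : Type*} [CommGroup W] (h : Exp2 W) (x : W) : x⁻¹ = x :=
  inv_eq_of_mul_eq_one_right (h x)

theorem exists_functional {W : Type*} [CommGroup W] [Finite W] (h2 : Exp2 W) {S : Subgroup W} {v : W}
    (hv : v ∉ S) : ∃ χ : W →* Z2, (∀ x ∈ S, χ x = 1) ∧ χ v ≠ 1 := by
  classical
  obtain ⟨M, ⟨hSM, hvM⟩, hmax⟩ := Set.exists_max_image {M : Subgroup W | S ≤ M ∧ v ∉ M} (fun M => Nat.card M)
    (Set.toFinite _) ⟨S, le_rfl, hv⟩
  have hcov : ∀ x, x ∉ M → x * v ∈ M := by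
    intro x hx
    have hlt : M < M ⊔ Subgroup.zpowers x :=
      left_lt_sup.mpr fun h => hx (h (Subgroup.mem_zpowers x))
    have hmem : v ∈ M ⊔ Subgroup.zpowers x := by
      by_contra h
      exact hlt.ne (Subgroup.eq_of_le_of_card_ge hlt.le (hmax _ ⟨hSM.trans hlt.le, h⟩))
    obtain ⟨m, hm, y, ⟨k, hk⟩, he⟩ := Subgroup.mem_sup.mp hmem
    have hk' : x ^ k = 1 ∨ x ^ k = x := by
      rcases Int.even_or_odd k with ⟨j, rfl⟩ | ⟨j, rfl⟩
      · left; rw [zpow_add, ← mul_zpow, h2, one_zpow]
      · right
        rw [zpow_add, two_mul, zpow_add, ← mul_zpow, h2, one_zpow, one_mul, zpow_one]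
    have hy : y = 1 ∨ y = x := by
      simp only at hk
      rw [← hk]; exact hk'
    rcases hy with hy | hy
    · rw [hy, mul_one] at he
      exact absurd (he ▸ hm) hvM
    · rw [hy] at he
      rw [← he, show x * (m * x) = m * (x * x) by ac_rfl, h2, mul_one]
      exact hm
  refine ⟨{ toFun := fun x => if x ∈ M then 1 else Multiplicative.ofAdd 1, map_one' := by simp [M.one_mem]
            map_mul' := fun x y => ?_ }, fun x hx => by simp [hSM hx], by simp [hvM]⟩
  show (if x * y ∈ M then (1 : Z2) else Multiplicative.ofAdd 1) = _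
  by_cases hx : x ∈ M
  · simp [hx, M.mul_mem_cancel_left hx]
  by_cases hy : y ∈ M
  · simp [hy, M.mul_mem_cancel_right hy]
  have hxy : x * y ∈ M := by
    have h1 := M.mul_mem (hcov x hx) (hcov y hy)
    rwa [show x * v * (y * v) = x * y * (v * v) by ac_rfl, h2, mul_one] at h1
  simp [hx, hy, hxy]
  decide

theorem finite_Z2hom (W : Type*) [CommGroup W] [Finite W] : Finite (W →* Z2) :=
  Finite.of_injective (fun f : W →* Z2 => (f : W → Z2)) DFunLike.coe_injective

theorem card_functional_le {n : ℕ} : ∀ (W : Type u) [CommGroup W] [Finite W], Nat.card W ≤ n → Exp2 W →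
    Nat.card (W →* Z2) ≤ Nat.card W := by
  induction n with
  | zero => intro W _ _ h; exact absurd h (not_le.mpr Nat.card_pos)
  | succ n ih =>
    intro W _ _ hn h2
    haveI := finite_Z2hom W
    by_cases htriv : ∀ x : W, x = 1
    · haveI : Subsingleton W := ⟨fun a b => (htriv a).trans (htriv b).symm⟩
      haveI : Subsingleton (W →* Z2) := ⟨fun f g => MonoidHom.ext fun x => by rw [htriv x, map_one, map_one]⟩
      rw [Nat.card_unique, Nat.card_unique]
    push Not at htriv
    obtain ⟨v, hv⟩ := htriv
    obtain ⟨χ, -, hχ⟩ := exists_functional h2 (S := ⊥) (v := v) (by simpa using hv)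
    have hrange : χ.range = ⊤ := by
      refine eq_top_iff.mpr fun z _ => ?_
      by_cases hz : z = 1
      · exact hz ▸ one_mem _
      · refine ⟨v, ?_⟩
        have key : ∀ a b : Z2, a ≠ 1 → b ≠ 1 → a = b := by decide
        exact key _ _ hχ hz
    have hc : Nat.card W = 2 * Nat.card χ.ker := by
      rw [← χ.ker.index_mul_card, Subgroup.index_ker, hrange, Subgroup.card_top]
      simp
    haveI := finite_Z2hom χ.ker
    have h1 := ih χ.ker (by have := Nat.card_pos (α := χ.ker); omega) (h2.subgroup _)
    have hinj : Function.Injective (fun f : W →* Z2 => (f.comp χ.ker.subtype, f v)) := by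
      intro f g h
      simp only [Prod.mk.injEq] at h
      refine MonoidHom.ext fun x => ?_
      by_cases hx : χ x = 1
      · exact DFunLike.congr_fun h.1 ⟨x, hx⟩
      · have hk : x * v ∈ χ.ker := by
          rw [MonoidHom.mem_ker, map_mul]
          revert hx hχ
          generalize χ x = a
          generalize χ v = b
          revert a b
          decide
        have h3 : f (x * v) = g (x * v) := DFunLike.congr_fun h.1 ⟨x * v, hk⟩
        rw [map_mul, map_mul, h.2] at h3
        exact mul_right_cancel h3
    calc Nat.card (W →* Z2) ≤ Nat.card ((χ.ker →* Z2) × Z2) := Nat.card_le_card_of_injective _ hinj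
      _ = Nat.card (χ.ker →* Z2) * 2 := by rw [Nat.card_prod]; simp
      _ ≤ Nat.card W := by omega

theorem dl_functional_le {W : Type u} [CommGroup W] [Finite W] (h2 : Exp2 W) :
    dl (⊤ : Subgroup (W →* Z2)) ≤ dl (⊤ : Subgroup W) := by
  rw [dl, dl, Subgroup.card_top, Subgroup.card_top]
  exact Nat.log_mono_right (card_functional_le W le_rfl h2)

end Functional

section Anisotropic

variable {W : Type u} [CommGroup W]

/-- Functions of degree at most `d`. -/
def Deg : ℕ → (W → ZMod 2) → Prop
  | 0, f => ∀ a x, f (x * a) = f x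
  | d + 1, f => ∀ a, Deg d (fun x => f (x * a) + f x)

theorem deg_add : ∀ {d : ℕ} {f g : W → ZMod 2}, Deg d f → Deg d g → Deg d (fun x => f x + g x)
  | 0, f, g, hf, hg => fun a x => by simp only [hf a x, hg a x]
  | d + 1, f, g, hf, hg => fun a => by
    have := deg_add (hf a) (hg a)
    convert this using 1
    funext x
    ring

theorem deg_const : ∀ (d : ℕ) (c : ZMod 2), Deg d (fun _ : W => c)
  | 0, _ => fun _ _ => rfl
  | d + 1, c => fun _ => deg_const d (c + c)

theorem deg_shift : ∀ {d : ℕ} {f : W → ZMod 2} (b : W), Deg d f → Deg d (fun x => f (x * b))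
  | 0, f, b, hf => fun a x => by
    show f (x * a * b) = f (x * b)
    rw [mul_right_comm, hf a (x * b)]
  | d + 1, f, b, hf => fun a => by
    have := deg_shift b (hf a)
    convert this using 1
    funext x
    show f (x * a * b) + f (x * b) = _
    rw [mul_right_comm x a b]

theorem deg_succ : ∀ {d : ℕ} {f : W → ZMod 2}, Deg d f → Deg (d + 1) f
  | 0, f, hf => fun a b x => by simp only [hf a, hf b]
  | d + 1, f, hf => fun a => deg_succ (hf a)

theorem deg_mono {d e : ℕ} (h : d ≤ e) {f : W → ZMod 2} (hf : Deg d f) : Deg e f := by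
  induction h with
  | refl => exact hf
  | step _ ih => exact deg_succ ih

theorem deg_smul : ∀ {e : ℕ} {g : W → ZMod 2} (c : ZMod 2), Deg e g → Deg e (fun x => c * g x)
  | 0, g, c, hg => fun a x => by simp only [hg a x]
  | e + 1, g, c, hg => fun a => by
    have := deg_smul c (hg a)
    convert this using 1
    funext x
    ring

theorem deg_mul : ∀ {d : ℕ} {f : W → ZMod 2}, Deg d f → ∀ {e : ℕ} {g : W → ZMod 2}, Deg e g →
    Deg (d + e) (fun x => f x * g x) := by
  intro d
  induction d with
  | zero =>
    intro f hf e g hg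
    have hc : ∀ x, f x = f 1 := fun x => by have := hf x 1; rwa [one_mul] at this
    rw [Nat.zero_add]
    convert deg_smul (f 1) hg using 1
    funext x
    rw [hc x]
  | succ d ihd =>
    intro f hf e
    induction e with
    | zero =>
      intro g hg
      have hc : ∀ x, g x = g 1 := fun x => by have := hg x 1; rwa [one_mul] at this
      convert deg_smul (g 1) hf using 1
      funext x
      rw [hc x, mul_comm]
    | succ e ihe =>
      intro g hg a
      have h1 := ihd (hf a) (deg_shift a hg)
      have h2 := ihe (g := fun x => g (x * a) + g x) (hg a)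
      rw [show d + 1 + e = d + (e + 1) by omega] at h2
      have := deg_add h1 h2
      show Deg ((d + 1) + e) _
      rw [show d + 1 + e = d + (e + 1) by omega]
      convert this using 1
      funext x
      ring_nf
      have h : (2 : ZMod 2) = 0 := by decide
      simp [h]

end Anisotropic

theorem sum_eq_zero_of_deg : ∀ {d : ℕ} (W : Type u) [CommGroup W] [Fintype W] (f : W → ZMod 2),
    Exp2 W → Deg d f → 2 ^ d < Nat.card W → ∑ x, f x = 0 := by
  classical
  intro d
  induction d with
  | zero =>
    intro W _ _ f h2 hf hc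
    have hc' : ∀ x, f x = f 1 := fun x => by have := hf x 1; rwa [one_mul] at this
    rw [pow_zero] at hc
    have h2dvd : 2 ∣ Fintype.card W := by
      rw [← Nat.card_eq_fintype_card]
      have h := card_eq_pow h2 (⊤ : Subgroup W)
      rw [Subgroup.card_top] at h
      rw [h] at hc ⊢
      exact dvd_pow_self 2 fun h0 => by simp [h0] at hc
    obtain ⟨k, hk⟩ := h2dvd
    rw [Finset.sum_congr rfl fun x _ => hc' x, Finset.sum_const, Finset.card_univ, hk, nsmul_eq_mul]
    have h : (2 : ZMod 2) = 0 := by decide
    push_cast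
    simp [h]
  | succ d ih =>
    intro W _ _ f h2 hf hc
    haveI : Nontrivial W := Finite.one_lt_card_iff_nontrivial.1 (lt_of_le_of_lt Nat.one_le_two_pow hc)
    obtain ⟨e, he⟩ := exists_ne (1 : W)
    set K := Subgroup.zpowers e with hK
    have hKmem : ∀ x, x ∈ K ↔ x = 1 ∨ x = e := by
      intro x
      refine ⟨?_, fun h => h.elim (fun h => h ▸ one_mem _) fun h => h ▸ Subgroup.mem_zpowers e⟩
      rintro ⟨k, rfl⟩
      simp only
      rcases Int.even_or_odd k with ⟨j, rfl⟩ | ⟨j, rfl⟩
      · left; rw [zpow_add, ← mul_zpow, h2, one_zpow]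
      · right; rw [zpow_add, two_mul, zpow_add, ← mul_zpow, h2, one_zpow, one_mul, zpow_one]
    let g : W ⧸ K → ZMod 2 := Quotient.lift (fun x => f (x * e) + f x) (by
      intro x y hxy
      have : x⁻¹ * y ∈ K := QuotientGroup.leftRel_apply.mp hxy
      show f (x * e) + f x = f (y * e) + f y
      rcases (hKmem _).mp this with h | h
      · rw [inv_mul_eq_one.mp h]
      · rw [show y = x * e by rw [← h, mul_inv_cancel_left], mul_assoc x e e, h2, mul_one, add_comm])
    haveI := Fintype.ofFinite (W ⧸ K)
    have hgdeg : ∀ {d : ℕ} {g : W ⧸ K → ZMod 2}, Deg d (fun x : W => g (QuotientGroup.mk x)) → Deg d g := by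
      intro d
      induction d with
      | zero =>
        intro g h a x
        induction a using QuotientGroup.induction_on with
        | H a => induction x using QuotientGroup.induction_on with
          | H x => exact h a x
      | succ d ihd =>
        intro g h a
        induction a using QuotientGroup.induction_on with
        | H a => exact ihd (h a)
    have hcard : Nat.card W = Nat.card (W ⧸ K) * 2 := by
      rw [Subgroup.card_eq_card_quotient_mul_card_subgroup K, hK, Nat.card_zpowers]
      congr 1
      exact orderOf_eq_prime (by rw [pow_two]; exact h2 e) he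
    have hg : ∑ q, g q = 0 := ih (W ⧸ K) g (h2.quotient K) (hgdeg (g := g) (hf e)) (by
      rw [hcard, pow_succ] at hc; exact Nat.lt_of_mul_lt_mul_right hc)
    rw [← hg, ← Finset.sum_fiberwise (Finset.univ : Finset W) (fun x : W => (QuotientGroup.mk x : W ⧸ K))]
    refine Finset.sum_congr rfl fun q _ => ?_
    induction q using QuotientGroup.induction_on with
    | H x =>
      have hset : (Finset.univ.filter fun y : W => (QuotientGroup.mk y : W ⧸ K) = QuotientGroup.mk x) = {x * e, x} := by
        ext y
        simp only [Finset.mem_filter, Finset.mem_univ, true_and, Finset.mem_insert, Finset.mem_singleton]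
        rw [eq_comm, QuotientGroup.eq, hKmem]
        constructor
        · rintro (h | h)
          · exact Or.inr (inv_mul_eq_one.mp h).symm
          · exact Or.inl (by rw [← h, mul_inv_cancel_left])
        · rintro (rfl | rfl) <;> simp
      rw [hset, Finset.sum_pair (fun h => he (mul_left_cancel (h.trans (mul_one x).symm)))]
      rfl

/-- The defect of additivity. -/
def pol {W T : Type*} [Mul W] [Mul T] (q : W → T) (x y : W) : T := q (x * y) * (q x * q y)

theorem exists_indicator : ∀ {n : ℕ} (W : Type u) [CommGroup W] (T : Type u) [CommGroup T] [Finite T]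
    (q : W → T), Exp2 T → dl (⊤ : Subgroup T) ≤ n → (∀ x y z, pol q (x * y) z = pol q x z * pol q y z) →
    ∃ P : W → ZMod 2, Deg (2 * n) P ∧ ∀ x, (q x = 1 → P x = 1) ∧ (q x ≠ 1 → P x = 0) := by
  classical
  intro n
  induction n with
  | zero =>
    intro W _ T _ _ q h2 hd _
    refine ⟨fun _ => 1, deg_const _ _, fun x => ⟨fun _ => rfl, fun h => absurd ?_ h⟩⟩
    have h := eq_bot_of_dl h2 (Nat.le_zero.mp hd)
    exact Subgroup.mem_bot.mp (h ▸ Subgroup.mem_top (q x))
  | succ n ih =>
    intro W _ T _ _ q h2 hd hq
    by_cases htriv : ∀ t : T, t = 1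
    · exact ⟨fun _ => 1, deg_const _ _, fun x => ⟨fun _ => rfl, fun h => absurd (htriv _) h⟩⟩
    push Not at htriv
    obtain ⟨t, ht⟩ := htriv
    obtain ⟨χ, -, hχ⟩ := exists_functional h2 (S := ⊥) (v := t) (by simpa using ht)
    have hχt : χ t = Multiplicative.ofAdd 1 := by
      revert hχ
      generalize χ t = a
      revert a
      decide
    let π : T →* χ.ker :=
      { toFun := fun y => ⟨y * (if χ y = 1 then 1 else t), by
          rw [MonoidHom.mem_ker]
          by_cases h : χ y = 1
          · simp [h]
          · rw [if_neg h, map_mul, hχt]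
            revert h
            generalize χ y = a
            revert a
            decide⟩
        map_one' := by simp
        map_mul' := fun a b => Subtype.ext (by
          show a * b * (if χ (a * b) = 1 then 1 else t) =
            a * (if χ a = 1 then 1 else t) * (b * (if χ b = 1 then 1 else t))
          by_cases ha : χ a = 1 <;> by_cases hb : χ b = 1
          · simp [ha, hb]
          · simp [ha, hb, mul_assoc]
          · simp [ha, hb]; ac_rfl
          · have hab : χ (a * b) = 1 := by
              rw [map_mul]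
              revert ha hb
              generalize χ a = a'
              generalize χ b = b'
              revert a' b'
              decide
            rw [if_pos hab, if_neg ha, if_neg hb, show a * t * (b * t) = a * b * (t * t) by ac_rfl, h2]) }
    have hdl : dl (⊤ : Subgroup χ.ker) ≤ n := by
      rw [dl_top_subgroup]
      by_contra hlt
      have := eq_of_dl_le h2 (le_top : χ.ker ≤ ⊤) (by omega)
      exact hχ (MonoidHom.mem_ker.mp (this.symm ▸ Subgroup.mem_top t))
    obtain ⟨P, hP, hPv⟩ := ih W χ.ker (fun x => π (q x)) (h2.subgroup _) hdl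
      (fun x y z => by
        simp only [pol] at hq ⊢
        rw [← map_mul, ← map_mul, ← map_mul, ← map_mul, ← map_mul, ← map_mul, ← map_mul, hq])
    let c : W → ZMod 2 := fun x => Multiplicative.toAdd (χ (q x))
    have hc : Deg 2 c := by
      intro a b v x
      simp only [c]
      have key : ∀ y, χ (q (y * b)) = χ (pol q y b) * (χ (q y) * χ (q b)) := fun y => by
        rw [← map_mul, ← map_mul, pol, mul_assoc, h2, mul_one]
      have key' : ∀ y, χ (q (y * a)) = χ (pol q y a) * (χ (q y) * χ (q a)) := fun y => by
        rw [← map_mul, ← map_mul, pol, mul_assoc, h2, mul_one]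
      simp only [key', toAdd_mul, hq, map_mul]
      have h : (2 : ZMod 2) = 0 := by decide
      ring_nf
      simp [h]
    refine ⟨fun x => (1 + c x) * P x, ?_, fun x => ?_⟩
    · rw [show 2 * (n + 1) = 2 + 2 * n by omega]
      exact deg_mul (deg_add (deg_const 2 1) hc) hP
    obtain ⟨hp1, hp0⟩ := hPv x
    constructor
    · intro h
      simp [c, h, hp1 (by rw [h, map_one])]
    · intro h
      by_cases hπ : π (q x) = 1
      · have h1 : χ (q x) ≠ 1 := fun h1 => h (by
          have := congrArg Subtype.val hπ
          simpa [π, h1] using this)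
        have h1' : c x = 1 := by
          simp only [c]
          revert h1
          generalize χ (q x) = a
          revert a
          decide
        show (1 + c x) * P x = 0
        rw [h1', show (1 + 1 : ZMod 2) = 0 from by decide, zero_mul]
      · simp [hp0 hπ]

/-- An anisotropic quadratic map. -/
theorem anisotropic {W T : Type u} [CommGroup W] [Finite W] [CommGroup T] [Finite T] (hW : Exp2 W) (hT : Exp2 T)
    (q : W → T) (hq : ∀ x y z, pol q (x * y) z = pol q x z * pol q y z) (h1 : q 1 = 1)
    (han : ∀ x, q x = 1 → x = 1) : dl (⊤ : Subgroup W) ≤ 2 * dl (⊤ : Subgroup T) := by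
  classical
  haveI := Fintype.ofFinite W
  obtain ⟨P, hP, hv⟩ := exists_indicator W T q hT le_rfl hq
  by_contra hlt
  have h := sum_eq_zero_of_deg W P hW hP (by
    rw [← Subgroup.card_top, card_eq_pow hW]
    exact Nat.pow_lt_pow_right one_lt_two (not_le.mp hlt))
  rw [Finset.sum_eq_single 1 (fun x _ hx => (hv x).2 fun he => hx (han x he))
    (fun h => absurd (Finset.mem_univ 1) h), (hv 1).1 h1] at h
  exact one_ne_zero h

theorem even_of_alternating : ∀ {n : ℕ} (A : Type u) [CommGroup A] [Finite A] (B : A →* (A →* Z2)),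
    Nat.card A ≤ n → Exp2 A → (∀ x, B x x = 1) → (∀ x, B x = 1 → x = 1) → Even (dl (⊤ : Subgroup A)) := by
  intro n
  induction n with
  | zero => intro A _ _ B h; exact absurd h (not_le.mpr Nat.card_pos)
  | succ n ih =>
    intro A _ _ B hn h2 halt hnd
    by_cases htriv : ∀ x : A, x = 1
    · have : (⊤ : Subgroup A) = ⊥ := (Subgroup.eq_bot_iff_forall _).mpr fun x _ => htriv x
      rw [this, dl_bot]
      exact Even.zero
    push Not at htriv
    obtain ⟨x, hx⟩ := htriv
    have hsymm : ∀ a b, B a b = B b a := fun a b => by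
      have h := halt (a * b)
      simp only [map_mul, MonoidHom.mul_apply, halt, one_mul, mul_one] at h
      revert h
      generalize B a b = u
      generalize B b a = v
      revert u v
      decide
    obtain ⟨y, hy⟩ : ∃ y, B x y ≠ 1 := by
      by_contra h
      push Not at h
      exact hx (hnd x (MonoidHom.ext h))
    set f : A →* Z2 × Z2 := (B x).prod (B y)
    have hsurj : Function.Surjective f := by
      have hgen : ∀ z : Z2, z = 1 ∨ z = B x y := by
        revert hy
        generalize B x y = u
        intro hu z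
        revert u z
        decide
      rintro ⟨p, q⟩
      rcases hgen p with rfl | rfl <;> rcases hgen q with rfl | rfl
      · exact ⟨1, by simp [f]⟩
      · exact ⟨x, by simp [f, halt, hsymm y x]⟩
      · exact ⟨y, by simp [f, halt]⟩
      · exact ⟨x * y, by simp [f, halt, hsymm y x]⟩
    set P := f.ker
    have hc : Nat.card A = 4 * Nat.card P := by
      rw [← P.index_mul_card, Subgroup.index_ker, MonoidHom.range_eq_top.mpr hsurj, Subgroup.card_top]
      simp
    have h := ih P ((B.comp P.subtype).flip.comp P.subtype |>.flip)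
      (by have := Nat.card_pos (α := P); omega) (h2.subgroup P) (fun z => halt z) (fun z hz => by
        refine Subtype.ext (hnd z (MonoidHom.ext fun w => ?_))
        obtain ⟨p, q⟩ := (f w : Z2 × Z2)
        have hz' : B x z = 1 ∧ B y z = 1 := Prod.ext_iff.mp (MonoidHom.mem_ker.mp z.2)
        have hgen : ∀ w, ∃ c : A, (c = 1 ∨ c = x ∨ c = y ∨ c = x * y) ∧ c * w ∈ P := by
          intro w
          have hgen2 : ∀ z : Z2, z = 1 ∨ z = B x y := by
            revert hy
            generalize B x y = u
            intro hu z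
            revert u z
            decide
          rcases hgen2 (B x w) with e1 | e1 <;> rcases hgen2 (B y w) with e2 | e2
          · exact ⟨1, Or.inl rfl, by simp [P, f, MonoidHom.mem_ker, e1, e2]⟩
          · exact ⟨x, Or.inr (Or.inl rfl), by simp [P, f, MonoidHom.mem_ker, e1, e2, halt, hsymm y x, exp2_Z2 _]⟩
          · exact ⟨y, Or.inr (Or.inr (Or.inl rfl)), by simp [P, f, MonoidHom.mem_ker, e1, e2, halt, exp2_Z2 _]⟩
          · exact ⟨x * y, Or.inr (Or.inr (Or.inr rfl)),
              by simp [P, f, MonoidHom.mem_ker, e1, e2, halt, hsymm y x, exp2_Z2 _]⟩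
        obtain ⟨c, hc, hcw⟩ := hgen w
        have hzc : B z c = 1 := by
          rcases hc with rfl | rfl | rfl | rfl
          · simp
          · rw [hsymm]; exact hz'.1
          · rw [hsymm]; exact hz'.2
          · rw [map_mul, hsymm z, hz'.1, one_mul, hsymm, hz'.2]
        have hzw : B z (c * w) = 1 := DFunLike.congr_fun hz ⟨_, hcw⟩
        rw [map_mul, hzc, one_mul] at hzw
        rw [hzw, MonoidHom.one_apply])
    rw [dl_top_subgroup] at h
    have hd : dl (⊤ : Subgroup A) = dl P + 2 := by
      have h' := hc
      rw [← Subgroup.card_top, card_eq_pow h2, card_eq_pow h2, show 4 = 2 ^ 2 from rfl, ← pow_add] at h'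
      rw [Nat.pow_right_injective le_rfl h', add_comm]
    rw [hd]
    exact h.add even_two

end CfsgLib.SFreeW
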