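import Cfsg.Agent.Lib.FusionSystem.ControlFrattini
import Cfsg.Agent.Lib.FusionSystem.SectionFreeFactor
import Cfsg.Agent.Lib.FusionSystem.SubnormalConstrained
import Cfsg.Agent.Lib.FusionSystem.CoreLayer
import Cfsg.Agent.Lib.FusionSystem.CentralizerCommute
import Cfsg.Agent.Lib.FusionSystem.ControlW

/-!
Section-free saturated systems are constrained as soon as none of them is of characteristic `p`-type with trivial core
over a nontrivial group.
-/

set_option autoImplicit false

namespace CfsgLib.SFreeW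

open Cfsg
open CfsgLib.Fsys
open Cfsg.FusionSystem (centralizerIn normalizerIn imageAlong preimageAlong)

universe u

variable {p : ℕ} [Fact p.Prime] {H : Type*} [Group H] {Ω : Type u} [Group Ω] {S : Subgroup Ω} [Finite S]
  {F : FusionSystem S}

/-- The maps acting on a normal subgroup as elements of `S` form a section-free system. -/
theorem innerOn_sectionFree {F₂ : FusionSystem S} {Q₀ : Subgroup Ω} (hS : IsPGroup p S) (hF : F.IsSaturated p)
    (hfree : F.IsSectionFree p H) (hQ₀ : F.IsNormal Q₀) (hF₂s : F₂.IsSaturated p) (hF₂F : F₂ ≤ F)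
    (hF₂n : F₂.IsNormal Q₀)
    (hF₂m : ∀ {P : Subgroup Ω} {f : Ω → Ω}, Fn F P f → Q₀ ≤ P → (∃ s ∈ S, ∀ x ∈ Q₀, f x = s * x * s⁻¹) → Fn F₂ P f) :
    F₂.IsSectionFree p H := by
  have hsc₀ := normal_stronglyClosed hQ₀
  have hsc₁ : F.StronglyClosed (Q₀ ⊔ centralizerIn S Q₀) := stronglyClosed_sup_centralizer hS hF hsc₀
  refine sectionFree_of_radical hS hF₂s fun R hR hRc hRr M hM L _ ι hL => ?_
  have hQR : Q₀ ≤ R := normal_le_centricRadical hS hF₂n hRc hRr
  have hRF : F.IsCentric R := by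
    refine ⟨hRc.1, fun R' hR' => ?_⟩
    obtain ⟨χ, hχ, rfl⟩ := isConj_iff.1 hR'
    obtain ⟨a', ha', ha'χ, ha'i⟩ := (hχ.mono hQR).exists_inv
    rw [sc_img hsc₀ hQR hχ] at ha' ha'i
    obtain ⟨D, b, hb, hQD, hD, hbe⟩ := receptive_extend (fullyNormalized_receptive hS hF
      (fullyNormalized_of_weaklyClosed (weaklyClosed_of_stronglyClosed hsc₀))) ha' ha'i
    have hQ₁D : Q₀ ⊔ centralizerIn S Q₀ ≤ D := sup_le hQD fun c hc => (hD c).2 (inExt_of_commute hc)
    have hχD : img χ R ≤ D := img_le fun x hx => by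
      refine (hD _).2 ⟨hχ.mem hx, sc_le_normalizer hsc₀ (hχ.mem hx), x, hχ.le hx, fun y hy => ?_⟩
      obtain ⟨q, hq, rfl⟩ := (hχ.mono hQR).mem_img.1 ((sc_img hsc₀ hQR hχ).ge hy)
      have hxq : x * q * x⁻¹ ∈ Q₀ := sc_conj hsc₀ (hχ.le hx) hq
      rw [← hχ.map_conj hx (hQR hq), ha'χ _ hxq, ha'χ q hq]
    have hmD : ∀ x ∈ R, χ x ∈ D := fun x hx => hχD (mem_img_of_mem hx)
    have hc₂ : Fn F₂ R (b ∘ χ) := hF₂m (hχ.comp hb hmD) hQR ⟨1, S.one_mem, fun x hx => by
      show b (χ x) = _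
      rw [hbe _ ((sc_img hsc₀ hQR hχ).le (mem_img_of_mem hx)), ha'χ x hx]
      simp⟩
    intro c hc
    have hc' := mem_centralizerIn.1 hc
    have hcQ : c ∈ centralizerIn S Q₀ := mem_centralizerIn.2 ⟨hc'.1, fun y hy =>
      hc'.2 y (img_mono hQR ((sc_img hsc₀ hQR hχ).ge hy))⟩
    have hcD : c ∈ D := hQ₁D (Subgroup.mem_sup_right hcQ)
    have h1 : b c ∈ img (b ∘ χ) R := hRc.2 _ (isConj_of_fn hc₂) (mem_centralizerIn.2 ⟨hb.mem hcD, fun y hy => by
      obtain ⟨x, hx, rfl⟩ := hc₂.mem_img.1 hy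
      show b (χ x) * b c = b c * b (χ x)
      rw [← hb.map_mul (hmD x hx) hcD, ← hb.map_mul hcD (hmD x hx), hc'.2 _ (mem_img_of_mem hx)]⟩)
    obtain ⟨x, hx, hxe⟩ := hc₂.mem_img.1 h1
    exact hb.inj (hmD x hx) hcD hxe ▸ mem_img_of_mem hx
  exact not_involves_of_model hS hF hfree hRF
    (fun P φ hφ => hF₂F P (normalizerSystem_sub hM P hφ)) (normalizerSystem_normal hM hRc.1) hL

/-- The reduction. -/
theorem constrained_of_local
    (hmain : ∀ {Ω : Type u} [Group Ω] (S : Subgroup Ω) [Finite S], IsPGroup p S → ∀ F : FusionSystem S,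
      F.IsSaturated p → F.IsSectionFree p H → F.core = ⊥ → F.IsOfCharacteristicPType p → S = ⊥)
    (hS : IsPGroup p S) (hF : F.IsSaturated p) (hfree : F.IsSectionFree p H) : F.IsConstrained p := by
  suffices key : ∀ n : ℕ, ∀ {Ω : Type u} [Group Ω] (S : Subgroup Ω) [Finite S], Nat.card S = n → IsPGroup p S →
      ∀ m : ℕ, ∀ (F : FusionSystem S), (homSet F).ncard = m → F.IsSaturated p → F.IsSectionFree p H →
        F.IsConstrained p from key _ S rfl hS _ F rfl hF hfree
  clear hS hF hfree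
  intro n
  induction n using Nat.strong_induction_on with
  | _ n ihn =>
  intro Ω _ S _ hn hS m
  induction m using Nat.strong_induction_on with
  | _ m ihm =>
  intro F hm hF hfree
  have ihF : ∀ E : FusionSystem S, E ≤ F → ¬ F ≤ E → E.IsSaturated p → E.IsSectionFree p H → E.IsConstrained p :=
    fun E hle hne hsat hfr => ihm _ (hm ▸ homSet_lt hle hne) E rfl hsat hfr
  set Q₀ := F.core with hQ₀def
  have hQ₀ : F.IsNormal Q₀ := core_normal
  by_cases hcent : centralizerIn S Q₀ ≤ Q₀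
  · exact ⟨hF, Q₀, hQ₀, normal_centric hQ₀ hcent⟩
  exfalso
  have hsc₀ := normal_stronglyClosed hQ₀
  rcases eq_or_ne Q₀ ⊥ with hQ₀1 | hQ₀1
  · -- trivial core: the local systems are smaller
    refine hcent (fun x hx => ?_)
    have hS1 : S = ⊥ := by
      refine hmain S hS F hF hfree hQ₀1 fun U hU hUn N hN => ?_
      rcases eq_or_lt_of_le (normalizerIn_le : normalizerIn S U ≤ S) with he | hlt
      · obtain ⟨E, hE⟩ := exists_cast he N
        have hEF : E ≤ F := fun P φ hφ => normalizerSystem_sub hN P (hE P ▸ hφ)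
        have hEn : E.IsNormal U := system_cast (C := fun _ E => E.IsNormal U) he hE (normalizerSystem_normal hN hUn.1)
        have hc : E.IsConstrained p := ihF E hEF (fun hle => hU (by
            have hn' : F.IsNormal U := by rwa [system_ext (E := F) (E' := E) fun P => (hle P).antisymm (hEF P)]
            exact le_bot_iff.1 (hQ₀1 ▸ le_core hn')))
          (system_cast (C := fun _ E => E.IsSaturated p) he hE (normalizerSystem_saturated hS hF hUn hN))
          (system_cast (C := fun _ E => E.IsSectionFree p H) he hE (normalizer_sectionFree hS hF hfree hUn hN))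
        exact system_cast (C := fun _ E => E.IsConstrained p) he.symm (fun P => (hE P).symm) hc
      · have := normalizerSystem_finite (S := S) (Q := U)
        exact ihn _ (hn ▸ card_lt_of_lt' hlt) _ rfl (hS.to_le normalizerIn_le) _ N rfl
          (normalizerSystem_saturated hS hF hUn hN) (normalizer_sectionFree hS hF hfree hUn hN)
    have := (mem_centralizerIn.1 hx).1
    rw [hS1, Subgroup.mem_bot] at this
    rw [this]
    exact one_mem _
  obtain ⟨F₂, hF₂s, hF₂F, hF₂n, hF₂m, hF₂i⟩ := exists_innerOn hS hF hQ₀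
  by_cases hall : F ≤ F₂
  · -- pass to the factor system
    have hinner : ∀ {P : Subgroup Ω} {f : Ω → Ω}, Fn F P f →
        ∃ g, Fn F (P ⊔ Q₀) g ∧ (∀ x ∈ P, g x = f x) ∧ ∃ s ∈ S, ∀ x ∈ Q₀, g x = s * x * s⁻¹ := fun hf =>
      hF₂i (fn_of_le hall hf)
    have hQn : (Q₀.subgroupOf S).Normal := ⟨fun x hx s => sc_conj hsc₀ s.2 hx⟩
    let θ : S →* S ⧸ Q₀.subgroupOf S := QuotientGroup.mk' _
    obtain ⟨E, hE⟩ := exists_factorSystem (F := F) hsc₀ θ (fun s => QuotientGroup.eq_one_iff s) rfl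
    have hEs : E.IsSaturated p := surjectiveMorphism_saturated hS hF (factor_surjectiveMorphism hS hF hsc₀ hE)
    have hfinR : Finite θ.range := inferInstance
    have hcard : Nat.card θ.range < n := by
      rw [← hn, MonoidHom.range_eq_top.2 (QuotientGroup.mk'_surjective _), Subgroup.card_top,
        (Q₀.subgroupOf S).card_eq_card_quotient_mul_card_subgroup]
      refine lt_mul_of_one_lt_right Nat.card_pos ?_
      rw [Nat.card_congr (Subgroup.subgroupOfEquivOfLe hQ₀.1).toEquiv]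
      have := finite_of_le_base hQ₀.1
      exact (Subgroup.one_lt_card_iff_ne_bot _).2 hQ₀1
    have hpr : IsPGroup p θ.range := hS.of_surjective θ.rangeRestrict θ.rangeRestrict_surjective
    obtain ⟨-, Y, hY, hYc⟩ :=
      ihn _ hcard θ.range rfl hpr _ E rfl hEs (factor_sectionFree hS hF hQ₀ hfree hE)
    have hle : preimageAlong θ Y ≤ Q₀ := le_core (normal_preimage hS hF hQ₀ hinner hE hY)
    have hbot : Y = ⊥ := (Subgroup.eq_bot_iff_forall _).2 fun y hy => by
      obtain ⟨x, hx, hxS, rfl⟩ := mem_imageAlong.1 ((imageAlong_preimageAlong (α := θ) hYc.1).ge hy)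
      exact (factor_ker hE hxS).2 (hle hx)
    refine hcent fun x hx => ?_
    have hxS := (mem_centralizerIn.1 hx).1
    have hm : θ ⟨x, hxS⟩ ∈ centralizerIn θ.range Y := mem_centralizerIn.2 ⟨⟨_, rfl⟩, fun y hy => by
      rw [hbot, Subgroup.mem_bot] at hy
      rw [hy, one_mul, mul_one]⟩
    have h1 := centralizer_le_of_centric hYc hm
    rw [hbot, Subgroup.mem_bot] at h1
    exact (QuotientGroup.eq_one_iff (⟨x, hxS⟩ : S)).1 h1
  · -- the centralizer system is constrained
    have hc₂ := ihF F₂ hF₂F hall hF₂s (innerOn_sectionFree hS hF hfree hQ₀ hF₂s hF₂F hF₂n hF₂m)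
    obtain ⟨D, hD, hDn⟩ := CoreLayer.exists_normal_centralizer hS hF hQ₀
    obtain ⟨⟨hDs, -, hinv⟩, -⟩ := id hDn
    have hsub : D.IsSubsystemOf F₂ := fun P φ hφ => by
      obtain ⟨hP, -, g, hg, hge, hgQ⟩ := (WNR.fn_centralizer hD).1 (fn_ofHom hφ)
      have h2 : Fn F₂ (P ⊔ Q₀) g := hF₂m hg le_sup_right ⟨1, S.one_mem, fun x hx => by simp [hgQ x hx]⟩
      exact mem_hom_of_fn (h2.mono le_sup_left) fun x => by rw [hge x x.2, ofHom_coe]
    have hK₂ : F₂.StronglyClosed (centralizerIn S Q₀) := stronglyClosed_iff_fn.2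
      ⟨centralizerIn_le, fun P f hf x hx hxK => sc_apply hinv.2.1 (fn_of_le hF₂F hf) hx hxK⟩
    haveI := finite_of_le_base (centralizerIn_le : centralizerIn S Q₀ ≤ S)
    have hDc := constrained_of_stronglyClosed hS hc₂ hsub hK₂ hDs
    have hU := normal_closure_images hS hF ⟨hDs, hF, hinv⟩ (core_normal (F := D))
    have hR : D.core ≤ Q₀ := fun r hr => le_core hU (Subgroup.subset_closure
      ⟨D.core.subtype, mem_hom_of_fn (fn_id (F := F) (core_le_base.trans centralizerIn_le)) fun x => rfl, ⟨r, hr⟩, rfl⟩)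
    refine hcent fun x hx => hR (centralizer_le_of_centric (core_centric hDc) (mem_centralizerIn.2 ⟨hx, fun y hy => ?_⟩))
    exact (mem_centralizerIn.1 hx).2 y (hR hy)

end CfsgLib.SFreeW
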