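import Cfsg.Agent.Lib.SFreeW.BadH

/-!
A group minimal above `M` in which a normal subgroup of `M` leaves the 2-core: a subgroup `L` generated by elements
of odd order supplementing `M`, and a subgroup `Φ` of the core, minimal among the normal ones moved by `L`.
-/

set_option autoImplicit false
set_option linter.unusedSectionVars false
set_option linter.style.haveILetI false

open scoped commutatorElement

namespace CfsgLib.SFreeW

open Subgroup
open CfsgLib.Fusion.SFreeFF CfsgLib.Fusion.CentralOffender CfsgLib.Solvable.Cores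

universe u

variable {X : Type u} [Group X] [Finite X]

/-- A nontrivial subgroup of a 2-group is not its own commutator with it. -/
theorem not_le_commutator {A Q : Subgroup X} (hQ : IsPGroup 2 Q) (hA : A ≤ Q) (hne : A ≠ ⊥) : ¬ A ≤ ⁅A, Q⁆ := by
  intro h
  haveI : Fact (Nat.Prime 2) := ⟨Nat.prime_two⟩
  obtain ⟨n, hn⟩ := (Subgroup.isNilpotent_iff_lowerCentralSeries Q).mp hQ.isNilpotent
  have hall : ∀ m, A ≤ Q.lowerCentralSeries m := by
    intro m
    induction m with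
    | zero => exact hA
    | succ m ih => exact h.trans (commutator_mono ih le_rfl)
  exact hne (le_bot_iff.mp (hn ▸ hall n))

/-- A nontrivial 2-subgroup contains a proper subgroup with all its squares. -/
theorem exists_sq_mem {A : Subgroup X} (hA : IsPGroup 2 A) (hne : A ≠ ⊥) :
    ∃ B < A, ∀ a ∈ A, a * a ∈ B := by
  haveI : Fact (Nat.Prime 2) := ⟨Nat.prime_two⟩
  obtain ⟨n, hn, hcard⟩ := hA.nontrivial_iff_card.mp ((nontrivial_iff_ne_bot A).mpr hne)
  obtain ⟨B, hB⟩ := Sylow.exists_subgroup_card_pow_prime 2 (G := A) (n := n - 1)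
    (hcard ▸ pow_dvd_pow 2 (Nat.sub_le n 1))
  have hidx : B.index = 2 := by
    have h := B.card_mul_index
    rw [hB, hcard, ← Nat.sub_add_cancel hn, pow_succ] at h
    exact Nat.eq_of_mul_eq_mul_left (by positivity) h
  refine ⟨B.map A.subtype, lt_of_le_of_ne (map_subtype_le B) fun h => ?_, fun a ha =>
    ⟨⟨a, ha⟩ * ⟨a, ha⟩, by rw [← pow_two]; exact sq_mem_of_index_two hidx _, rfl⟩⟩
  have hc : Nat.card (B.map A.subtype) = Nat.card B := card_map_of_injective A.subtype_injective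
  rw [h] at hc
  rw [B.eq_top_of_card_eq hc.symm, index_top] at hidx
  omega

/-- An element of odd order acting trivially on its commutator with a 2-element centralises it. -/
theorem commute_of_odd {x f : X} (hx : Odd (orderOf x)) (hc : Commute x ⁅x, f⁆) {i : ℕ} (hp : ⁅x, f⁆ ^ 2 ^ i = 1) :
    x * f = f * x := by
  have key : ∀ n : ℕ, x ^ n * f * (x ^ n)⁻¹ = ⁅x, f⁆ ^ n * f := by
    intro n
    induction n with
    | zero => simp
    | succ n ih =>
      have e : x ^ (n + 1) * f * (x ^ (n + 1))⁻¹ = x * (x ^ n * f * (x ^ n)⁻¹) * x⁻¹ := by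
        rw [pow_succ']; group
      rw [e, ih, ← mul_assoc x, (hc.pow_right n).eq, pow_succ, commutatorElement_def]
      group
  have h := key (orderOf x)
  rw [pow_orderOf_eq_one, one_mul, inv_one, mul_one, right_eq_mul] at h
  have h1 : orderOf ⁅x, f⁆ = 1 := Nat.Coprime.eq_one_of_dvd
    ((Nat.Coprime.coprime_dvd_left (orderOf_dvd_of_pow_eq_one hp)
      (Nat.Coprime.pow_left i hx.coprime_two_left))) (orderOf_dvd_of_pow_eq_one h)
  rw [orderOf_eq_one_iff, commutatorElement_eq_one_iff_mul_comm] at h1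
  exact h1

/-- The configuration found inside the minimal group. -/
structure Slice (T M W Y R L Φ : Subgroup X) : Prop where
  L_norm : L.Normal
  sup : L ⊔ M = ⊤
  Φ_norm : Φ.Normal
  Φ_le : Φ ≤ R
  fix_norm : (Φ ⊓ centralizer (L : Set X)).Normal
  proper : ¬ Φ ≤ centralizer (L : Set X)
  irred : ∀ U : Subgroup X, U.Normal → U ≤ Φ → U = Φ ∨ U ≤ Φ ⊓ centralizer (L : Set X)
  comm_core : ⁅Φ, Cfsg.pCore 2 X⁆ ≤ Φ ⊓ centralizer (L : Set X)
  sq : ∀ x ∈ Φ, x * x ∈ Φ ⊓ centralizer (L : Set X)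
  centralised : ∀ q ∈ Cfsg.pCore 2 X, q ∈ centralizer (L : Set X) → ∀ x ∈ Φ, x * q = q * x
  closure_W : W ≤ centralizer (Φ : Set X) → False
  gen : ∀ x : X, (∀ l ∈ L, x * l = l * x) → x ∈ Y → x ∈ Cfsg.pCore 2 X
  comm_gen : ∀ y : X, (∀ l ∈ L, ∀ w ∈ W, y * (l * w * l⁻¹) = l * w * l⁻¹ * y) → ∀ l ∈ L, y * l = l * y
  kernel : ∀ w ∈ W, (∀ x ∈ Φ, ⁅w, x⁆ ∈ Φ ⊓ centralizer (L : Set X)) → w ∈ Cfsg.pCore 2 X

theorem exists_slice {T M W Y R : Subgroup X} [R.Normal] (hT : SylIn T ⊤) (hTM : T ≤ M)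
    (hWY : W ≤ Y) (hYT : Y ≤ T) (hMW : M ≤ normalizer (W : Set X)) (hMY : M ≤ normalizer (Y : Set X))
    (hR : IsPGroup 2 R) (hRC : centralizer (R : Set X) ≤ R) (hW : ¬ W ≤ Cfsg.pCore 2 X)
    (hmin : ∀ L' : Subgroup X, M ≤ L' → L' ≠ ⊤ → W ≤ (Cfsg.pCore 2 L').map L'.subtype) :
    ∃ L Φ : Subgroup X, Slice T M W Y R L Φ := by
  haveI : Fact (Nat.Prime 2) := ⟨Nat.prime_two⟩
  set Q := Cfsg.pCore 2 X with hQ
  haveI hQn : Q.Normal := pCore_normal 2
  have hQ2 : IsPGroup 2 Q := isPGroup_pCore 2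
  have hRQ : R ≤ Q := le_pCore hR
  set Lp := normalClosure (W : Set X) with hLp
  haveI : Lp.Normal := normalClosure_normal
  set L := Subgroup.closure {x : X | x ∈ Lp ∧ Odd (orderOf x)} with hLdef
  haveI hLn : L.Normal := ⟨fun n hn g => by
    induction hn using Subgroup.closure_induction with
    | mem x hx =>
      refine Subgroup.subset_closure ⟨‹Lp.Normal›.conj_mem x hx.1 g, ?_⟩
      rw [show g * x * g⁻¹ = MulAut.conj g x from rfl, MulEquiv.orderOf_eq]
      exact hx.2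
    | one => simp
    | mul a b _ _ iha ihb =>
      rw [show g * (a * b) * g⁻¹ = g * a * g⁻¹ * (g * b * g⁻¹) by group]
      exact mul_mem iha ihb
    | inv a _ ih => rw [show g * a⁻¹ * g⁻¹ = (g * a * g⁻¹)⁻¹ by group]; exact inv_mem ih⟩
  have hLLp : L ≤ Lp := (Subgroup.closure_le _).mpr fun x hx => hx.1
  -- the normal closure with `M` is everything
  have hWM : W ≤ M := hWY.trans (hYT.trans hTM)
  have htopp : Lp ⊔ M = ⊤ := by
    by_contra hne
    refine hW ?_
    set L' := Lp ⊔ M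
    set O := (Cfsg.pCore 2 L').map L'.subtype
    have hO : W ≤ O := hmin L' le_sup_right hne
    set Op := (O ⊓ Lp).subgroupOf Lp
    haveI : Op.Normal := ⟨fun o ho g => by
      refine ⟨?_, ‹Lp.Normal›.conj_mem _ ho.2 _⟩
      obtain ⟨o', ho', e⟩ := ho.1
      exact ⟨⟨g, mem_sup_left g.2⟩ * o' * ⟨g, mem_sup_left g.2⟩⁻¹, (pCore_normal 2).conj_mem o' ho' _,
        by rw [map_mul, map_mul, map_inv, e]; rfl⟩⟩
    have h2 : IsPGroup 2 Op := (((isPGroup_pCore 2).map L'.subtype).to_le inf_le_left).comap_subtype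
    intro w hw
    exact map_pCore_le 2 Lp ⟨⟨w, le_normalClosure hw⟩, le_pCore h2 ⟨hO hw, le_normalClosure hw⟩, rfl⟩
  have hsup : L ⊔ M = ⊤ := by
    refine top_le_iff.mp (htopp ▸ sup_le ?_ le_sup_right)
    have hSp : SylIn (T ⊓ Lp) Lp := hT.inf le_top (Subgroup.normalizer_eq_top (H := Lp)).ge
    have hp : IsPGroup 2 (Lp.map (QuotientGroup.mk' L)) := by
      rintro ⟨_, x, hx, rfl⟩
      refine ⟨(orderOf x).factorization 2, Subtype.ext ?_⟩
      rw [SubmonoidClass.coe_pow, ← map_pow]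
      refine (QuotientGroup.eq_one_iff _).mpr (Subgroup.subset_closure ⟨pow_mem hx _, ?_⟩)
      rw [orderOf_pow_of_dvd (pow_ne_zero _ two_ne_zero) (Nat.ordProj_dvd _ 2)]
      exact Nat.odd_iff.mpr (Nat.two_dvd_ne_zero.mp (Nat.not_dvd_ordCompl Nat.prime_two (orderOf_pos x).ne'))
    intro x hx
    obtain ⟨t, ht, e⟩ := (hSp.map_eq _ hp).ge ⟨x, hx, rfl⟩
    have h := QuotientGroup.eq.mp e
    rw [← mul_inv_cancel_left t x]
    exact mul_mem (mem_sup_right (hTM ht.1)) (mem_sup_left h)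
  have hgen : Lp ≤ Subgroup.closure {x | ∃ l ∈ L, ∃ w ∈ W, l * w * l⁻¹ = x} :=
    (Subgroup.closure_le _).mpr fun y hy => by
      obtain ⟨w, hw, hwy⟩ := Group.mem_conjugatesOfSet_iff.mp hy
      obtain ⟨g, rfl⟩ := _root_.isConj_iff.mp hwy
      obtain ⟨l, hl, m, hm, rfl⟩ :=
        Subgroup.mem_sup_of_normal_left.mp (hsup.symm ▸ Subgroup.mem_top g : g ∈ L ⊔ M)
      exact Subgroup.subset_closure ⟨l, hl, m * w * m⁻¹, (mem_normalizer_iff.mp (hMW hm) w).mp hw, by group⟩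
  -- a minimal normal subgroup moved by `L`
  have hRL : ¬ R ≤ centralizer (L : Set X) := fun h => hW <| by
    have hLR : L ≤ R := (le_centralizer_iff.mp h).trans hRC
    have hM : M = ⊤ := by
      refine top_le_iff.mp (hsup ▸ sup_le (hLR.trans (hRQ.trans ?_)) le_rfl)
      obtain ⟨l, -, hl⟩ := hT.exists_conj_le (le_top : Q ≤ ⊤) hQ2
      have := cj_mono hl l⁻¹
      rw [cj_cj, inv_mul_cancel, cj_one,
        mem_normalizer_iff_cj.mp (Subgroup.normalizer_eq_top (H := Q) ▸ Subgroup.mem_top l⁻¹)] at this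
      exact this.trans hTM
    haveI : W.Normal := Subgroup.normalizer_eq_top_iff.mp (top_le_iff.mp (hM ▸ hMW))
    exact le_pCore (hT.pgroup.to_le (hWY.trans hYT))
  obtain ⟨Φ, ⟨hΦn, hΦR, hΦL⟩, hΦmin⟩ := Set.exists_min_image
    {U : Subgroup X | U.Normal ∧ U ≤ R ∧ ¬ U ≤ centralizer (L : Set X)} (fun U => Nat.card U) (Set.toFinite _)
    ⟨R, inferInstance, le_rfl, hRL⟩
  haveI := hΦn
  set F := Φ ⊓ centralizer (L : Set X) with hF
  haveI : (centralizer (L : Set X)).Normal := inferInstance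
  haveI hFn : F.Normal := inferInstance
  have hirr : ∀ U : Subgroup X, U.Normal → U ≤ Φ → U = Φ ∨ U ≤ F := fun U hU hle => by
    by_cases hc : U ≤ centralizer (L : Set X)
    · exact Or.inr (le_inf hle hc)
    · exact Or.inl (Subgroup.eq_of_le_of_card_ge hle (hΦmin U ⟨hU, hle.trans hΦR, hc⟩))
  have hΦQ : Φ ≤ Q := hΦR.trans hRQ
  have hΦne : Φ ≠ ⊥ := fun h => hΦL (h ▸ bot_le)
  have hcomm : ⁅Φ, Q⁆ ≤ F :=
    (hirr _ inferInstance (commutator_le_left Φ Q)).resolve_left fun h => not_le_commutator hQ2 hΦQ hΦne h.ge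
  have hsq : ∀ x ∈ Φ, x * x ∈ F := by
    obtain ⟨B, hB, hBsq⟩ := exists_sq_mem (hR.to_le hΦR) hΦne
    set U := normalClosure {y | ∃ x ∈ Φ, y = x * x}
    have hUΦ : U ≤ Φ := normalClosure_le_normal (by rintro _ ⟨x, hx, rfl⟩; exact mul_mem hx hx)
    have hUB : U ≤ B := (Subgroup.closure_le _).mpr fun z hz => by
      obtain ⟨_, ⟨x, hx, rfl⟩, hwy⟩ := Group.mem_conjugatesOfSet_iff.mp hz
      obtain ⟨g, rfl⟩ := _root_.isConj_iff.mp hwy
      rw [show g * (x * x) * g⁻¹ = g * x * g⁻¹ * (g * x * g⁻¹) by group]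
      exact hBsq _ (hΦn.conj_mem x hx g)
    have h := (hirr U normalClosure_normal hUΦ).resolve_left fun h => hB.not_ge (h ▸ hUB)
    exact fun x hx => h (subset_normalClosure ⟨x, hx, rfl⟩)
  -- `L` reproduces `Φ`
  have hfull : Φ ≤ ⁅Φ, L⁆ := by
    rcases hirr ⁅Φ, L⁆ inferInstance (commutator_le_left Φ L) with h | h
    · exact h.ge
    refine absurd (le_centralizer_iff.mp ((Subgroup.closure_le _).mpr fun x hx => ?_)) hΦL
    refine mem_centralizer_iff.mpr fun f hf => ?_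
    have hc : ⁅x, f⁆ ∈ F := h (by
      rw [commutator_comm]
      exact commutator_mem_commutator (Subgroup.subset_closure hx) hf)
    obtain ⟨i, hi⟩ := (hR.to_le hΦR) ⟨_, hc.1⟩
    exact (commute_of_odd hx.2 (mem_centralizer_iff.mp hc.2 x (Subgroup.subset_closure hx))
      (congrArg Subtype.val hi)).symm
  have hcent : ∀ q ∈ Q, q ∈ centralizer (L : Set X) → ∀ x ∈ Φ, x * q = q * x := by
    set C := Q ⊓ centralizer (L : Set X)
    have h1 : ⁅⁅L, C⁆, Φ⁆ = ⊥ := by
      rw [show ⁅L, C⁆ = ⊥ from commutator_eq_bot_iff_le_centralizer.mpr (le_centralizer_iff.mp inf_le_right),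
        commutator_bot_left]
    have h2 : ⁅⁅C, Φ⁆, L⁆ = ⊥ := by
      refine commutator_eq_bot_iff_le_centralizer.mpr ?_
      rw [commutator_comm]
      exact ((commutator_mono le_rfl inf_le_left).trans hcomm).trans inf_le_right
    have h3 : ⁅Φ, C⁆ = ⊥ := le_bot_iff.mp
      ((commutator_mono hfull le_rfl).trans (commutator_commutator_eq_bot_of_rotate h1 h2).le)
    intro q hq hqL x hx
    exact (mem_centralizer_iff.mp (commutator_eq_bot_iff_le_centralizer.mp h3 hx) q ⟨hq, hqL⟩).symm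
  refine ⟨L, Φ, hLn, hsup, hΦn, hΦR, hFn, hΦL, hirr, hcomm, hsq, hcent, fun hWΦ => ?_, fun x hx hxY => ?_,
    fun y hy l hl => ?_, ?_⟩
  · haveI : (centralizer (Φ : Set X)).Normal := inferInstance
    exact hΦL (le_centralizer_iff.mp (hLLp.trans (normalClosure_le_normal hWΦ)))
  · set U := normalClosure ({x} : Set X)
    have hU : U ≤ Y := (Subgroup.closure_le _).mpr fun z hz => by
      obtain ⟨w, hw, hwy⟩ := Group.mem_conjugatesOfSet_iff.mp hz
      obtain ⟨g, rfl⟩ := _root_.isConj_iff.mp hwy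
      rw [Set.mem_singleton_iff.mp hw]
      obtain ⟨m, hm, l, hl, rfl⟩ :=
        Subgroup.mem_sup_of_normal_right.mp (((sup_comm L M).symm.trans hsup).symm ▸ Subgroup.mem_top g : g ∈ M ⊔ L)
      rw [show m * l * x * (m * l)⁻¹ = m * (l * x * l⁻¹) * m⁻¹ by group, ← hx l hl, mul_inv_cancel_right]
      exact (mem_normalizer_iff.mp (hMY hm) x).mp hxY
    haveI : U.Normal := normalClosure_normal
    exact le_pCore (hT.pgroup.to_le (hU.trans hYT)) (subset_normalClosure rfl)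
  · have h : Lp ≤ centralizer {y} := hgen.trans ((Subgroup.closure_le _).mpr (by
      rintro _ ⟨l', hl', w, hw, rfl⟩
      exact mem_centralizer_singleton_iff.mpr (hy l' hl' w hw).symm))
    exact (mem_centralizer_singleton_iff.mp (h (hLLp hl))).symm
  -- the kernel on the chief factor meets `W` in the core
  let C : Subgroup X :=
    { carrier := {g | ∀ x ∈ Φ, ⁅g, x⁆ ∈ F}
      one_mem' := fun x _ => by rw [commutatorElement_one_left]; exact F.one_mem
      mul_mem' := fun {a b} ha hb x hx => by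
        rw [show ⁅a * b, x⁆ = a * ⁅b, x⁆ * a⁻¹ * ⁅a, x⁆ by simp only [commutatorElement_def]; group]
        exact mul_mem (hFn.conj_mem _ (hb x hx) a) (ha x hx)
      inv_mem' := fun {a} ha x hx => by
        rw [show ⁅a⁻¹, x⁆ = a⁻¹ * ⁅a, x⁆⁻¹ * a⁻¹⁻¹ by simp only [commutatorElement_def]; group]
        exact hFn.conj_mem _ (inv_mem (ha x hx)) _ }
  haveI hCn : C.Normal := ⟨fun c hc g x hx => by
    have h := hc (g⁻¹ * x * g⁻¹⁻¹) (hΦn.conj_mem x hx g⁻¹)
    rw [show ⁅g * c * g⁻¹, x⁆ = g * ⁅c, g⁻¹ * x * g⁻¹⁻¹⁆ * g⁻¹ by simp only [commutatorElement_def]; group]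
    exact hFn.conj_mem _ h g⟩
  have hLC : ¬ L ≤ C := fun h => hΦL (hfull.trans (((commutator_comm Φ L).le.trans
    (commutator_le.mpr fun l hl x hx => h hl x hx)).trans inf_le_right))
  by_cases hCM : C ⊔ M = ⊤
  · -- the image of `W` would be a normal 2-subgroup of an irreducible group
    exfalso
    have hCW : Lp ≤ C ⊔ W := (Subgroup.closure_le _).mpr fun y hy => by
      obtain ⟨w, hw, hwy⟩ := Group.mem_conjugatesOfSet_iff.mp hy
      obtain ⟨g, rfl⟩ := _root_.isConj_iff.mp hwy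
      obtain ⟨c, hc, m, hm, rfl⟩ :=
        Subgroup.mem_sup_of_normal_left.mp (hCM.symm ▸ Subgroup.mem_top g : g ∈ C ⊔ M)
      have hw' := (mem_normalizer_iff.mp (hMW hm) w).mp hw
      rw [show c * m * w * (c * m)⁻¹ = c * ((m * w * m⁻¹) * c⁻¹ * (m * w * m⁻¹)⁻¹) * (m * w * m⁻¹) by group]
      exact mul_mem (mem_sup_left (mul_mem hc (hCn.conj_mem _ (inv_mem hc) _))) (mem_sup_right hw')
    have hW2 : IsPGroup 2 W := hT.pgroup.to_le (hWY.trans hYT)
    refine hLC fun l hl x hx => ?_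
    have hpow : ∀ l' ∈ Lp, ∃ i : ℕ, l' ^ 2 ^ i ∈ C := fun l' hl' => by
      obtain ⟨c, hc, w, hw, rfl⟩ := Subgroup.mem_sup_of_normal_left.mp (hCW hl')
      obtain ⟨i, hi⟩ := hW2 ⟨w, hw⟩
      refine ⟨i, (QuotientGroup.eq_one_iff _).mp ?_⟩
      rw [QuotientGroup.mk_pow, QuotientGroup.mk_mul, (QuotientGroup.eq_one_iff c).mpr hc, one_mul,
        ← QuotientGroup.mk_pow, show w ^ 2 ^ i = 1 from congrArg Subtype.val hi, QuotientGroup.mk_one]
    suffices hodd : ∀ l' ∈ {x : X | x ∈ Lp ∧ Odd (orderOf x)}, l' ∈ C from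
      (Subgroup.closure_le _).mpr hodd hl x hx
    rintro l' ⟨hl', ho⟩
    obtain ⟨i, hi⟩ := hpow l' hl'
    refine (QuotientGroup.eq_one_iff _).mp (orderOf_eq_one_iff.mp (Nat.Coprime.eq_one_of_dvd
      (Nat.Coprime.coprime_dvd_left (orderOf_dvd_of_pow_eq_one (x := (l' : X ⧸ C)) (n := 2 ^ i) (by
        rw [← QuotientGroup.mk_pow, (QuotientGroup.eq_one_iff _).mpr hi]))
        (Nat.Coprime.pow_left i ho.coprime_two_left))
      (orderOf_map_dvd (QuotientGroup.mk' C) l')))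
  · intro w hw hwC
    have h := hmin (C ⊔ M) le_sup_right hCM hw
    set O := (Cfsg.pCore 2 ↥(C ⊔ M)).map (C ⊔ M).subtype
    haveI : ((O ⊓ C).subgroupOf C).Normal := ⟨fun o ho g => by
      refine ⟨?_, hCn.conj_mem _ ho.2 _⟩
      obtain ⟨o', ho', e⟩ := ho.1
      exact ⟨⟨g, mem_sup_left g.2⟩ * o' * ⟨g, mem_sup_left g.2⟩⁻¹, (pCore_normal 2).conj_mem o' ho' _,
        by rw [map_mul, map_mul, map_inv, e]; rfl⟩⟩
    have h2 : IsPGroup 2 ((O ⊓ C).subgroupOf C) :=
      (((isPGroup_pCore 2).map (C ⊔ M).subtype).to_le inf_le_left).comap_subtype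
    exact map_pCore_le 2 C ⟨⟨w, hwC⟩, le_pCore h2 ⟨h, hwC⟩, rfl⟩

end CfsgLib.SFreeW
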